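import Mathlib
import Groth.Agent.Lib.Helper7.Hens.Filtered

/-!
# The colimit of all étale algebras with a section modulo `I`
-/

open CategoryTheory CategoryTheory.Limits TensorProduct

namespace Groth.Agent.Helper7.Hens

universe u

variable (A : Type u) [CommRing A] (I : Ideal A)

/-- The henselization of the pair `(A, I)` as an object of `CommRingCat`. -/
noncomputable def HObj : CommRingCat.{u} := colimit (Nbhd.toRing (A := A) (I := I))

/-- The henselization of the pair `(A, I)` as a type. -/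
abbrev H : Type u := (HObj A I : CommRingCat.{u})

variable {A I}

/-- The structure maps of the colimit. -/
noncomputable def ι (X : Nbhd A I) : X.Ring →+* H A I :=
  (colimit.ι (Nbhd.toRing (A := A) (I := I)) X).hom

theorem ι_hom {X Y : Nbhd A I} (f : X ⟶ Y) (x : X.Ring) :
    ι Y ((f : Nbhd.Hom X Y).toAlgHom x) = ι X x := by
  have := colimit.w (Nbhd.toRing (A := A) (I := I)) f
  exact ConcreteCategory.congr_hom this x

theorem exists_rep (c : H A I) : ∃ (X : Nbhd A I) (x : X.Ring), ι X x = c :=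
  Concrete.colimit_exists_rep (Nbhd.toRing (A := A) (I := I)) c

theorem ι_eq_iff {X Y : Nbhd A I} (x : X.Ring) (y : Y.Ring) :
    ι X x = ι Y y ↔ ∃ (Z : Nbhd A I) (f : X ⟶ Z) (g : Y ⟶ Z),
      (f : Nbhd.Hom X Z).toAlgHom x = (g : Nbhd.Hom Y Z).toAlgHom y :=
  Concrete.colimit_rep_eq_iff_exists (Nbhd.toRing (A := A) (I := I)) x y

theorem ι_eq_of_hom {X Y Z : Nbhd A I} (f : X ⟶ Z) (g : Y ⟶ Z) (x : X.Ring) (y : Y.Ring)
    (h : (f : Nbhd.Hom X Z).toAlgHom x = (g : Nbhd.Hom Y Z).toAlgHom y) : ι X x = ι Y y :=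
  (ι_eq_iff x y).mpr ⟨Z, f, g, h⟩

theorem ι_algebraMap_eq (X Y : Nbhd A I) (a : A) :
    ι X (algebraMap A X.Ring a) = ι Y (algebraMap A Y.Ring a) := by
  obtain ⟨Z, f, g, -⟩ := Nbhd.exists_cocone_objs X Y
  apply ι_eq_of_hom f g
  rw [AlgHom.commutes, AlgHom.commutes]

noncomputable instance : Algebra A (H A I) :=
  ((ι (Nbhd.base A I)).comp (algebraMap A (Nbhd.base A I).Ring)).toAlgebra

theorem ι_algebraMap (X : Nbhd A I) (a : A) :
    ι X (algebraMap A X.Ring a) = algebraMap A (H A I) a :=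
  ι_algebraMap_eq X (Nbhd.base A I) a

/-- The structure maps as algebra maps. -/
noncomputable def ιAlg (X : Nbhd A I) : X.Ring →ₐ[A] H A I :=
  { ι X with commutes' := ι_algebraMap X }

@[simp] theorem ιAlg_apply (X : Nbhd A I) (x : X.Ring) : ιAlg X x = ι X x := rfl

/-- Two representatives can be moved to a common stage. -/
theorem exists_rep₂ (c d : H A I) :
    ∃ (X : Nbhd A I) (x y : X.Ring), ι X x = c ∧ ι X y = d := by
  obtain ⟨X, x, rfl⟩ := exists_rep c
  obtain ⟨Y, y, rfl⟩ := exists_rep d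
  obtain ⟨Z, f, g, -⟩ := Nbhd.exists_cocone_objs X Y
  exact ⟨Z, (f : Nbhd.Hom X Z).toAlgHom x, (g : Nbhd.Hom Y Z).toAlgHom y, ι_hom f x, ι_hom g y⟩

/-- Finitely many elements can be represented at a common stage above a given one. -/
theorem exists_rep_fin (X₀ : Nbhd A I) {n : ℕ} (c : Fin n → H A I) :
    ∃ (X : Nbhd A I) (_ : X₀ ⟶ X) (x : Fin n → X.Ring), ∀ i, ι X (x i) = c i := by
  induction n with
  | zero => exact ⟨X₀, 𝟙 X₀, fun i => i.elim0, fun i => i.elim0⟩
  | succ n ih =>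
    obtain ⟨X, f, x, hx⟩ := ih (fun i => c i.succ)
    obtain ⟨Y, y, hy⟩ := exists_rep (c 0)
    obtain ⟨Z, g, h, -⟩ := Nbhd.exists_cocone_objs X Y
    refine ⟨Z, f ≫ g, Fin.cons ((h : Nbhd.Hom Y Z).toAlgHom y)
      (fun i => (g : Nbhd.Hom X Z).toAlgHom (x i)), ?_⟩
    intro i
    refine Fin.cases ?_ (fun j => ?_) i
    · rw [Fin.cons_zero, ι_hom, hy]
    · rw [Fin.cons_succ, ι_hom, hx]

/-- If two elements of a stage become equal in the colimit, they are equal at a later stage. -/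
theorem exists_hom_eq_of_ι_eq {X : Nbhd A I} (x y : X.Ring) (h : ι X x = ι X y) :
    ∃ (Z : Nbhd A I) (f : X ⟶ Z),
      (f : Nbhd.Hom X Z).toAlgHom x = (f : Nbhd.Hom X Z).toAlgHom y := by
  obtain ⟨Z, f, g, hfg⟩ := (ι_eq_iff x y).mp h
  obtain ⟨W, k, hk⟩ := Nbhd.exists_cocone_maps X Z f g
  refine ⟨W, f ≫ k, ?_⟩
  have h1 : (f ≫ k : Nbhd.Hom X W).toAlgHom y = (g ≫ k : Nbhd.Hom X W).toAlgHom y := by rw [hk]
  rw [h1]
  simp only [Nbhd.comp_toAlgHom, AlgHom.comp_apply]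
  rw [hfg]

end Groth.Agent.Helper7.Hens
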