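import Mathlib
import Groth.Agent.Lib.Helper7.Hens.Colim
import Groth.Agent.Lib.Helper7.CAlg.UnitLeadFactorLift

/-!
# Tight neighbourhoods and the ideal `I · H`
-/

open CategoryTheory CategoryTheory.Limits TensorProduct

namespace Groth.Agent.Helper7.Hens

universe u

variable {A : Type u} [CommRing A] {I : Ideal A}

theorem algHom_mem_map {B C : Type*} [CommRing B] [CommRing C] [Algebra A B] [Algebra A C]
    (φ : B →ₐ[A] C) {x : B} (hx : x ∈ I.map (algebraMap A B)) :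
    φ x ∈ I.map (algebraMap A C) := by
  have h1 : φ x ∈ (I.map (algebraMap A B)).map φ.toRingHom := Ideal.mem_map_of_mem _ hx
  rw [Ideal.map_map] at h1
  have h2 : φ.toRingHom.comp (algebraMap A B) = algebraMap A C := φ.comp_algebraMap
  rw [h2] at h1
  exact h1

theorem algHom_quot_eq_zero {B : Type*} [CommRing B] [Algebra A B] (s : B →ₐ[A] A ⧸ I) {x : B}
    (hx : x ∈ I.map (algebraMap A B)) : s x = 0 := by
  have := algHom_mem_map (I := I) s hx
  rw [Ideal.Quotient.algebraMap_eq, Ideal.map_quotient_self] at this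
  exact this

theorem ι_mem_map {X : Nbhd A I} {x : X.Ring} (hx : x ∈ I.map (algebraMap A X.Ring)) :
    ι X x ∈ I.map (algebraMap A (H A I)) :=
  algHom_mem_map (ιAlg X) hx

theorem mem_map_iff (c : H A I) :
    c ∈ I.map (algebraMap A (H A I)) ↔
      ∃ (X : Nbhd A I) (x : X.Ring), x ∈ I.map (algebraMap A X.Ring) ∧ ι X x = c := by
  constructor
  · intro hc
    refine Submodule.span_induction (p := fun c _ => ∃ (X : Nbhd A I) (x : X.Ring),
      x ∈ I.map (algebraMap A X.Ring) ∧ ι X x = c) ?_ ?_ ?_ ?_ hc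
    · rintro _ ⟨a, ha, rfl⟩
      exact ⟨Nbhd.base A I, algebraMap A _ a, Ideal.mem_map_of_mem _ ha, ι_algebraMap _ a⟩
    · exact ⟨Nbhd.base A I, 0, zero_mem _, map_zero _⟩
    · rintro c d - - ⟨X, x, hx, rfl⟩ ⟨Y, y, hy, rfl⟩
      obtain ⟨Z, f, g, -⟩ := Nbhd.exists_cocone_objs X Y
      refine ⟨Z, (f : Nbhd.Hom X Z).toAlgHom x + (g : Nbhd.Hom Y Z).toAlgHom y,
        add_mem (algHom_mem_map _ hx) (algHom_mem_map _ hy), ?_⟩
      rw [map_add, ι_hom, ι_hom]
    · rintro d c - ⟨X, x, hx, rfl⟩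
      obtain ⟨Y, y, rfl⟩ := exists_rep d
      obtain ⟨Z, f, g, -⟩ := Nbhd.exists_cocone_objs X Y
      refine ⟨Z, (g : Nbhd.Hom Y Z).toAlgHom y * (f : Nbhd.Hom X Z).toAlgHom x,
        Ideal.mul_mem_left _ _ (algHom_mem_map _ hx), ?_⟩
      rw [map_mul, ι_hom, ι_hom, smul_eq_mul]
  · rintro ⟨X, x, hx, rfl⟩
    exact ι_mem_map hx

/-- Every object maps to a *tight* one: an object whose section has kernel `I · Ring`. -/
theorem exists_tight (X : Nbhd A I) :
    ∃ (Y : Nbhd A I) (_ : X ⟶ Y), ∀ y : Y.Ring, Y.sec y = 0 → y ∈ I.map (algebraMap A Y.Ring) := by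
  obtain ⟨g, hbij, hcompat⟩ := Groth.Agent.Helper7.EtaleSection.exists_away I X.sec
  obtain ⟨s', hs'⟩ := Groth.Agent.Helper7.MonicFactorLift.exists_section I hbij
  have hs'X : s'.comp (IsScalarTower.toAlgHom A X.Ring (Localization.Away g)) = X.sec := by
    ext x
    apply hbij.1
    rw [hcompat x]
    exact hs' _
  refine ⟨Nbhd.of (Localization.Away g) s', Nbhd.homOf _ s' _ hs'X, ?_⟩
  intro y hy
  rw [Nbhd.of_sec_apply] at hy
  have h1 : Nbhd.ofEquiv (Localization.Away g) s' y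
      ∈ I.map (algebraMap A (Localization.Away g)) := by
    rw [← Ideal.Quotient.eq_zero_iff_mem, ← hs', hy, map_zero]
  have h2 := algHom_mem_map (Nbhd.ofEquiv (Localization.Away g) s').symm.toAlgHom h1
  have h3 : (Nbhd.ofEquiv (Localization.Away g) s').symm.toAlgHom
      (Nbhd.ofEquiv (Localization.Away g) s' y) = y :=
    (Nbhd.ofEquiv (Localization.Away g) s').symm_apply_apply y
  rw [h3] at h2
  exact h2

/-- **Adjunction lemma**: an étale algebra over a stage with a compatible section maps to the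
colimit, sending the kernel of the section into `I · H`. -/
theorem exists_adjoin (X : Nbhd A I) (E : Type u) [CommRing E] [Algebra A E] [Algebra X.Ring E]
    [IsScalarTower A X.Ring E] [Algebra.Etale X.Ring E] (σ : E →ₐ[A] A ⧸ I)
    (hσ : σ.comp (IsScalarTower.toAlgHom A X.Ring E) = X.sec) :
    ∃ ψ : E →ₐ[A] H A I, (∀ x : X.Ring, ψ (algebraMap X.Ring E x) = ι X x) ∧
      ∀ e : E, σ e = 0 → ψ e ∈ I.map (algebraMap A (H A I)) := by
  have hEt : Algebra.Etale A E := Algebra.Etale.comp A X.Ring E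
  obtain ⟨Y, f, hY⟩ := exists_tight (Nbhd.of E σ)
  let φ : E →ₐ[A] Y.Ring := (f : Nbhd.Hom _ Y).toAlgHom.comp (Nbhd.ofEquiv E σ).symm.toAlgHom
  refine ⟨(ιAlg Y).comp φ, ?_, ?_⟩
  · intro x
    let k : X ⟶ Nbhd.of E σ := Nbhd.homOf E σ (IsScalarTower.toAlgHom A X.Ring E) hσ
    have h1 : ι Y ((k ≫ f : Nbhd.Hom X Y).toAlgHom x) = ι X x := ι_hom (k ≫ f) x
    rw [← h1]
    rfl
  · intro e he
    apply ι_mem_map
    apply hY
    show Y.sec ((f : Nbhd.Hom _ Y).toAlgHom ((Nbhd.ofEquiv E σ).symm.toAlgHom e)) = 0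
    rw [Nbhd.sec_hom, Nbhd.of_sec_apply]
    have : Nbhd.ofEquiv E σ ((Nbhd.ofEquiv E σ).symm.toAlgHom e) = e :=
      (Nbhd.ofEquiv E σ).apply_symm_apply e
    rw [this, he]

end Groth.Agent.Helper7.Hens
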