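import Mathlib
import Groth.Agent.Lib.Helper7.Hens.Tight
import Groth.Agent.Lib.Helper7.Hensel.Iff
import Groth.Agent.Lib.Helper7.Hensel.IdemConverse

/-!
# The colimit `H A I` is henselian along `I · H`
-/

open CategoryTheory CategoryTheory.Limits TensorProduct Polynomial

namespace Groth.Agent.Helper7.Hens

universe u

variable {A : Type u} [CommRing A] {I : Ideal A}

theorem map_le_jacobson : I.map (algebraMap A (H A I)) ≤ Ideal.jacobson ⊥ := by
  intro c hc
  rw [Ideal.mem_jacobson_bot]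
  intro d
  obtain ⟨X, x, hx, rfl⟩ := (mem_map_iff c).mp hc
  obtain ⟨Y, y, rfl⟩ := exists_rep d
  obtain ⟨Z, f, g, -⟩ := Nbhd.exists_cocone_objs X Y
  set t : Z.Ring := (f : Nbhd.Hom X Z).toAlgHom x * (g : Nbhd.Hom Y Z).toAlgHom y + 1 with ht
  have hsec : Z.sec t = 1 := by
    rw [ht, map_add, map_mul, algHom_quot_eq_zero Z.sec (algHom_mem_map _ hx), zero_mul,
      zero_add, map_one]
  obtain ⟨W, h, hu, -⟩ := Nbhd.exists_away Z t (hsec ▸ isUnit_one)
  have h1 : ι X x * ι Y y + 1 = ι W ((h : Nbhd.Hom Z W).toAlgHom t) := by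
    rw [ι_hom, ht, map_add, map_mul, ι_hom, ι_hom, map_one]
  rw [h1]
  exact hu.map (ι W)

theorem exists_rep_fin_mem {n : ℕ} (c : Fin n → H A I)
    (hc : ∀ i, c i ∈ I.map (algebraMap A (H A I))) :
    ∃ (X : Nbhd A I) (x : Fin n → X.Ring),
      (∀ i, x i ∈ I.map (algebraMap A X.Ring)) ∧ ∀ i, ι X (x i) = c i := by
  induction n with
  | zero => exact ⟨Nbhd.base A I, fun i => i.elim0, fun i => i.elim0, fun i => i.elim0⟩
  | succ n ih =>
    obtain ⟨X, x, hxI, hx⟩ := ih (fun i => c i.succ) (fun i => hc i.succ)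
    obtain ⟨Y, y, hyI, hy⟩ := (mem_map_iff (c 0)).mp (hc 0)
    obtain ⟨Z, g, h, -⟩ := Nbhd.exists_cocone_objs X Y
    refine ⟨Z, Fin.cons ((h : Nbhd.Hom Y Z).toAlgHom y)
      (fun i => (g : Nbhd.Hom X Z).toAlgHom (x i)), ?_, ?_⟩
    · intro i
      refine Fin.cases ?_ (fun j => ?_) i
      · rw [Fin.cons_zero]; exact algHom_mem_map _ hyI
      · rw [Fin.cons_succ]; exact algHom_mem_map _ (hxI j)
    · intro i
      refine Fin.cases ?_ (fun j => ?_) i
      · rw [Fin.cons_zero, ι_hom, hy]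
      · rw [Fin.cons_succ, ι_hom, hx]

theorem gabber : Hensel.Gabber (H A I) (I.map (algebraMap A (H A I))) := by
  refine ⟨map_le_jacobson, fun n hn p hp hpI => ?_⟩
  rcases subsingleton_or_nontrivial (H A I) with hsub | hnt
  · exact ⟨1, by simp, Subsingleton.elim _ _⟩
  obtain ⟨U, x, hxI, hx⟩ := exists_rep_fin_mem (fun i : Fin (n + 1) => p.coeff i)
    (fun i => hpI i)
  have hXnt : Nontrivial U.Ring := (ι U).domain_nontrivial
  set q : U.Ring[X] := ∑ i : Fin (n + 1), C (x i) * X ^ (i : ℕ) with hq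
  have hqmap : q.map (ι U) = p := by
    rw [hq, Polynomial.map_sum]
    conv_rhs => rw [p.as_sum_range' (n + 1) (Nat.lt_succ_of_le hp)]
    rw [Finset.sum_range]
    apply Finset.sum_congr rfl
    intro i _
    rw [Polynomial.map_mul, Polynomial.map_C, Polynomial.map_pow, Polynomial.map_X, hx,
      ← C_mul_X_pow_eq_monomial]
  have hqI : ∀ i, q.coeff i ∈ I.map (algebraMap A U.Ring) := by
    intro i
    rw [hq, Polynomial.finsetSum_coeff]
    refine Ideal.sum_mem _ fun j _ => ?_
    rw [coeff_C_mul]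
    exact Ideal.mul_mem_right _ _ (hxI j)
  have hqdeg : q.natDegree ≤ n := by
    rw [hq]
    refine Polynomial.natDegree_sum_le_of_forall_le _ _ fun j _ => ?_
    refine (natDegree_C_mul_X_pow_le _ _).trans ?_
    exact Nat.lt_succ_iff.mp j.2
  set F : U.Ring[X] := X ^ n * (X - 1) + q with hF
  have hFm : F.Monic := Hensel.monic_gabber_poly n q hqdeg
  let P : StandardEtalePair U.Ring :=
    { f := F
      monic_f := hFm
      g := derivative F
      cond := ⟨1, 0, 1, by ring⟩ }
  let _ : Algebra A P.Ring := ((algebraMap U.Ring P.Ring).comp (algebraMap A U.Ring)).toAlgebra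
  have htower : IsScalarTower A U.Ring P.Ring := IsScalarTower.of_algebraMap_eq (fun _ => rfl)
  let _ : Algebra U.Ring (A ⧸ I) := U.sec.toRingHom.toAlgebra
  have htower' : IsScalarTower A U.Ring (A ⧸ I) :=
    IsScalarTower.of_algebraMap_eq (fun a => (U.sec.commutes a).symm)
  have hq0 : q.map (algebraMap U.Ring (A ⧸ I)) = 0 := by
    ext i
    rw [coeff_map, coeff_zero]
    exact algHom_quot_eq_zero U.sec (hqI i)
  have hFmap : F.map (algebraMap U.Ring (A ⧸ I)) = X ^ n * (X - 1) := by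
    rw [hF, Polynomial.map_add, hq0, add_zero]
    simp
  have hmap : P.HasMap (1 : A ⧸ I) := by
    constructor
    · show aeval (1 : A ⧸ I) F = 0
      rw [aeval_def, eval₂_eq_eval_map, hFmap]
      simp
    · show IsUnit (aeval (1 : A ⧸ I) (derivative F))
      rw [aeval_def, eval₂_eq_eval_map, ← derivative_map, hFmap]
      simp
  let σ₀ : P.Ring →ₐ[U.Ring] A ⧸ I := P.lift 1 hmap
  let σ : P.Ring →ₐ[A] A ⧸ I := σ₀.restrictScalars A
  have hσ : σ.comp (IsScalarTower.toAlgHom A U.Ring P.Ring) = U.sec := by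
    ext y
    exact σ₀.commutes y
  obtain ⟨ψ, hψ, hψI⟩ := exists_adjoin U P.Ring σ hσ
  refine ⟨ψ P.X, ?_, ?_⟩
  · have h1 : ψ P.X - 1 = ψ (P.X - 1) := by rw [map_sub, map_one]
    rw [h1]
    apply hψI
    show σ₀ (P.X - 1) = 0
    rw [map_sub, map_one, StandardEtalePair.lift_X, sub_self]
  · have h1 : (X ^ n * (X - 1) + p : (H A I)[X]) = F.map (ι U) := by
      rw [hF, Polynomial.map_add, hqmap]
      simp
    rw [h1, IsRoot.def, Polynomial.eval_map]
    have h2 : (ι U : U.Ring →+* H A I) = ψ.toRingHom.comp (algebraMap U.Ring P.Ring) := by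
      ext y
      exact (hψ y).symm
    have h3 : eval₂ (algebraMap U.Ring P.Ring) P.X F = 0 := P.hasMap_X.1
    have h4 := Polynomial.hom_eval₂ F (algebraMap U.Ring P.Ring) (ψ : P.Ring →+* H A I) P.X
    rw [h3, map_zero] at h4
    rw [h2]
    exact h4.symm

theorem henselianRing : HenselianRing (H A I) (I.map (algebraMap A (H A I))) :=
  gabber.henselianRing

end Groth.Agent.Helper7.Hens
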