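import Mathlib
import Groth.Agent.Lib.Helper7.Hens.Henselian
import Groth.Agent.Lib.Helper7.Hensel.EtaleLift
import Groth.Agent.Lib.Helper7.Hensel.Local

/-!
# The universal property of the colimit `H A I`
-/

open CategoryTheory CategoryTheory.Limits TensorProduct

namespace Groth.Agent.Helper7.Hens

universe u

variable {A : Type u} [CommRing A] {I : Ideal A}

section

variable {D : Type u} [CommRing D] [Algebra A D] (J : Ideal D)

/-- The induced map `A/I → D/J`. -/
noncomputable def quotMap (hIJ : I.map (algebraMap A D) ≤ J) : A ⧸ I →ₐ[A] D ⧸ J :=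
  Ideal.Quotient.liftₐ I ((Ideal.Quotient.mkₐ A J).comp (Algebra.ofId A D)) (by
    intro a ha
    rw [AlgHom.comp_apply, Ideal.Quotient.mkₐ_eq_mk, Ideal.Quotient.eq_zero_iff_mem]
    exact hIJ (Ideal.mem_map_of_mem _ ha))

theorem quotMap_mk (hIJ : I.map (algebraMap A D) ≤ J) (a : A) :
    quotMap J hIJ (Ideal.Quotient.mk I a) = Ideal.Quotient.mk J (algebraMap A D a) := rfl

variable {J}

/-- Existence of the map from a stage to a henselian pair. -/
theorem exists_stageHom (hG : Hensel.Gabber D J) (hIJ : I.map (algebraMap A D) ≤ J)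
    (U : Nbhd A I) :
    ∃ ψ : U.Ring →ₐ[A] D, ∀ x, Ideal.Quotient.mk J (ψ x) = quotMap J hIJ (U.sec x) := by
  let σ : D ⊗[A] U.Ring →ₐ[D] D ⧸ J :=
    Algebra.TensorProduct.lift (Algebra.ofId D (D ⧸ J)) ((quotMap J hIJ).comp U.sec)
      (fun _ _ => Commute.all _ _)
  obtain ⟨τ, hτ⟩ := hG.exists_lift_of_etale (D ⊗[A] U.Ring) σ
  refine ⟨(τ.restrictScalars A).comp Algebra.TensorProduct.includeRight, fun x => ?_⟩
  have := AlgHom.congr_fun hτ (1 ⊗ₜ x)
  simp only [AlgHom.comp_apply, Ideal.Quotient.mkₐ_eq_mk, σ, Algebra.TensorProduct.lift_tmul,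
    map_one, one_mul] at this
  exact this

theorem stageHom_unique (hJ : J ≤ Ideal.jacobson ⊥) (hIJ : I.map (algebraMap A D) ≤ J)
    (U : Nbhd A I) (ψ ψ' : U.Ring →ₐ[A] D)
    (h : ∀ x, Ideal.Quotient.mk J (ψ x) = quotMap J hIJ (U.sec x))
    (h' : ∀ x, Ideal.Quotient.mk J (ψ' x) = quotMap J hIJ (U.sec x)) : ψ = ψ' := by
  apply Hensel.algHom_eq_of_formallyUnramified J hJ
  intro x
  rw [← Ideal.Quotient.eq, h, h']

/-- The chosen map from a stage to a henselian pair. -/
noncomputable def stageHom (hG : Hensel.Gabber D J) (hIJ : I.map (algebraMap A D) ≤ J)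
    (U : Nbhd A I) : U.Ring →ₐ[A] D := (exists_stageHom hG hIJ U).choose

theorem stageHom_spec (hG : Hensel.Gabber D J) (hIJ : I.map (algebraMap A D) ≤ J)
    (U : Nbhd A I) (x : U.Ring) :
    Ideal.Quotient.mk J (stageHom hG hIJ U x) = quotMap J hIJ (U.sec x) :=
  (exists_stageHom hG hIJ U).choose_spec x

theorem stageHom_comp (hG : Hensel.Gabber D J) (hIJ : I.map (algebraMap A D) ≤ J)
    {U V : Nbhd A I} (f : U ⟶ V) :
    (stageHom hG hIJ V).comp (f : Nbhd.Hom U V).toAlgHom = stageHom hG hIJ U := by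
  apply stageHom_unique hG.1 hIJ U
  · intro x
    rw [AlgHom.comp_apply, stageHom_spec, Nbhd.sec_hom]
  · exact stageHom_spec hG hIJ U

/-- The cocone over the diagram of stages with vertex `D`. -/
noncomputable def descCocone (hG : Hensel.Gabber D J) (hIJ : I.map (algebraMap A D) ≤ J) :
    Cocone (Nbhd.toRing (A := A) (I := I)) where
  pt := CommRingCat.of D
  ι :=
    { app := fun U => CommRingCat.ofHom (stageHom hG hIJ U).toRingHom
      naturality := fun U V f => by
        ext x
        exact AlgHom.congr_fun (stageHom_comp hG hIJ f) x }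

/-- The induced map out of the colimit. -/
noncomputable def desc (hG : Hensel.Gabber D J) (hIJ : I.map (algebraMap A D) ≤ J) :
    H A I →+* D :=
  (colimit.desc (Nbhd.toRing (A := A) (I := I)) (descCocone hG hIJ)).hom

theorem desc_ι (hG : Hensel.Gabber D J) (hIJ : I.map (algebraMap A D) ≤ J) (U : Nbhd A I)
    (x : U.Ring) : desc hG hIJ (ι U x) = stageHom hG hIJ U x := by
  have := colimit.ι_desc (descCocone hG hIJ) U
  exact ConcreteCategory.congr_hom this x

theorem desc_algebraMap (hG : Hensel.Gabber D J) (hIJ : I.map (algebraMap A D) ≤ J) (a : A) :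
    desc hG hIJ (algebraMap A (H A I) a) = algebraMap A D a := by
  rw [← ι_algebraMap (Nbhd.base A I) a, desc_ι, AlgHom.commutes]

theorem desc_unique (hG : Hensel.Gabber D J) (hIJ : I.map (algebraMap A D) ≤ J)
    (g : H A I →+* D) (hg : ∀ a, g (algebraMap A (H A I) a) = algebraMap A D a) :
    g = desc hG hIJ := by
  -- `g` restricted to a stage, as an algebra map
  let gU : ∀ U : Nbhd A I, U.Ring →ₐ[A] D := fun U =>
    { g.comp (ι U) with
      commutes' := fun a => by
        show g (ι U (algebraMap A U.Ring a)) = _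
        rw [ι_algebraMap, hg] }
  have hgI : ∀ c ∈ I.map (algebraMap A (H A I)), g c ∈ J := by
    intro c hc
    have h1 : g c ∈ (I.map (algebraMap A (H A I))).map g := Ideal.mem_map_of_mem _ hc
    rw [Ideal.map_map] at h1
    have h2 : g.comp (algebraMap A (H A I)) = algebraMap A D := RingHom.ext hg
    rw [h2] at h1
    exact hIJ h1
  have htight : ∀ V : Nbhd A I, (∀ y : V.Ring, V.sec y = 0 → y ∈ I.map (algebraMap A V.Ring)) →
      gU V = stageHom hG hIJ V := by
    intro V hV
    apply stageHom_unique hG.1 hIJ V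
    · intro y
      obtain ⟨a, ha⟩ := Ideal.Quotient.mk_surjective (V.sec y)
      have h1 : V.sec (y - algebraMap A V.Ring a) = 0 := by
        rw [map_sub, AlgHom.commutes, ← ha]
        exact sub_self _
      have h2 : g (ι V (y - algebraMap A V.Ring a)) ∈ J := hgI _ (ι_mem_map (hV _ h1))
      rw [map_sub, map_sub, ι_algebraMap, hg] at h2
      rw [← ha, quotMap_mk]
      exact Ideal.Quotient.eq.mpr h2
    · exact stageHom_spec hG hIJ V
  ext c
  obtain ⟨U, x, rfl⟩ := exists_rep c
  obtain ⟨V, f, hV⟩ := exists_tight U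
  rw [desc_ι, ← ι_hom f x]
  have h1 : gU V ((f : Nbhd.Hom U V).toAlgHom x) = stageHom hG hIJ V ((f : Nbhd.Hom U V).toAlgHom x) := by
    rw [htight V hV]
  have h2 := AlgHom.congr_fun (stageHom_comp hG hIJ f) x
  rw [AlgHom.comp_apply] at h2
  rw [← h2]
  exact h1

end

/-- **Universal property** of `H A I`. -/
theorem universal (D : Type u) [CommRing D] (J : Ideal D) (φ : A →+* D)
    (hD : HenselianRing D J) (hφ : I.map φ ≤ J) :
    ∃! g : H A I →+* D, g.comp (algebraMap A (H A I)) = φ := by
  let _ : Algebra A D := φ.toAlgebra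
  have hG : Hensel.Gabber D J := Hensel.Gabber.of_henselianRing hD
  have hIJ : I.map (algebraMap A D) ≤ J := hφ
  refine ⟨desc hG hIJ, ?_, ?_⟩
  · ext a
    exact desc_algebraMap hG hIJ a
  · intro g hg
    apply desc_unique hG hIJ g
    intro a
    exact RingHom.congr_fun hg a

end Groth.Agent.Helper7.Hens
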