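import Mathlib
import Groth.Agent.Lib.Helper7.Hens.Universal

/-!
# `A/I ≃ H/IH` and flatness of the colimit `H A I`
-/

open CategoryTheory CategoryTheory.Limits TensorProduct

namespace Groth.Agent.Helper7.Hens

universe u

variable {A : Type u} [CommRing A] {I : Ideal A}

theorem algebraMap_mem_iff (a : A) :
    algebraMap A (H A I) a ∈ I.map (algebraMap A (H A I)) ↔ a ∈ I := by
  constructor
  · intro h
    obtain ⟨U, x, hx, hxa⟩ := (mem_map_iff _).mp h
    rw [← ι_algebraMap U a] at hxa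
    obtain ⟨Z, f, hf⟩ := exists_hom_eq_of_ι_eq _ _ hxa
    rw [AlgHom.commutes] at hf
    have h1 : algebraMap A Z.Ring a ∈ I.map (algebraMap A Z.Ring) := by
      rw [← hf]
      exact algHom_mem_map _ hx
    have h2 := algHom_quot_eq_zero Z.sec h1
    rw [AlgHom.commutes] at h2
    exact Ideal.Quotient.eq_zero_iff_mem.mp h2
  · intro h
    exact Ideal.mem_map_of_mem _ h

theorem exists_sub_mem (c : H A I) :
    ∃ a : A, c - algebraMap A (H A I) a ∈ I.map (algebraMap A (H A I)) := by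
  obtain ⟨U, x, rfl⟩ := exists_rep c
  obtain ⟨V, f, hV⟩ := exists_tight U
  obtain ⟨a, ha⟩ := Ideal.Quotient.mk_surjective (V.sec ((f : Nbhd.Hom U V).toAlgHom x))
  refine ⟨a, ?_⟩
  have h1 : V.sec ((f : Nbhd.Hom U V).toAlgHom x - algebraMap A V.Ring a) = 0 := by
    rw [map_sub, AlgHom.commutes, ← ha]
    exact sub_self _
  have h2 := ι_mem_map (hV _ h1)
  rw [map_sub, ι_hom, ι_algebraMap] at h2
  exact h2

theorem quotient_bijective :
    Function.Bijective (Ideal.quotientMap (I.map (algebraMap A (H A I)))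
      (algebraMap A (H A I)) Ideal.le_comap_map) := by
  constructor
  · rw [injective_iff_map_eq_zero]
    intro x hx
    obtain ⟨a, rfl⟩ := Ideal.Quotient.mk_surjective x
    rw [Ideal.quotientMap_mk, Ideal.Quotient.eq_zero_iff_mem, algebraMap_mem_iff] at hx
    exact Ideal.Quotient.eq_zero_iff_mem.mpr hx
  · intro y
    obtain ⟨c, rfl⟩ := Ideal.Quotient.mk_surjective y
    obtain ⟨a, ha⟩ := exists_sub_mem c
    refine ⟨Ideal.Quotient.mk I a, ?_⟩
    rw [Ideal.quotientMap_mk]
    exact (Ideal.Quotient.eq.mpr ha).symm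

/-- The colimit `H A I` is flat over `A`. -/
theorem flat : Module.Flat A (H A I) := by
  apply Module.Flat.of_forall_isTrivialRelation
  intro l f x hfx
  obtain ⟨U, -, ξ, hξ⟩ := exists_rep_fin (Nbhd.base A I) x
  have h1 : ι U (∑ i, f i • ξ i) = ι U 0 := by
    rw [map_sum, map_zero, ← hfx]
    apply Finset.sum_congr rfl
    intro i _
    rw [Algebra.smul_def, map_mul, ι_algebraMap, hξ, Algebra.smul_def]
  obtain ⟨V, g, hg⟩ := exists_hom_eq_of_ι_eq _ _ h1
  rw [map_zero, map_sum] at hg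
  have h2 : ∑ i, f i • (g : Nbhd.Hom U V).toAlgHom (ξ i) = 0 := by
    rw [← hg]
    apply Finset.sum_congr rfl
    intro i _
    rw [map_smul]
  have hflat : Module.Flat A V.Ring := inferInstance
  obtain ⟨k, a, y, hy1, hy2⟩ := Module.Flat.isTrivialRelation_of_sum_smul_eq_zero (R := A)
    (M := V.Ring) (f := f) (x := fun i => (g : Nbhd.Hom U V).toAlgHom (ξ i)) h2
  refine ⟨k, a, fun j => ι V (y j), ?_, hy2⟩
  intro i
  have hy1' : (g : Nbhd.Hom U V).toAlgHom (ξ i) = ∑ j, a i j • y j := hy1 i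
  rw [← hξ i, ← ι_hom g, hy1', map_sum]
  apply Finset.sum_congr rfl
  intro j _
  show ι V (a i j • y j) = a i j • ι V (y j)
  rw [Algebra.smul_def, map_mul, ι_algebraMap, Algebra.smul_def]

end Groth.Agent.Helper7.Hens
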