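import Mathlib
import Groth.Prelude.Def_Hensel
import Groth.Agent.Lib.Helper7.Hens.Quotient

/-!
# The henselization of a local ring
-/

namespace Groth.Agent.Helper7.Hens

universe u

variable (R : Type u) [CommRing R] [IsLocalRing R]

local notation "𝔪" => IsLocalRing.maximalIdeal R
local notation "Hm" => H R (IsLocalRing.maximalIdeal R)

theorem one_notMem_map : (1 : Hm) ∉ (𝔪).map (algebraMap R Hm) := by
  intro h
  have h1 : algebraMap R Hm 1 ∈ (𝔪).map (algebraMap R Hm) := by rwa [map_one]
  rw [algebraMap_mem_iff] at h1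
  exact (Ideal.ne_top_iff_one _).mp (IsLocalRing.maximalIdeal.isMaximal R).ne_top h1

theorem not_isUnit_of_mem_map {c : Hm} (hc : c ∈ (𝔪).map (algebraMap R Hm)) : ¬ IsUnit c := by
  intro hu
  have := Ideal.eq_top_of_isUnit_mem _ hc hu
  exact one_notMem_map R ((Ideal.eq_top_iff_one _).mp this)

theorem isUnit_or_mem_map (c : Hm) : IsUnit c ∨ c ∈ (𝔪).map (algebraMap R Hm) := by
  obtain ⟨a, ha⟩ := exists_sub_mem c
  by_cases hau : IsUnit a
  · left
    have h1 : IsUnit (algebraMap R Hm a) := hau.map _
    obtain ⟨b, hb⟩ := h1.exists_right_inv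
    have h2 : (c - algebraMap R Hm a) * b + 1 = c * b := by
      rw [sub_mul, hb]; ring
    have h3 : IsUnit ((c - algebraMap R Hm a) * b + 1) :=
      (Ideal.mem_jacobson_bot.mp (map_le_jacobson ha)) b
    rw [h2] at h3
    exact isUnit_of_mul_isUnit_left h3
  · right
    have h1 : a ∈ 𝔪 := (IsLocalRing.mem_maximalIdeal a).mpr hau
    have h2 : algebraMap R Hm a ∈ (𝔪).map (algebraMap R Hm) := Ideal.mem_map_of_mem _ h1
    have h3 : c = (c - algebraMap R Hm a) + algebraMap R Hm a := by ring
    rw [h3]
    exact add_mem ha h2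

instance nontrivial_H : Nontrivial Hm := by
  refine ⟨⟨1, 0, fun h => ?_⟩⟩
  apply one_notMem_map R
  rw [h]
  exact zero_mem _

instance isLocalRing_H : IsLocalRing Hm := by
  apply IsLocalRing.of_nonunits_add
  intro a b ha hb
  have ha' : a ∈ (𝔪).map (algebraMap R Hm) := (isUnit_or_mem_map R a).resolve_left ha
  have hb' : b ∈ (𝔪).map (algebraMap R Hm) := (isUnit_or_mem_map R b).resolve_left hb
  exact not_isUnit_of_mem_map R (add_mem ha' hb')

theorem map_maximalIdeal_H :
    (𝔪).map (algebraMap R Hm) = IsLocalRing.maximalIdeal Hm := by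
  ext c
  rw [IsLocalRing.mem_maximalIdeal, mem_nonunits_iff]
  constructor
  · exact not_isUnit_of_mem_map R
  · intro h
    exact (isUnit_or_mem_map R c).resolve_left h

instance isLocalHom_H : IsLocalHom (algebraMap R Hm) := by
  constructor
  intro a ha
  by_contra hna
  have h1 : a ∈ 𝔪 := (IsLocalRing.mem_maximalIdeal a).mpr hna
  exact not_isUnit_of_mem_map R (Ideal.mem_map_of_mem _ h1) ha

instance henselianLocalRing_H : HenselianLocalRing Hm := by
  apply Hensel.henselianLocalRing_of_henselianRing
  rw [← map_maximalIdeal_H]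
  exact henselianRing

theorem isHenselization_H : Hensel.IsHenselization R Hm where
  henselian := henselianLocalRing_H R
  universal := by
    intro T _ _ f hf
    apply universal T (IsLocalRing.maximalIdeal T) f inferInstance
    rw [Ideal.map_le_iff_le_comap]
    intro a ha
    rw [Ideal.mem_comap, IsLocalRing.mem_maximalIdeal, mem_nonunits_iff]
    intro hu
    exact ((IsLocalRing.mem_maximalIdeal a).mp ha) (hf.map_nonunit a hu)

end Groth.Agent.Helper7.Hens
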