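import Mathlib
import Groth.Prelude.Def_Hensel
import Groth.Prelude.Def_Hens2
import Groth.Agent.Lib.Helper7.Hens.LocalCase

/-!
# Uniqueness of henselizations: comparison with the constructed one
-/

namespace Groth.Agent.Helper7.Hens

universe u

theorem isPairHenselization_H (A : Type u) [CommRing A] (I : Ideal A) :
    Hens2.IsPairHenselization A I (H A I) :=
  ⟨henselianRing, fun C _ J f hC hf => universal C J f hC hf⟩

/-- Two pair henselizations are isomorphic. -/
theorem nonempty_algEquiv_of_isPairHenselization {A : Type u} [CommRing A] {I : Ideal A}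
    {B B' : Type u} [CommRing B] [CommRing B'] [Algebra A B] [Algebra A B']
    (hB : Hens2.IsPairHenselization A I B) (hB' : Hens2.IsPairHenselization A I B') :
    Nonempty (B ≃ₐ[A] B') := by
  obtain ⟨g, hg, -⟩ := hB.2 B' (I.map (algebraMap A B')) (algebraMap A B') hB'.1 le_rfl
  obtain ⟨g', hg', -⟩ := hB'.2 B (I.map (algebraMap A B)) (algebraMap A B) hB.1 le_rfl
  have h1 : g'.comp g = RingHom.id B := by
    obtain ⟨k, -, hk⟩ := hB.2 B (I.map (algebraMap A B)) (algebraMap A B) hB.1 le_rfl
    have e1 : g'.comp g = k := hk _ (by beta_reduce; rw [RingHom.comp_assoc, hg, hg'])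
    have e2 : RingHom.id B = k := hk _ (RingHom.id_comp _)
    rw [e1, e2]
  have h2 : g.comp g' = RingHom.id B' := by
    obtain ⟨k, -, hk⟩ := hB'.2 B' (I.map (algebraMap A B')) (algebraMap A B') hB'.1 le_rfl
    have e1 : g.comp g' = k := hk _ (by beta_reduce; rw [RingHom.comp_assoc, hg', hg])
    have e2 : RingHom.id B' = k := hk _ (RingHom.id_comp _)
    rw [e1, e2]
  exact ⟨AlgEquiv.ofRingEquiv (f := RingEquiv.ofRingHom g g' h2 h1)
    (fun a => RingHom.congr_fun hg a)⟩

theorem nonempty_algEquiv_H {A : Type u} [CommRing A] {I : Ideal A}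
    {B : Type u} [CommRing B] [Algebra A B] (hB : Hens2.IsPairHenselization A I B) :
    Nonempty (B ≃ₐ[A] H A I) :=
  nonempty_algEquiv_of_isPairHenselization hB (isPairHenselization_H A I)

/-- Two henselizations of a local ring are isomorphic. -/
theorem nonempty_algEquiv_of_isHenselization (R : Type u) [CommRing R] [IsLocalRing R]
    (S S' : Type u) [CommRing S] [IsLocalRing S] [Algebra R S] [IsLocalHom (algebraMap R S)]
    [hS : Hensel.IsHenselization R S]
    [CommRing S'] [IsLocalRing S'] [Algebra R S'] [IsLocalHom (algebraMap R S')]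
    [hS' : Hensel.IsHenselization R S'] :
    Nonempty (S ≃ₐ[R] S') := by
  have hh : HenselianLocalRing S := hS.henselian
  have hh' : HenselianLocalRing S' := hS'.henselian
  obtain ⟨g, hg, -⟩ := hS.universal S' (algebraMap R S') inferInstance
  obtain ⟨g', hg', -⟩ := hS'.universal S (algebraMap R S) inferInstance
  have h1 : g'.comp g = RingHom.id S := by
    obtain ⟨k, -, hk⟩ := hS.universal S (algebraMap R S) inferInstance
    have e1 : g'.comp g = k := hk _ (by beta_reduce; rw [RingHom.comp_assoc, hg, hg'])
    have e2 : RingHom.id S = k := hk _ (RingHom.id_comp _)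
    rw [e1, e2]
  have h2 : g.comp g' = RingHom.id S' := by
    obtain ⟨k, -, hk⟩ := hS'.universal S' (algebraMap R S') inferInstance
    have e1 : g.comp g' = k := hk _ (by beta_reduce; rw [RingHom.comp_assoc, hg', hg])
    have e2 : RingHom.id S' = k := hk _ (RingHom.id_comp _)
    rw [e1, e2]
  exact ⟨AlgEquiv.ofRingEquiv (f := RingEquiv.ofRingHom g g' h2 h1)
    (fun a => RingHom.congr_fun hg a)⟩

theorem nonempty_algEquiv_H_of_isHenselization (R : Type u) [CommRing R] [IsLocalRing R]
    (S : Type u) [CommRing S] [IsLocalRing S] [Algebra R S] [IsLocalHom (algebraMap R S)]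
    [hS : Hensel.IsHenselization R S] :
    Nonempty (S ≃ₐ[R] H R (IsLocalRing.maximalIdeal R)) := by
  have := isHenselization_H R
  exact nonempty_algEquiv_of_isHenselization R S (H R (IsLocalRing.maximalIdeal R))

end Groth.Agent.Helper7.Hens
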