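import Mathlib
import Groth.Prelude.Def_Hens2
import Groth.Agent.Lib.Helper7.Hens.Unique
import Groth.Agent.Lib.Helper7.Hensel.SmallerIdeal

/-!
# Pair henselizations only depend on the radical of the ideal; transport along isomorphisms
-/

namespace Groth.Agent.Helper7.Hens

universe u

theorem isPairHenselization_of_radical_eq {A : Type u} [CommRing A] {I J : Ideal A}
    (h : I.radical = J.radical) {B : Type u} [CommRing B] [Algebra A B]
    (hB : Hens2.IsPairHenselization A I B) : Hens2.IsPairHenselization A J B := by
  refine ⟨Hensel.henselianRing_of_radical_eq hB.1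
    (Hensel.radical_map_eq_of_radical_eq _ h), ?_⟩
  intro C _ L f hC hf
  apply hB.2 C L.radical f (Hensel.henselianRing_radical hC)
  calc I.map f ≤ (I.map f).radical := Ideal.le_radical
    _ = (J.map f).radical := Hensel.radical_map_eq_of_radical_eq _ h
    _ ≤ L.radical := Ideal.radical_mono hf

theorem isPairHenselization_pow {A : Type u} [CommRing A] {I : Ideal A}
    {B : Type u} [CommRing B] [Algebra A B]
    (hB : Hens2.IsPairHenselization A I B) (n : ℕ) (hn : n ≠ 0) :
    Hens2.IsPairHenselization A (I ^ n) B :=
  isPairHenselization_of_radical_eq (Ideal.radical_pow I hn).symm hB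

/-- Transport of a pair henselization along an isomorphism of algebras. -/
theorem isPairHenselization_of_algEquiv {A : Type u} [CommRing A] {I : Ideal A}
    {B B' : Type u} [CommRing B] [CommRing B'] [Algebra A B] [Algebra A B'] (e : B ≃ₐ[A] B')
    (hB : Hens2.IsPairHenselization A I B) : Hens2.IsPairHenselization A I B' := by
  have hmap : (I.map (algebraMap A B)).map (e : B →+* B') = I.map (algebraMap A B') := by
    rw [Ideal.map_map]
    congr 1
    ext a
    exact e.commutes a
  constructor
  · have h1 := hB.1
    constructor
    · rw [← hmap]
      intro x hx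
      obtain ⟨y, hy, rfl⟩ := (Ideal.mem_map_iff_of_surjective _ e.surjective).mp hx
      have := h1.jac hy
      rw [Ideal.mem_jacobson_bot] at this ⊢
      intro z
      obtain ⟨w, rfl⟩ := e.surjective z
      have h2 := (this w).map (e : B →+* B')
      rwa [map_add, map_mul, map_one] at h2
    · intro f hf a₀ h₁ h₂
      have hfe : f.map (e.symm : B' →+* B) |>.Monic := hf.map _
      have hmap' : (I.map (algebraMap A B')).map (e.symm : B' →+* B) = I.map (algebraMap A B) := by
        rw [Ideal.map_map]
        congr 1
        ext a
        exact e.symm.commutes a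
      have h₁' : (f.map (e.symm : B' →+* B)).eval (e.symm a₀) ∈ I.map (algebraMap A B) := by
        rw [← hmap']
        have := Ideal.mem_map_of_mem (e.symm : B' →+* B) h₁
        rwa [← Polynomial.eval₂_hom, ← Polynomial.eval_map] at this
      have h₂' : IsUnit (Ideal.Quotient.mk (I.map (algebraMap A B))
          ((f.map (e.symm : B' →+* B)).derivative.eval (e.symm a₀))) := by
        obtain ⟨u, hu⟩ := h₂.exists_right_inv
        obtain ⟨u, rfl⟩ := Ideal.Quotient.mk_surjective u
        rw [← map_mul, ← map_one (Ideal.Quotient.mk _), Ideal.Quotient.eq] at hu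
        apply IsUnit.of_mul_eq_one (Ideal.Quotient.mk _ (e.symm u))
        rw [← map_mul, ← map_one (Ideal.Quotient.mk _), Ideal.Quotient.eq, ← hmap']
        have := Ideal.mem_map_of_mem (e.symm : B' →+* B) hu
        rw [map_sub, map_mul, map_one] at this
        rw [Polynomial.derivative_map, Polynomial.eval_map]
        have key : Polynomial.eval₂ (e.symm : B' →+* B) (e.symm a₀) (Polynomial.derivative f)
            = (e.symm : B' →+* B) (Polynomial.eval a₀ (Polynomial.derivative f)) :=
          Polynomial.eval₂_hom (e.symm : B' →+* B) a₀
        rw [key]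
        exact this
      obtain ⟨a, ha, haa⟩ := h1.is_henselian _ hfe (e.symm a₀) h₁' h₂'
      refine ⟨e a, ?_, ?_⟩
      · rw [Polynomial.IsRoot.def, Polynomial.eval_map] at ha
        have := congrArg e ha
        rw [map_zero] at this
        rw [Polynomial.IsRoot.def]
        have h3 := Polynomial.hom_eval₂ f (e.symm : B' →+* B) (e : B →+* B') a
        have h4 : (e : B →+* B').comp (e.symm : B' →+* B) = RingHom.id B' := by
          ext x; exact e.apply_symm_apply x
        rw [h4, Polynomial.eval₂_id] at h3
        have h5 : Polynomial.eval (e a) f
            = (e : B →+* B') (Polynomial.eval₂ (e.symm : B' →+* B) a f) := h3.symm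
        rw [h5]
        exact this
      · rw [← hmap]
        have := Ideal.mem_map_of_mem (e : B →+* B') haa
        rw [map_sub] at this
        have h5 : (e : B →+* B') (e.symm a₀) = a₀ := e.apply_symm_apply a₀
        rwa [h5] at this
  · intro C _ L f hC hf
    obtain ⟨g, hg, hguniq⟩ := hB.2 C L f hC hf
    refine ⟨g.comp (e.symm : B' →+* B), ?_, ?_⟩
    · ext a
      simp only [RingHom.comp_apply]
      have : (e.symm : B' →+* B) (algebraMap A B' a) = algebraMap A B a := e.symm.commutes a
      rw [this]
      exact RingHom.congr_fun hg a
    · intro g' hg'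
      have h1 : g'.comp (e : B →+* B') = g := by
        apply hguniq
        ext a
        simp only [RingHom.comp_apply]
        have : (e : B →+* B') (algebraMap A B a) = algebraMap A B' a := e.commutes a
        rw [this]
        exact RingHom.congr_fun hg' a
      rw [← h1]
      ext x
      simp only [RingHom.comp_apply]
      congr 1
      exact (e.apply_symm_apply x).symm

end Groth.Agent.Helper7.Hens
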