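import Mathlib
import Groth.Prelude.Def_Hens2
import Groth.Agent.Lib.Helper7.Hens.Radical

/-!
# Properties of abstract henselizations, by comparison with the constructed one
-/

namespace Groth.Agent.Helper7.Hens

universe u

theorem mem_map_algEquiv_iff {A : Type u} [CommRing A] {I : Ideal A} {B B' : Type*} [CommRing B]
    [CommRing B'] [Algebra A B] [Algebra A B'] (e : B ≃ₐ[A] B') (b : B) :
    e b ∈ I.map (algebraMap A B') ↔ b ∈ I.map (algebraMap A B) := by
  constructor
  · intro h
    have := algHom_mem_map (I := I) e.symm.toAlgHom h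
    have h2 : e.symm.toAlgHom (e b) = b := e.symm_apply_apply b
    rwa [h2] at this
  · intro h
    exact algHom_mem_map (I := I) e.toAlgHom h

section Pair

variable {A : Type u} [CommRing A] {I : Ideal A} {B : Type u} [CommRing B] [Algebra A B]

theorem quotient_bijective_of_isPairHenselization (hB : Hens2.IsPairHenselization A I B) :
    Function.Bijective (Ideal.quotientMap (I.map (algebraMap A B)) (algebraMap A B)
      Ideal.le_comap_map) := by
  obtain ⟨e⟩ := nonempty_algEquiv_H hB
  constructor
  · rw [injective_iff_map_eq_zero]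
    intro x hx
    obtain ⟨a, rfl⟩ := Ideal.Quotient.mk_surjective x
    rw [Ideal.quotientMap_mk, Ideal.Quotient.eq_zero_iff_mem, ← mem_map_algEquiv_iff e,
      AlgEquiv.commutes, algebraMap_mem_iff] at hx
    exact Ideal.Quotient.eq_zero_iff_mem.mpr hx
  · intro y
    obtain ⟨b, rfl⟩ := Ideal.Quotient.mk_surjective y
    obtain ⟨a, ha⟩ := exists_sub_mem (e b)
    refine ⟨Ideal.Quotient.mk I a, ?_⟩
    rw [Ideal.quotientMap_mk]
    symm
    rw [Ideal.Quotient.eq, ← mem_map_algEquiv_iff e, map_sub, AlgEquiv.commutes]
    exact ha

theorem quotient_pow_bijective_of_isPairHenselization (hB : Hens2.IsPairHenselization A I B)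
    (n : ℕ) :
    Function.Bijective (Ideal.quotientMap ((I ^ n).map (algebraMap A B)) (algebraMap A B)
      Ideal.le_comap_map) := by
  rcases Nat.eq_zero_or_pos n with rfl | hn
  · have h1 : Subsingleton (A ⧸ I ^ 0) := by
      rw [pow_zero, Ideal.one_eq_top]
      exact Ideal.Quotient.subsingleton_iff.mpr rfl
    have h2 : Subsingleton (B ⧸ (I ^ 0).map (algebraMap A B)) := by
      rw [pow_zero, Ideal.one_eq_top, Ideal.map_top]
      exact Ideal.Quotient.subsingleton_iff.mpr rfl
    exact ⟨fun x y _ => Subsingleton.elim x y, fun y => ⟨0, Subsingleton.elim _ _⟩⟩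
  · exact quotient_bijective_of_isPairHenselization (isPairHenselization_pow hB n hn.ne')

theorem flat_of_isPairHenselization (hB : Hens2.IsPairHenselization A I B) :
    Module.Flat A B := by
  obtain ⟨e⟩ := nonempty_algEquiv_H hB
  have : Module.Flat A (H A I) := flat
  exact Module.Flat.of_linearEquiv e.toLinearEquiv

end Pair

section LocalRing

variable (R : Type u) [CommRing R] [IsLocalRing R] (S : Type u) [CommRing S] [IsLocalRing S]
  [Algebra R S] [IsLocalHom (algebraMap R S)]

theorem isPairHenselization_of_isHenselization [Hensel.IsHenselization R S] :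
    Hens2.IsPairHenselization R (IsLocalRing.maximalIdeal R) S := by
  obtain ⟨e⟩ := nonempty_algEquiv_H_of_isHenselization R S
  exact isPairHenselization_of_algEquiv e.symm (isPairHenselization_H R _)

theorem map_maximalIdeal_of_isHenselization [Hensel.IsHenselization R S] :
    (IsLocalRing.maximalIdeal R).map (algebraMap R S) = IsLocalRing.maximalIdeal S := by
  obtain ⟨e⟩ := nonempty_algEquiv_H_of_isHenselization R S
  ext s
  rw [← mem_map_algEquiv_iff e, map_maximalIdeal_H, IsLocalRing.mem_maximalIdeal,
    IsLocalRing.mem_maximalIdeal, mem_nonunits_iff, mem_nonunits_iff, isUnit_map_iff]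

theorem flat_of_isHenselization [Hensel.IsHenselization R S] : Module.Flat R S :=
  flat_of_isPairHenselization (isPairHenselization_of_isHenselization R S)

end LocalRing

end Groth.Agent.Helper7.Hens
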