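import Mathlib
import Groth.Prelude.Def_Hens2
import Groth.Agent.Lib.Helper7.Hens.Abstract

/-!
# Pair henselization at the maximal ideal versus henselization of a local ring
-/

namespace Groth.Agent.Helper7.Hens

universe u

section LocalRing

variable (R : Type u) [CommRing R] [IsLocalRing R] (S : Type u) [CommRing S] [IsLocalRing S]
  [Algebra R S]

theorem map_maximalIdeal_of_algEquiv (e : S ≃ₐ[R] H R (IsLocalRing.maximalIdeal R)) :
    (IsLocalRing.maximalIdeal R).map (algebraMap R S) = IsLocalRing.maximalIdeal S := by
  ext s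
  rw [← mem_map_algEquiv_iff e, map_maximalIdeal_H, IsLocalRing.mem_maximalIdeal,
    IsLocalRing.mem_maximalIdeal, mem_nonunits_iff, mem_nonunits_iff, isUnit_map_iff]

theorem map_le_maximalIdeal_of_isLocalHom {T : Type*} [CommRing T] [IsLocalRing T] (f : R →+* T)
    (hf : IsLocalHom f) : (IsLocalRing.maximalIdeal R).map f ≤ IsLocalRing.maximalIdeal T := by
  rw [Ideal.map_le_iff_le_comap]
  intro a ha
  rw [Ideal.mem_comap, IsLocalRing.mem_maximalIdeal, mem_nonunits_iff]
  intro hu
  exact ((IsLocalRing.mem_maximalIdeal a).mp ha) (hf.map_nonunit a hu)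

theorem isHenselization_of_isPairHenselization [IsLocalHom (algebraMap R S)]
    (hS : Hens2.IsPairHenselization R (IsLocalRing.maximalIdeal R) S) :
    Hensel.IsHenselization R S := by
  obtain ⟨e⟩ := nonempty_algEquiv_H hS
  have hmax := map_maximalIdeal_of_algEquiv R S e
  constructor
  · apply Hensel.henselianLocalRing_of_henselianRing
    rw [← hmax]
    exact hS.1
  · intro T _ _ f hf
    exact hS.2 T (IsLocalRing.maximalIdeal T) f inferInstance
      (map_le_maximalIdeal_of_isLocalHom R f hf)

end LocalRing

end Groth.Agent.Helper7.Hens
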