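import Mathlib
import Groth.Agent.Lib.Helper7.Hens.Abstract2
import Groth.Agent.Lib.Helper7.CAlg.ReducedSmooth

/-!
# Reducedness of henselizations
-/

namespace Groth.Agent.Helper7.Hens

universe u

variable {A : Type u} [CommRing A] {I : Ideal A}

theorem isReduced_H [IsReduced A] : IsReduced (H A I) := by
  constructor
  intro c hc
  obtain ⟨n, hn⟩ := hc
  obtain ⟨U, x, rfl⟩ := exists_rep c
  have h1 : ι U (x ^ n) = ι U 0 := by rw [map_pow, hn, map_zero]
  obtain ⟨V, f, hf⟩ := exists_hom_eq_of_ι_eq _ _ h1
  rw [map_zero, map_pow] at hf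
  have hred : IsReduced V.Ring := Groth.Agent.Helper7.isReduced_of_smooth A V.Ring
  have h2 : (f : Nbhd.Hom U V).toAlgHom x = 0 := IsReduced.eq_zero _ ⟨n, hf⟩
  rw [← ι_hom f x, h2, map_zero]

theorem isReduced_of_isPairHenselization [IsReduced A] {B : Type u} [CommRing B] [Algebra A B]
    (hB : Hens2.IsPairHenselization A I B) : IsReduced B := by
  obtain ⟨e⟩ := nonempty_algEquiv_H hB
  have := isReduced_H (A := A) (I := I)
  exact isReduced_of_injective e.toAlgHom e.injective

theorem isReduced_iff_of_isHenselization (R : Type u) [CommRing R] [IsLocalRing R] (S : Type u)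
    [CommRing S] [IsLocalRing S] [Algebra R S] [IsLocalHom (algebraMap R S)]
    [Hensel.IsHenselization R S] : IsReduced R ↔ IsReduced S := by
  constructor
  · intro h
    exact isReduced_of_isPairHenselization (isPairHenselization_of_isHenselization R S)
  · intro h
    have : Module.Flat R S := flat_of_isHenselization R S
    have hff : Module.FaithfullyFlat R S := Module.FaithfullyFlat.of_flat_of_isLocalHom
    exact isReduced_of_injective (algebraMap R S) (FaithfulSMul.algebraMap_injective R S)

end Groth.Agent.Helper7.Hens
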