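import Mathlib
import Groth.Prelude.Def_Hens2
import Groth.Agent.Lib.Helper7.Hens.Abstract2
import Groth.Agent.Lib.Helper7.Hensel.Integral

/-!
# Henselization commutes with integral base change
-/

open TensorProduct Polynomial

namespace Groth.Agent.Helper7.Hens

universe u

/-- Transport of Gabber's condition along a ring isomorphism. -/
theorem gabber_map_ringEquiv {B B' : Type u} [CommRing B] [CommRing B'] (e : B ≃+* B')
    {K : Ideal B} (h : Hensel.Gabber B K) : Hensel.Gabber B' (K.map (e : B →+* B')) := by
  have hmem : ∀ z ∈ K.map (e : B →+* B'), e.symm z ∈ K := by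
    intro z hz
    obtain ⟨y, hy, rfl⟩ := (Ideal.mem_map_iff_of_surjective (e : B →+* B') e.surjective).mp hz
    have : e.symm ((e : B →+* B') y) = y := e.symm_apply_apply y
    rw [this]
    exact hy
  constructor
  · intro x hx
    rw [Ideal.mem_jacobson_bot]
    intro y
    have h1 := (Ideal.mem_jacobson_bot.mp (h.1 (hmem x hx))) (e.symm y)
    have h2 := h1.map (e : B →+* B')
    rw [map_add, map_mul, map_one] at h2
    have h3 : (e : B →+* B') (e.symm x) = x := e.apply_symm_apply x
    have h4 : (e : B →+* B') (e.symm y) = y := e.apply_symm_apply y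
    rwa [h3, h4] at h2
  · intro n hn p hp hpK
    obtain ⟨α, hα1, hα⟩ := h.2 n hn (p.map (e.symm : B' →+* B))
      ((natDegree_map_le).trans hp) (fun i => by rw [coeff_map]; exact hmem _ (hpK i))
    refine ⟨e α, ?_, ?_⟩
    · have := Ideal.mem_map_of_mem (e : B →+* B') hα1
      rwa [map_sub, map_one] at this
    · have h1 : (X ^ n * (X - 1) + p : B'[X])
          = (X ^ n * (X - 1) + p.map (e.symm : B' →+* B) : B[X]).map (e : B →+* B') := by
        rw [Polynomial.map_add, Polynomial.map_map]
        have : (e : B →+* B').comp (e.symm : B' →+* B) = RingHom.id B' := by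
          ext x; exact e.apply_symm_apply x
        rw [this, Polynomial.map_id]
        simp
      rw [h1, IsRoot.def]
      have h2 : eval ((e : B →+* B') α) ((X ^ n * (X - 1) + p.map (e.symm : B' →+* B) : B[X]).map
          (e : B →+* B')) = (e : B →+* B') (eval α (X ^ n * (X - 1) + p.map (e.symm : B' →+* B))) := by
        rw [Polynomial.eval_map, Polynomial.eval₂_hom]
      rw [IsRoot.def] at hα
      rw [hα, map_zero] at h2
      exact h2

theorem henselianRing_map_ringEquiv {B B' : Type u} [CommRing B] [CommRing B'] (e : B ≃+* B')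
    {K : Ideal B} (h : HenselianRing B K) : HenselianRing B' (K.map (e : B →+* B')) :=
  (gabber_map_ringEquiv e (Hensel.Gabber.of_henselianRing h)).henselianRing

variable {A : Type u} [CommRing A] {I : Ideal A}

theorem one_tmul_algebraMap (B Ah : Type*) [CommRing B] [Algebra A B] [CommRing Ah] [Algebra A Ah]
    (a : A) : (1 : B) ⊗ₜ[A] algebraMap A Ah a = algebraMap A B a ⊗ₜ[A] (1 : Ah) := by
  rw [Algebra.algebraMap_eq_smul_one, Algebra.algebraMap_eq_smul_one (A := B),
    TensorProduct.tmul_smul, TensorProduct.smul_tmul']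

/-- **Integral base change**: if `Ah` is a henselization of `(A, I)` and `B` is integral over
`A`, then `B ⊗[A] Ah` is a henselization of `(B, IB)`. -/
theorem isPairHenselization_tensor (B : Type u) [CommRing B] [Algebra A B]
    [Algebra.IsIntegral A B] (Ah : Type u) [CommRing Ah] [Algebra A Ah]
    (hA : Hens2.IsPairHenselization A I Ah) :
    Hens2.IsPairHenselization B (I.map (algebraMap A B)) (B ⊗[A] Ah) := by
  constructor
  · -- henselian
    have h1 : HenselianRing (Ah ⊗[A] B) ((I.map (algebraMap A Ah)).map
        (algebraMap Ah (Ah ⊗[A] B))) :=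
      ((Hensel.Gabber.of_henselianRing hA.1).of_isIntegral).henselianRing
    have h2 := henselianRing_map_ringEquiv
      (Algebra.TensorProduct.comm A Ah B).toRingEquiv h1
    have h3 : ((I.map (algebraMap A Ah)).map (algebraMap Ah (Ah ⊗[A] B))).map
        ((Algebra.TensorProduct.comm A Ah B).toRingEquiv : Ah ⊗[A] B →+* B ⊗[A] Ah)
        = (I.map (algebraMap A B)).map (algebraMap B (B ⊗[A] Ah)) := by
      rw [Ideal.map_map, Ideal.map_map, Ideal.map_map]
      congr 1
      ext a
      show (Algebra.TensorProduct.comm A Ah B) ((algebraMap A Ah a) ⊗ₜ[A] (1 : B))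
        = (algebraMap A B a) ⊗ₜ[A] (1 : Ah)
      rw [Algebra.TensorProduct.comm_tmul]
      exact one_tmul_algebraMap B Ah a
    rw [h3] at h2
    exact h2
  · intro C _ L f hC hf
    let f₀ : A →+* C := f.comp (algebraMap A B)
    let _ : Algebra A C := f₀.toAlgebra
    have hf₀ : I.map f₀ ≤ L := by
      rw [← Ideal.map_map]
      exact hf
    obtain ⟨g₀, hg₀, hg₀uniq⟩ := hA.2 C L f₀ hC hf₀
    let fA : B →ₐ[A] C := { f with commutes' := fun a => rfl }
    let gA : Ah →ₐ[A] C := { g₀ with commutes' := fun a => RingHom.congr_fun hg₀ a }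
    let g : B ⊗[A] Ah →ₐ[A] C := Algebra.TensorProduct.productMap fA gA
    refine ⟨g.toRingHom, ?_, ?_⟩
    · ext b
      show g (b ⊗ₜ 1) = f b
      simp [g, fA, Algebra.TensorProduct.productMap_apply_tmul]
    · intro g' hg'
      have h1 : g'.comp (Algebra.TensorProduct.includeRight : Ah →ₐ[A] B ⊗[A] Ah).toRingHom
          = g₀ := by
        apply hg₀uniq
        ext a
        show g' ((1 : B) ⊗ₜ[A] (algebraMap A Ah a)) = f₀ a
        rw [one_tmul_algebraMap B Ah a]
        exact RingHom.congr_fun hg' (algebraMap A B a)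
      refine RingHom.ext fun t => ?_
      induction t using TensorProduct.induction_on with
      | zero => simp
      | add x y hx hy => rw [map_add, map_add, hx, hy]
      | tmul b h =>
        have h3 : b ⊗ₜ[A] h = (b ⊗ₜ[A] (1 : Ah)) * ((1 : B) ⊗ₜ[A] h) := by
          rw [Algebra.TensorProduct.tmul_mul_tmul, mul_one, one_mul]
        rw [h3, map_mul, map_mul]
        congr 1
        · have := RingHom.congr_fun hg' b
          simp only [RingHom.comp_apply] at this
          rw [show (b ⊗ₜ[A] (1 : Ah)) = algebraMap B (B ⊗[A] Ah) b from rfl, this]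
          show f b = g (b ⊗ₜ 1)
          simp [g, fA, Algebra.TensorProduct.productMap_apply_tmul]
        · have := RingHom.congr_fun h1 h
          simp only [RingHom.comp_apply] at this
          show g' ((1 : B) ⊗ₜ[A] h) = g ((1 : B) ⊗ₜ[A] h)
          have h4 : g ((1 : B) ⊗ₜ[A] h) = g₀ h := by
            simp [g, gA, Algebra.TensorProduct.productMap_apply_tmul]
          rw [h4, ← this]
          rfl

end Groth.Agent.Helper7.Hens
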