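import Mathlib
import Groth.Prelude.Def_Hens2
import Groth.Agent.Lib.Helper7.Hens.Abstract2

/-!
# A pair henselization is the colimit of the étale neighbourhoods of `V(I)`
-/

namespace Groth.Agent.Helper7.Hens

universe u

variable {A : Type u} [CommRing A] {I : Ideal A}

/-- A tight stage has `A/I ≃ Ring/I·Ring`. -/
theorem bijective_of_tight (V : Nbhd A I)
    (hV : ∀ y : V.Ring, V.sec y = 0 → y ∈ I.map (algebraMap A V.Ring)) :
    Function.Bijective (Ideal.quotientMap (I.map (algebraMap A V.Ring)) (algebraMap A V.Ring)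
      Ideal.le_comap_map) := by
  constructor
  · rw [injective_iff_map_eq_zero]
    intro x hx
    obtain ⟨a, rfl⟩ := Ideal.Quotient.mk_surjective x
    rw [Ideal.quotientMap_mk, Ideal.Quotient.eq_zero_iff_mem] at hx
    have := algHom_quot_eq_zero V.sec hx
    rwa [AlgHom.commutes] at this
  · intro y
    obtain ⟨y, rfl⟩ := Ideal.Quotient.mk_surjective y
    obtain ⟨a, ha⟩ := Ideal.Quotient.mk_surjective (V.sec y)
    refine ⟨Ideal.Quotient.mk I a, ?_⟩
    rw [Ideal.quotientMap_mk]
    symm
    rw [Ideal.Quotient.eq]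
    apply hV
    rw [map_sub, AlgHom.commutes, ← ha]
    exact sub_self _

/-- Uniqueness of maps from an étale neighbourhood to an algebra in which `I` generates an
ideal of the Jacobson radical. -/
theorem algHom_unique_of_bijective (A' : Type u) [CommRing A'] [Algebra A A'] [Algebra.Etale A A']
    (hbij : Function.Bijective (Ideal.quotientMap (I.map (algebraMap A A')) (algebraMap A A')
      Ideal.le_comap_map))
    {D : Type u} [CommRing D] [Algebra A D] (hjac : I.map (algebraMap A D) ≤ Ideal.jacobson ⊥)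
    (φ₁ φ₂ : A' →ₐ[A] D) : φ₁ = φ₂ := by
  apply Hensel.algHom_eq_of_formallyUnramified _ hjac
  intro x
  obtain ⟨y, hy⟩ := hbij.2 (Ideal.Quotient.mk _ x)
  obtain ⟨a, rfl⟩ := Ideal.Quotient.mk_surjective y
  rw [Ideal.quotientMap_mk, Ideal.Quotient.eq] at hy
  have h1 : φ₁ x - φ₂ x = φ₂ (algebraMap A A' a - x) - φ₁ (algebraMap A A' a - x) := by
    rw [map_sub, map_sub, AlgHom.commutes, AlgHom.commutes]; ring
  rw [h1]
  exact sub_mem (algHom_mem_map φ₂ hy) (algHom_mem_map φ₁ hy)

/-- Existence of a map from an étale neighbourhood to the constructed henselization. -/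
theorem exists_algHom_H (A' : Type u) [CommRing A'] [Algebra A A'] [Algebra.Etale A A']
    (hbij : Function.Bijective (Ideal.quotientMap (I.map (algebraMap A A')) (algebraMap A A')
      Ideal.le_comap_map)) :
    ∃ (U : Nbhd A I) (_ : U.Ring ≃ₐ[A] A'), True := by
  obtain ⟨σ, -⟩ := Groth.Agent.Helper7.MonicFactorLift.exists_section I hbij
  exact ⟨Nbhd.of A' σ, Nbhd.ofEquiv A' σ, trivial⟩

theorem structure_of_isPairHenselization {B : Type u} [CommRing B] [Algebra A B]
    (hB : Hens2.IsPairHenselization A I B) :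
    (∀ (A' : Type u) [CommRing A'] [Algebra A A'] [Algebra.Etale A A'],
        Function.Bijective (Ideal.quotientMap (I.map (algebraMap A A')) (algebraMap A A')
          Ideal.le_comap_map) → Nonempty (Unique (A' →ₐ[A] B))) ∧
    (∀ x : B, ∃ (A' : Type u) (_ : CommRing A') (_ : Algebra A A') (_ : Algebra.Etale A A'),
        Function.Bijective (Ideal.quotientMap (I.map (algebraMap A A')) (algebraMap A A')
          Ideal.le_comap_map) ∧ ∃ (φ : A' →ₐ[A] B) (s : A'), φ s = x) ∧
    (∀ (A' : Type u) [CommRing A'] [Algebra A A'] [Algebra.Etale A A'],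
        Function.Bijective (Ideal.quotientMap (I.map (algebraMap A A')) (algebraMap A A')
          Ideal.le_comap_map) →
          ∀ (φ : A' →ₐ[A] B) (s : A'), φ s = 0 →
            ∃ (A'' : Type u) (_ : CommRing A'') (_ : Algebra A A'') (_ : Algebra.Etale A A''),
              Function.Bijective (Ideal.quotientMap (I.map (algebraMap A A''))
                (algebraMap A A'') Ideal.le_comap_map) ∧ ∃ ψ : A' →ₐ[A] A'', ψ s = 0) := by
  obtain ⟨e⟩ := nonempty_algEquiv_H hB
  have hjacB : I.map (algebraMap A B) ≤ Ideal.jacobson ⊥ := hB.1.jac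
  refine ⟨?_, ?_, ?_⟩
  · intro A' _ _ _ hbij
    obtain ⟨U, ε, -⟩ := exists_algHom_H A' hbij
    let φ₀ : A' →ₐ[A] B := (e.symm.toAlgHom.comp (ιAlg U)).comp ε.symm.toAlgHom
    exact ⟨⟨⟨φ₀⟩, fun φ => algHom_unique_of_bijective A' hbij hjacB φ φ₀⟩⟩
  · intro x
    obtain ⟨U, u, hu⟩ := exists_rep (e x)
    obtain ⟨V, f, hV⟩ := exists_tight U
    refine ⟨V.Ring, inferInstance, inferInstance, inferInstance, bijective_of_tight V hV,
      e.symm.toAlgHom.comp (ιAlg V), (f : Nbhd.Hom U V).toAlgHom u, ?_⟩
    rw [AlgHom.comp_apply, ιAlg_apply, ι_hom, hu]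
    exact e.symm_apply_apply x
  · intro A' _ _ _ hbij φ s hs
    obtain ⟨U, ε, -⟩ := exists_algHom_H A' hbij
    have hjacH : I.map (algebraMap A (H A I)) ≤ Ideal.jacobson ⊥ := map_le_jacobson
    have h1 : (e.toAlgHom.comp φ).comp ε.toAlgHom = ιAlg U := by
      have hbijU : Function.Bijective (Ideal.quotientMap (I.map (algebraMap A U.Ring))
          (algebraMap A U.Ring) Ideal.le_comap_map) := by
        -- transport the bijection along `ε`
        constructor
        · rw [injective_iff_map_eq_zero]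
          intro x hx
          obtain ⟨a, rfl⟩ := Ideal.Quotient.mk_surjective x
          rw [Ideal.quotientMap_mk, Ideal.Quotient.eq_zero_iff_mem, ← mem_map_algEquiv_iff ε,
            AlgEquiv.commutes] at hx
          apply hbij.1
          rw [Ideal.quotientMap_mk, map_zero, Ideal.Quotient.eq_zero_iff_mem]
          exact hx
        · intro y
          obtain ⟨y, rfl⟩ := Ideal.Quotient.mk_surjective y
          obtain ⟨x, hx⟩ := hbij.2 (Ideal.Quotient.mk _ (ε y))
          obtain ⟨a, rfl⟩ := Ideal.Quotient.mk_surjective x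
          refine ⟨Ideal.Quotient.mk I a, ?_⟩
          rw [Ideal.quotientMap_mk, Ideal.Quotient.eq] at hx ⊢
          rw [← mem_map_algEquiv_iff ε, map_sub, AlgEquiv.commutes]
          exact hx
      exact algHom_unique_of_bijective U.Ring hbijU hjacH _ _
    have h2 : ι U (ε.symm s) = ι U 0 := by
      have := AlgHom.congr_fun h1 (ε.symm s)
      simp only [AlgHom.comp_apply, ιAlg_apply] at this
      rw [← this, map_zero]
      have h3 : ε.toAlgHom (ε.symm s) = s := ε.apply_symm_apply s
      rw [h3, hs, map_zero]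
    obtain ⟨Z, f, hf⟩ := exists_hom_eq_of_ι_eq _ _ h2
    obtain ⟨W, g, hW⟩ := exists_tight Z
    refine ⟨W.Ring, inferInstance, inferInstance, inferInstance, bijective_of_tight W hW,
      ((g : Nbhd.Hom Z W).toAlgHom.comp (f : Nbhd.Hom U Z).toAlgHom).comp ε.symm.toAlgHom, ?_⟩
    simp only [AlgHom.comp_apply]
    have h4 : (f : Nbhd.Hom U Z).toAlgHom (ε.symm.toAlgHom s) = 0 := by
      rw [map_zero] at hf
      exact hf
    rw [h4, map_zero]

end Groth.Agent.Helper7.Hens
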