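import Mathlib
import Groth.Prelude.Def_Hens2
import Groth.Agent.Lib.Helper7.Hens.Structure

/-!
# Henselization of an étale neighbourhood is a henselization of the base pair
-/

namespace Groth.Agent.Helper7.Hens

universe u

/-- Maps from an étale neighbourhood of `(R, I)` to a henselian pair. -/
theorem exists_algHom_of_bijective {R : Type u} [CommRing R] {I : Ideal R}
    (S : Type u) [CommRing S] [Algebra R S] [Algebra.Etale R S]
    (hq : Function.Bijective
      (Ideal.quotientMap (I.map (algebraMap R S)) (algebraMap R S) Ideal.le_comap_map))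
    {C : Type u} [CommRing C] [Algebra R C] {L : Ideal C} (hC : HenselianRing C L)
    (hIL : I.map (algebraMap R C) ≤ L) : Nonempty (S →ₐ[R] C) := by
  obtain ⟨σ, -⟩ := Groth.Agent.Helper7.MonicFactorLift.exists_section I hq
  obtain ⟨ψ, -⟩ := exists_stageHom (Hensel.Gabber.of_henselianRing hC) hIL (Nbhd.of S σ)
  exact ⟨ψ.comp (Nbhd.ofEquiv S σ).symm.toAlgHom⟩

theorem isPairHenselization_of_etale_of_bijective (R : Type u) [CommRing R] (I : Ideal R)
    (S : Type u) [CommRing S] [Algebra R S] [Algebra.Etale R S]
    (hq : Function.Bijective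
      (Ideal.quotientMap (I.map (algebraMap R S)) (algebraMap R S) Ideal.le_comap_map))
    (H' : Type u) [CommRing H'] [Algebra S H'] [Algebra R H'] [IsScalarTower R S H']
    (hH : Hens2.IsPairHenselization S (I.map (algebraMap R S)) H') :
    Hens2.IsPairHenselization R I H' := by
  have hmap : (I.map (algebraMap R S)).map (algebraMap S H') = I.map (algebraMap R H') := by
    rw [Ideal.map_map, ← IsScalarTower.algebraMap_eq]
  refine ⟨hmap ▸ hH.1, ?_⟩
  intro C _ L f hC hf
  let _ : Algebra R C := f.toAlgebra
  have hIL : I.map (algebraMap R C) ≤ L := hf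
  obtain ⟨f'⟩ := exists_algHom_of_bijective S hq hC hIL
  have hf'L : (I.map (algebraMap R S)).map f'.toRingHom ≤ L := by
    rw [Ideal.map_map]
    have : f'.toRingHom.comp (algebraMap R S) = algebraMap R C := f'.comp_algebraMap
    rw [this]
    exact hIL
  obtain ⟨g, hg, hguniq⟩ := hH.2 C L f'.toRingHom hC hf'L
  refine ⟨g, ?_, ?_⟩
  · show g.comp (algebraMap R H') = f
    rw [IsScalarTower.algebraMap_eq R S H', ← RingHom.comp_assoc, hg]
    exact f'.comp_algebraMap
  · intro g' hg'
    apply hguniq
    show g'.comp (algebraMap S H') = f'.toRingHom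
    let k : S →ₐ[R] C :=
      { g'.comp (algebraMap S H') with
        commutes' := fun r => by
          show g' (algebraMap S H' (algebraMap R S r)) = f r
          rw [← IsScalarTower.algebraMap_apply]
          exact RingHom.congr_fun hg' r }
    have hk : k = f' := algHom_unique_of_bijective S hq (hIL.trans hC.jac) k f'
    rw [← hk]

end Groth.Agent.Helper7.Hens
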