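import Mathlib
import Groth.Agent.Lib.Helper7.Hens.EtaleBase
import Groth.Agent.Lib.Helper7.Hens.IntegralBaseChange
import Groth.Agent.Lib.Helper7.Hens.Structure
import Groth.Agent.Lib.Helper7.Hens.Radical

/-!
# Henselian finitely presented maps: basic toolkit

* `isPairHenselization_etale_nbhd`: a henselization of `(R, I)` is also a henselization of
  any étale neighbourhood `(S, IS)` through which it factors.
* `exists_etale_nbhd_of_fin`: finitely many elements of a henselization come from a single
  étale neighbourhood.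
* `isPairHenselization_quotient`: quotients.
* `isPairHenselization_of_ringEquiv`: transport along an isomorphism of base rings.
-/

open TensorProduct

namespace Groth.Agent.Helper7.Hens

universe u

/-- If `H'` is a henselization of `(R, I)` and `S` is an étale neighbourhood of `(R, I)` such that
`H'` is an `S`-algebra compatibly, then `H'` is a henselization of `(S, IS)`. -/
theorem isPairHenselization_etale_nbhd (R : Type u) [CommRing R] (I : Ideal R)
    (S : Type u) [CommRing S] [Algebra R S] [Algebra.Etale R S]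
    (hq : Function.Bijective
      (Ideal.quotientMap (I.map (algebraMap R S)) (algebraMap R S) Ideal.le_comap_map))
    (H' : Type u) [CommRing H'] [Algebra S H'] [Algebra R H'] [IsScalarTower R S H']
    (hH : Hens2.IsPairHenselization R I H') :
    Hens2.IsPairHenselization S (I.map (algebraMap R S)) H' := by
  let H'' := H S (I.map (algebraMap R S))
  let _ : Algebra R H'' := ((algebraMap S H'').comp (algebraMap R S)).toAlgebra
  have _ : IsScalarTower R S H'' := IsScalarTower.of_algebraMap_eq (fun _ => rfl)
  have h1 : Hens2.IsPairHenselization R I H'' :=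
    isPairHenselization_of_etale_of_bijective R I S hq H'' (isPairHenselization_H S _)
  obtain ⟨e⟩ := nonempty_algEquiv_of_isPairHenselization h1 hH
  have hjac : I.map (algebraMap R H') ≤ Ideal.jacobson ⊥ := hH.1.jac
  have heq : (e.toAlgHom).comp (IsScalarTower.toAlgHom R S H'') = IsScalarTower.toAlgHom R S H' :=
    algHom_unique_of_bijective (A := R) (I := I) S hq hjac _ _
  have hcomm : ∀ s : S, e (algebraMap S H'' s) = algebraMap S H' s := fun s =>
    AlgHom.congr_fun heq s
  let e' : H'' ≃ₐ[S] H' := AlgEquiv.ofRingEquiv (f := e.toRingEquiv) hcomm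
  exact isPairHenselization_of_algEquiv e' (isPairHenselization_H S _)

/-- Finitely many elements of a henselization of `(R, I)` come from one étale neighbourhood `U`
of `(R, I)`, and the henselization is then also a henselization of `(U, IU)`. -/
theorem exists_etale_nbhd_of_fin {R : Type u} [CommRing R] {I : Ideal R} {B : Type u}
    [CommRing B] [Algebra R B] (hB : Hens2.IsPairHenselization R I B) {m : ℕ} (b : Fin m → B) :
    ∃ (U : Type u) (_ : CommRing U) (_ : Algebra R U) (_ : Algebra.Etale R U) (_ : Algebra U B)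
      (_ : IsScalarTower R U B),
      Function.Bijective
        (Ideal.quotientMap (I.map (algebraMap R U)) (algebraMap R U) Ideal.le_comap_map) ∧
      Hens2.IsPairHenselization U (I.map (algebraMap R U)) B ∧
      ∀ j, b j ∈ Set.range (algebraMap U B) := by
  obtain ⟨e⟩ := nonempty_algEquiv_H hB
  obtain ⟨X, -, x, hx⟩ := exists_rep_fin (Nbhd.base R I) (fun j => e (b j))
  obtain ⟨Y, f, hY⟩ := exists_tight X
  let ψ : Y.Ring →ₐ[R] B := e.symm.toAlgHom.comp (ιAlg Y)
  let _ : Algebra Y.Ring B := ψ.toRingHom.toAlgebra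
  have hT : IsScalarTower R Y.Ring B :=
    IsScalarTower.of_algebraMap_eq (fun r => (ψ.commutes r).symm)
  have hq := bijective_of_tight Y hY
  refine ⟨Y.Ring, inferInstance, inferInstance, inferInstance, inferInstance, hT, hq,
    isPairHenselization_etale_nbhd R I Y.Ring hq B hB, ?_⟩
  intro j
  refine ⟨(f : Nbhd.Hom X Y).toAlgHom (x j), ?_⟩
  change e.symm (ι Y ((f : Nbhd.Hom X Y).toAlgHom (x j))) = b j
  rw [ι_hom, hx j, AlgEquiv.symm_apply_apply]

/-- Transport of henselizations along an isomorphism of base rings. -/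
theorem isPairHenselization_of_ringEquiv {R₁ R₂ : Type u} [CommRing R₁] [CommRing R₂]
    (e : R₁ ≃+* R₂) {I₁ : Ideal R₁} {I₂ : Ideal R₂} (hI : I₁.map (e : R₁ →+* R₂) = I₂)
    {B : Type u} [CommRing B] [Algebra R₁ B] [Algebra R₂ B]
    (hcomp : ∀ r, algebraMap R₁ B r = algebraMap R₂ B (e r))
    (hB : Hens2.IsPairHenselization R₂ I₂ B) : Hens2.IsPairHenselization R₁ I₁ B := by
  have hcomp' : algebraMap R₁ B = (algebraMap R₂ B).comp (e : R₁ →+* R₂) :=
    RingHom.ext hcomp
  have hmap : I₁.map (algebraMap R₁ B) = I₂.map (algebraMap R₂ B) := by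
    rw [hcomp', ← Ideal.map_map, hI]
  refine ⟨hmap ▸ hB.1, ?_⟩
  intro C _ J f hC hf
  have hf' : I₂.map (f.comp (e.symm : R₂ →+* R₁)) ≤ J := by
    rw [← hI, Ideal.map_map]
    have : (f.comp (e.symm : R₂ →+* R₁)).comp (e : R₁ →+* R₂) = f := by
      ext r; simp
    rw [this]; exact hf
  obtain ⟨g, hg, hguniq⟩ := hB.2 C J (f.comp (e.symm : R₂ →+* R₁)) hC hf'
  refine ⟨g, ?_, ?_⟩
  · change g.comp (algebraMap R₁ B) = f
    rw [hcomp', ← RingHom.comp_assoc, hg]
    ext r; simp
  · intro g' hg'
    apply hguniq
    rw [← hg', hcomp']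
    ext r; simp

/-- Quotients: if `P` is a henselization of `(U, IU)` and `φ : P → B` is surjective with kernel
generated by an ideal `K` of `U`, then `B` is a henselization of `(U/K, IU(U/K))`. -/
theorem isPairHenselization_quotient {U : Type u} [CommRing U] {IU : Ideal U} {P : Type u}
    [CommRing P] [Algebra U P] (hP : Hens2.IsPairHenselization U IU P) (K : Ideal U)
    {B : Type u} [CommRing B] (φ : P →+* B) (hφ : Function.Surjective φ)
    (hker : RingHom.ker φ = K.map (algebraMap U P))
    [Algebra (U ⧸ K) B]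
    (halg : ∀ u, algebraMap (U ⧸ K) B (Ideal.Quotient.mk K u) = φ (algebraMap U P u)) :
    Hens2.IsPairHenselization (U ⧸ K) (IU.map (Ideal.Quotient.mk K)) B := by
  have halg' : (algebraMap (U ⧸ K) B).comp (Ideal.Quotient.mk K) = φ.comp (algebraMap U P) :=
    RingHom.ext halg
  constructor
  · let _ : Algebra P B := φ.toAlgebra
    have _ : Algebra.IsIntegral P B := Algebra.isIntegral_of_surjective hφ
    have h1 : HenselianRing B ((IU.map (algebraMap U P)).map (algebraMap P B)) :=
      ((Hensel.Gabber.of_henselianRing hP.1).of_isIntegral).henselianRing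
    have h2 : (IU.map (algebraMap U P)).map (algebraMap P B) =
        (IU.map (Ideal.Quotient.mk K)).map (algebraMap (U ⧸ K) B) := by
      rw [Ideal.map_map, Ideal.map_map, halg']
      rfl
    rw [← h2]; exact h1
  · intro C _ J f hC hf
    have hf' : IU.map (f.comp (Ideal.Quotient.mk K)) ≤ J := by
      rw [← Ideal.map_map]; exact hf
    obtain ⟨g₀, hg₀, hg₀uniq⟩ := hP.2 C J (f.comp (Ideal.Quotient.mk K)) hC hf'
    have hkill : RingHom.ker φ ≤ RingHom.ker g₀ := by
      rw [hker, Ideal.map_le_iff_le_comap]
      intro k hk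
      rw [Ideal.mem_comap, RingHom.mem_ker]
      have : g₀ (algebraMap U P k) = (g₀.comp (algebraMap U P)) k := rfl
      rw [this, hg₀, RingHom.comp_apply, Ideal.Quotient.eq_zero_iff_mem.mpr hk, map_zero]
    let g : B →+* C := RingHom.liftOfSurjective φ hφ ⟨g₀, hkill⟩
    have hgφ : g.comp φ = g₀ := RingHom.liftOfRightInverse_comp _ _ _ _
    refine ⟨g, ?_, ?_⟩
    · apply Ideal.Quotient.ringHom_ext
      change (g.comp (algebraMap (U ⧸ K) B)).comp (Ideal.Quotient.mk K) = _
      rw [RingHom.comp_assoc, halg', ← RingHom.comp_assoc, hgφ, hg₀]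
    · intro g' hg'
      have h1 : g'.comp φ = g₀ := by
        apply hg₀uniq
        rw [RingHom.comp_assoc, ← halg', ← RingHom.comp_assoc]
        rw [hg']
      ext b
      obtain ⟨p, rfl⟩ := hφ b
      have e1 : g' (φ p) = g₀ p := RingHom.congr_fun h1 p
      have e2 : g (φ p) = g₀ p := RingHom.congr_fun hgφ p
      rw [e1, e2]

end Groth.Agent.Helper7.Hens
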