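import Mathlib
import Groth.Agent.Lib.Helper7.Hens.Abstract

/-!
# Truncations of a henselization `B` of `(R₀, I R₀)` over `A`: `B / I^r B ≅ R₀ / I^r R₀`
-/

open TensorProduct

namespace Groth.Agent.Helper7.Hens

universe u

variable (A : Type u) [CommRing A] (I : Ideal A) (R₀ : Type u) [CommRing R₀] [Algebra A R₀]
  (B : Type u) [CommRing B] [Algebra R₀ B] [Algebra A B] [IsScalarTower A R₀ B]

theorem exists_algEquiv_quotient_pow
    (hB : Hens2.IsPairHenselization R₀ (I.map (algebraMap A R₀)) B) (r : ℕ) :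
    Nonempty ((R₀ ⧸ (I ^ r).map (algebraMap A R₀)) ≃ₐ[A ⧸ I ^ r]
      (B ⧸ (I ^ r).map (algebraMap A B))) := by
  set f := algebraMap A R₀ with hf
  set g := algebraMap R₀ B with hg
  have hgf : g.comp f = algebraMap A B := (IsScalarTower.algebraMap_eq A R₀ B).symm
  have e₁ : (I.map f) ^ r = (I ^ r).map f := (Ideal.map_pow f I r).symm
  have e₂ : ((I.map f) ^ r).map g = (I ^ r).map (algebraMap A B) := by
    rw [e₁, Ideal.map_map, hgf]
  have hle : (I ^ r).map f ≤ ((I ^ r).map (algebraMap A B)).comap g := by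
    rw [← Ideal.map_le_iff_le_comap, Ideal.map_map, hgf]
  have hbij := quotient_pow_bijective_of_isPairHenselization hB r
  let q : (R₀ ⧸ (I ^ r).map f) →+* (B ⧸ (I ^ r).map (algebraMap A B)) :=
    Ideal.quotientMap _ g hle
  have hq : ∀ x : R₀, q (Ideal.Quotient.mk _ x) = Ideal.Quotient.mk _ (g x) := fun x => rfl
  have hqbij : Function.Bijective q := by
    constructor
    · rw [injective_iff_map_eq_zero]
      intro x hx
      obtain ⟨x, rfl⟩ := Ideal.Quotient.mk_surjective x
      rw [hq, Ideal.Quotient.eq_zero_iff_mem, ← e₂] at hx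
      have h1 : Ideal.quotientMap (((I.map f) ^ r).map g) g Ideal.le_comap_map
          (Ideal.Quotient.mk _ x) = 0 := by
        rw [Ideal.quotientMap_mk, Ideal.Quotient.eq_zero_iff_mem]; exact hx
      have h2 := (injective_iff_map_eq_zero _).mp hbij.1 _ h1
      rw [Ideal.Quotient.eq_zero_iff_mem, e₁] at h2
      exact Ideal.Quotient.eq_zero_iff_mem.mpr h2
    · intro y
      obtain ⟨b, rfl⟩ := Ideal.Quotient.mk_surjective y
      obtain ⟨x', hx'⟩ := hbij.2 (Ideal.Quotient.mk _ b)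
      obtain ⟨x, rfl⟩ := Ideal.Quotient.mk_surjective x'
      refine ⟨Ideal.Quotient.mk _ x, ?_⟩
      rw [Ideal.quotientMap_mk, Ideal.Quotient.eq, e₂] at hx'
      rw [hq, Ideal.Quotient.eq]
      exact hx'
  let qa : (R₀ ⧸ (I ^ r).map f) →ₐ[A ⧸ I ^ r] (B ⧸ (I ^ r).map (algebraMap A B)) :=
    { q with
      commutes' := by
        intro x
        obtain ⟨a, rfl⟩ := Ideal.Quotient.mk_surjective x
        change q (Ideal.Quotient.mk _ (f a)) = Ideal.Quotient.mk _ (algebraMap A B a)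
        rw [hq, ← hgf]
        rfl }
  exact ⟨AlgEquiv.ofBijective qa hqbij⟩

theorem finitePresentation_quotient_pow [Algebra.FinitePresentation A R₀]
    (hB : Hens2.IsPairHenselization R₀ (I.map (algebraMap A R₀)) B) (r : ℕ) :
    Algebra.FinitePresentation (A ⧸ I ^ r) (B ⧸ (I ^ r).map (algebraMap A B)) := by
  obtain ⟨e⟩ := exists_algEquiv_quotient_pow A I R₀ B hB r
  have h1 : Algebra.FinitePresentation (A ⧸ I ^ r) (R₀ ⧸ (I ^ r).map (algebraMap A R₀)) :=
    Algebra.FinitePresentation.equiv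
      (Algebra.TensorProduct.quotIdealMapEquivQuotTensor R₀ (I ^ r)).symm
  exact Algebra.FinitePresentation.equiv e

theorem etale_quotient_pow [Algebra.Etale A R₀]
    (hB : Hens2.IsPairHenselization R₀ (I.map (algebraMap A R₀)) B) (r : ℕ) :
    Algebra.Etale (A ⧸ I ^ r) (B ⧸ (I ^ r).map (algebraMap A B)) := by
  obtain ⟨e⟩ := exists_algEquiv_quotient_pow A I R₀ B hB r
  have h1 : Algebra.Etale (A ⧸ I ^ r) (R₀ ⧸ (I ^ r).map (algebraMap A R₀)) :=
    Algebra.Etale.of_equiv
      (Algebra.TensorProduct.quotIdealMapEquivQuotTensor R₀ (I ^ r)).symm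
  exact Algebra.Etale.of_equiv e

theorem smooth_quotient_pow [Algebra.Smooth A R₀]
    (hB : Hens2.IsPairHenselization R₀ (I.map (algebraMap A R₀)) B) (r : ℕ) :
    Algebra.Smooth (A ⧸ I ^ r) (B ⧸ (I ^ r).map (algebraMap A B)) := by
  obtain ⟨e⟩ := exists_algEquiv_quotient_pow A I R₀ B hB r
  have h1 : Algebra.Smooth (A ⧸ I ^ r) (R₀ ⧸ (I ^ r).map (algebraMap A R₀)) :=
    Algebra.Smooth.of_equiv
      (Algebra.TensorProduct.quotIdealMapEquivQuotTensor R₀ (I ^ r)).symm
  exact Algebra.Smooth.of_equiv e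

theorem flat_of_flat_base [Module.Flat A R₀]
    (hB : Hens2.IsPairHenselization R₀ (I.map (algebraMap A R₀)) B) : Module.Flat A B := by
  have : Module.Flat R₀ B := flat_of_isPairHenselization hB
  exact Module.Flat.trans A R₀ B

end Groth.Agent.Helper7.Hens
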