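import Mathlib
import Groth.Agent.Lib.Helper7.Hens.FinPres
import Groth.Agent.Lib.Helper7.Hens.QuotPow
import Groth.Agent.Lib.Helper7.Hens.SmoothAtLocal
import Groth.Agent.Lib.Helper7.CAlg.AwayNbhd
import Groth.Agent.Lib.Helper1.LocalCrit

/-!
# h-smooth and h-étale maps: from flatness and smoothness of the truncations
-/

open TensorProduct

namespace Groth.Agent.Helper7.Hens

universe u

section Prime

variable {R : Type u} [CommRing R] {J : Ideal R} {B : Type u} [CommRing B] [Algebra R B]

/-- Primes containing `J` lift to the henselization of `(R, J)`. -/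
theorem exists_prime_liesOver_of_isPairHenselization (hB : Hens2.IsPairHenselization R J B)
    (q : Ideal R) [q.IsPrime] (hq : J ≤ q) : ∃ q' : Ideal B, q'.IsPrime ∧ q'.LiesOver q := by
  have hbij := quotient_bijective_of_isPairHenselization hB
  let e := RingEquiv.ofBijective _ hbij
  let qb : Ideal (R ⧸ J) := q.map (Ideal.Quotient.mk J)
  have hqb : qb.IsPrime :=
    Ideal.map_isPrime_of_surjective Ideal.Quotient.mk_surjective (by rwa [Ideal.mk_ker])
  let qb' : Ideal (B ⧸ J.map (algebraMap R B)) := qb.comap (e.symm : _ →+* _)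
  have hqb' : qb'.IsPrime := Ideal.comap_isPrime _ _
  refine ⟨qb'.comap (Ideal.Quotient.mk _), Ideal.comap_isPrime _ _, ⟨?_⟩⟩
  ext x
  rw [Ideal.under_def, Ideal.mem_comap, Ideal.mem_comap, Ideal.mem_comap]
  have h1 : Ideal.Quotient.mk (J.map (algebraMap R B)) (algebraMap R B x) =
      e (Ideal.Quotient.mk J x) := rfl
  rw [h1]
  change x ∈ q ↔ e.symm (e (Ideal.Quotient.mk J x)) ∈ qb
  rw [RingEquiv.symm_apply_apply]
  exact (Ideal.mem_quotient_iff_mem hq).symm

/-- Localizing away from `g ≡ 1 mod J` does not change the henselization. -/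
theorem exists_away_isPairHenselization (hB : Hens2.IsPairHenselization R J B) (g : R)
    (hg : 1 - g ∈ J) :
    ∃ (_ : Algebra (Localization.Away g) B) (_ : IsScalarTower R (Localization.Away g) B),
      Hens2.IsPairHenselization (Localization.Away g)
        (J.map (algebraMap R (Localization.Away g))) B := by
  have hunit : IsUnit (algebraMap R B g) := by
    have h1 : algebraMap R B (1 - g) ∈ Ideal.jacobson (⊥ : Ideal B) :=
      hB.1.jac (Ideal.mem_map_of_mem _ hg)
    have h2 := Ideal.mem_jacobson_bot.mp h1 (-1)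
    have h3 : algebraMap R B (1 - g) * -1 + 1 = algebraMap R B g := by
      rw [map_sub, map_one]; ring
    rwa [h3] at h2
  let _ : Algebra (Localization.Away g) B := (IsLocalization.Away.lift g hunit).toAlgebra
  have hT : IsScalarTower R (Localization.Away g) B :=
    IsScalarTower.of_algebraMap_eq (fun x => (IsLocalization.Away.lift_eq g hunit x).symm)
  exact ⟨inferInstance, hT, isPairHenselization_etale_nbhd R J (Localization.Away g)
    (Groth.Agent.Helper7.AwayNbhd.bijective_quotientMap_away J g hg _) B hB⟩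

end Prime

section Flat

variable (A : Type u) [CommRing A] (R₀ : Type u) [CommRing R₀] [Algebra A R₀]
  (B : Type u) [CommRing B] [Algebra R₀ B] [Algebra A B] [IsScalarTower A R₀ B]

/-- If `B` is flat over `A` and over `R₀`, and `q'` is a prime of `B` over `q`, then `(R₀)_q` is
flat over `A`. -/
theorem flat_localization_of_liesOver [Module.Flat A B] [Module.Flat R₀ B] (q : Ideal R₀)
    [q.IsPrime] (q' : Ideal B) [q'.IsPrime] [q'.LiesOver q] :
    Module.Flat A (Localization.AtPrime q) := by
  let _ : Algebra (Localization.AtPrime q) (Localization.AtPrime q') :=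
    Localization.AtPrime.algebraOfLiesOver q q'
  have hloc : IsLocalHom (algebraMap (Localization.AtPrime q) (Localization.AtPrime q')) :=
    Localization.isLocalHom_localRingHom q q' (algebraMap R₀ B) Ideal.LiesOver.over
  have hff : Module.FaithfullyFlat (Localization.AtPrime q) (Localization.AtPrime q') :=
    Module.FaithfullyFlat.of_flat_of_isLocalHom
  have hfl : Module.Flat A (Localization.AtPrime q') := Module.Flat.trans A B _
  exact Groth.Agent.Helper1.LocalCrit.flat_of_faithfullyFlat_of_flat (R := A)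
    (S := Localization.AtPrime q) (Localization.AtPrime q')

end Flat

section Fibre

variable (A : Type u) [CommRing A] (K : Ideal A) (R₀ : Type u) [CommRing R₀] [Algebra A R₀]

/-- If `R₀ / K R₀` is formally smooth over `A / K`, the fibres of `R₀` over primes containing `K`
are formally smooth. -/
theorem formallySmooth_fiber
    (hsm : Algebra.FormallySmooth (A ⧸ K) (R₀ ⧸ K.map (algebraMap A R₀)))
    (p : Ideal A) [p.IsPrime] (hKp : K ≤ p) :
    Algebra.FormallySmooth p.ResidueField (p.Fiber R₀) := by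
  have h1 : Algebra.FormallySmooth (A ⧸ K) ((A ⧸ K) ⊗[A] R₀) :=
    Algebra.FormallySmooth.of_equiv (Algebra.TensorProduct.quotIdealMapEquivQuotTensor R₀ K)
  let _ : Algebra (A ⧸ K) p.ResidueField :=
    (Ideal.Quotient.lift K (algebraMap A p.ResidueField) (fun a ha =>
      Ideal.algebraMap_residueField_eq_zero.mpr (hKp ha))).toAlgebra
  have _ : IsScalarTower A (A ⧸ K) p.ResidueField := IsScalarTower.of_algebraMap_eq (fun _ => rfl)
  have h2 : Algebra.FormallySmooth p.ResidueField
      (p.ResidueField ⊗[A ⧸ K] ((A ⧸ K) ⊗[A] R₀)) := inferInstance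
  exact Algebra.FormallySmooth.of_equiv
    (Algebra.TensorProduct.cancelBaseChange A (A ⧸ K) p.ResidueField p.ResidueField R₀)

attribute [local instance] Algebra.TensorProduct.rightAlgebra in
/-- If `R₀ / K R₀` is formally unramified over `A / K`, then `R₀` is unramified over `A` at all
primes containing `K R₀`. -/
theorem mem_unramifiedLocus_of_quotient [Algebra.FiniteType A R₀]
    (hun : Algebra.FormallyUnramified (A ⧸ K) (R₀ ⧸ K.map (algebraMap A R₀)))
    (q : PrimeSpectrum R₀) (hq : K.map (algebraMap A R₀) ≤ q.asIdeal) :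
    q ∈ Algebra.unramifiedLocus A R₀ := by
  rw [Algebra.unramifiedLocus_eq_compl_support, Set.mem_compl_iff]
  have h1 : Algebra.FormallyUnramified (A ⧸ K) ((A ⧸ K) ⊗[A] R₀) :=
    Algebra.FormallyUnramified.of_equiv (Algebra.TensorProduct.quotIdealMapEquivQuotTensor R₀ K)
  have h2 : Subsingleton (Ω[((A ⧸ K) ⊗[A] R₀)⁄(A ⧸ K)]) := inferInstance
  have h3 : Subsingleton ((A ⧸ K) ⊗[A] Ω[R₀⁄A]) :=
    (KaehlerDifferential.tensorKaehlerEquivBase A (A ⧸ K) R₀
      ((A ⧸ K) ⊗[A] R₀)).toEquiv.subsingleton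
  have h4 : (K • (⊤ : Submodule A Ω[R₀⁄A])) = ⊤ := by
    have : Subsingleton (Ω[R₀⁄A] ⧸ (K • (⊤ : Submodule A Ω[R₀⁄A]))) :=
      (TensorProduct.quotTensorEquivQuotSMul Ω[R₀⁄A] K).symm.toEquiv.subsingleton
    exact Submodule.Quotient.subsingleton_iff.mp this
  have h5 : (⊤ : Submodule R₀ Ω[R₀⁄A]) ≤
      (K.map (algebraMap A R₀)) • (⊤ : Submodule R₀ Ω[R₀⁄A]) := by
    intro x _
    have hx : x ∈ K • (⊤ : Submodule A Ω[R₀⁄A]) := by rw [h4]; trivial
    refine Submodule.smul_induction_on hx ?_ ?_
    · intro a ha y _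
      rw [← algebraMap_smul R₀ a y]
      exact Submodule.smul_mem_smul (Ideal.mem_map_of_mem _ ha) trivial
    · intro y z hy hz
      exact add_mem hy hz
  obtain ⟨r, hr1, hr0⟩ := Submodule.exists_sub_one_mem_and_smul_eq_zero_of_fg_of_le_smul
    (K.map (algebraMap A R₀)) (⊤ : Submodule R₀ Ω[R₀⁄A]) Module.Finite.fg_top h5
  intro hmem
  have hann : r ∈ Module.annihilator R₀ Ω[R₀⁄A] := by
    rw [Module.mem_annihilator]
    intro y
    exact hr0 y trivial
  have hrq : r ∈ q.asIdeal := (Module.mem_support_iff_of_finite.mp hmem) hann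
  have h1q : (1 : R₀) ∈ q.asIdeal := by
    have := sub_mem hrq (hq hr1)
    rwa [sub_sub_cancel] at this
  exact q.isPrime.ne_top ((Ideal.eq_top_iff_one _).mpr h1q)

end Fibre

section Main

variable (A : Type u) [CommRing A] (I : Ideal A) (R₀ : Type u) [CommRing R₀] [Algebra A R₀]
  [Algebra.FinitePresentation A R₀]
  (B : Type u) [CommRing B] [Algebra R₀ B] [Algebra A B] [IsScalarTower A R₀ B]
  (hB : Hens2.IsPairHenselization R₀ (I.map (algebraMap A R₀)) B) [Module.Flat A B]

include hB in
theorem isSmoothAt_of_flat (r : ℕ) (hr : 1 ≤ r)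
    (hsm : Algebra.FormallySmooth (A ⧸ I ^ r) (B ⧸ (I ^ r).map (algebraMap A B)))
    (q : Ideal R₀) [q.IsPrime] (hq : I.map (algebraMap A R₀) ≤ q) : Algebra.IsSmoothAt A q := by
  obtain ⟨e⟩ := exists_algEquiv_quotient_pow A I R₀ B hB r
  have hsm₀ : Algebra.FormallySmooth (A ⧸ I ^ r) (R₀ ⧸ (I ^ r).map (algebraMap A R₀)) :=
    Algebra.FormallySmooth.of_equiv e.symm
  let p : Ideal A := q.under A
  have hqp : q.LiesOver p := ⟨rfl⟩
  have hIp : I ≤ p := fun a ha => hq (Ideal.mem_map_of_mem _ ha)
  have hKp : I ^ r ≤ p := (Ideal.pow_le_self (by omega)).trans hIp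
  have hfib := formallySmooth_fiber A (I ^ r) R₀ hsm₀ p hKp
  obtain ⟨q', hq'p, hq'⟩ := exists_prime_liesOver_of_isPairHenselization hB q hq
  have hflB : Module.Flat R₀ B := flat_of_isPairHenselization hB
  have hflat := flat_localization_of_liesOver A R₀ B q q'
  exact isSmoothAt_of_flat_localization p q hflat

include hB in
theorem exists_smooth_away (r : ℕ) (hr : 1 ≤ r)
    (hsm : Algebra.FormallySmooth (A ⧸ I ^ r) (B ⧸ (I ^ r).map (algebraMap A B))) :
    ∃ g : R₀, 1 - g ∈ I.map (algebraMap A R₀) ∧ Algebra.Smooth A (Localization.Away g) := by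
  have hsub : PrimeSpectrum.zeroLocus ((I.map (algebraMap A R₀) : Ideal R₀) : Set R₀) ⊆
      Algebra.smoothLocus A R₀ := by
    intro q hq
    have _ : q.asIdeal.IsPrime := q.isPrime
    exact isSmoothAt_of_flat A I R₀ B hB r hr hsm q.asIdeal hq
  obtain ⟨g, hg, hgU⟩ := Groth.Agent.Helper7.AwayNbhd.exists_basicOpen_subset
    (I.map (algebraMap A R₀)) _ Algebra.isOpen_smoothLocus hsub
  exact ⟨g, hg, Algebra.basicOpen_subset_smoothLocus_iff_smooth.mp hgU⟩

include hB in
theorem exists_etale_away' (r : ℕ) (hr : 1 ≤ r)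
    (het : Algebra.FormallyEtale (A ⧸ I ^ r) (B ⧸ (I ^ r).map (algebraMap A B))) :
    ∃ g : R₀, 1 - g ∈ I.map (algebraMap A R₀) ∧ Algebra.Etale A (Localization.Away g) := by
  obtain ⟨e⟩ := exists_algEquiv_quotient_pow A I R₀ B hB r
  have hun₀ : Algebra.FormallyUnramified (A ⧸ I ^ r) (R₀ ⧸ (I ^ r).map (algebraMap A R₀)) :=
    Algebra.FormallyUnramified.of_equiv e.symm
  have hsub : PrimeSpectrum.zeroLocus ((I.map (algebraMap A R₀) : Ideal R₀) : Set R₀) ⊆
      Algebra.etaleLocus A R₀ := by
    intro q hq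
    have _ : q.asIdeal.IsPrime := q.isPrime
    rw [Algebra.etaleLocus_eq_unramfiedLocus_inter_smoothLocus]
    refine ⟨?_, isSmoothAt_of_flat A I R₀ B hB r hr inferInstance q.asIdeal hq⟩
    apply mem_unramifiedLocus_of_quotient A (I ^ r) R₀ hun₀ q
    refine le_trans (Ideal.map_mono (Ideal.pow_le_self (by omega))) hq
  obtain ⟨g, hg, hgU⟩ := Groth.Agent.Helper7.AwayNbhd.exists_basicOpen_subset
    (I.map (algebraMap A R₀)) _ Algebra.isOpen_etaleLocus hsub
  exact ⟨g, hg, Algebra.basicOpen_subset_etaleLocus_iff_etale.mp hgU⟩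

omit [Algebra.FinitePresentation A R₀] [Module.Flat A B] in
include hB in
/-- Common final step: pass to `R = (R₀)_g`. -/
theorem exists_of_away (P : ∀ (R : Type u) [CommRing R] [Algebra A R], Prop)
    (g : R₀) (hg : 1 - g ∈ I.map (algebraMap A R₀)) (hP : P (Localization.Away g)) :
    ∃ (R : Type u) (_ : CommRing R) (_ : Algebra A R) (_ : Algebra R B) (_ : IsScalarTower A R B),
      P R ∧ Hens2.IsPairHenselization R (I.map (algebraMap A R)) B := by
  obtain ⟨alg, hT, hR⟩ := exists_away_isPairHenselization hB g hg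
  have hAT : IsScalarTower A (Localization.Away g) B := by
    refine IsScalarTower.of_algebraMap_eq (fun a => ?_)
    rw [IsScalarTower.algebraMap_apply A R₀ (Localization.Away g),
      ← IsScalarTower.algebraMap_apply R₀ (Localization.Away g) B,
      ← IsScalarTower.algebraMap_apply A R₀ B]
  refine ⟨Localization.Away g, inferInstance, inferInstance, alg, hAT, hP, ?_⟩
  have hI : (I.map (algebraMap A R₀)).map (algebraMap R₀ (Localization.Away g)) =
      I.map (algebraMap A (Localization.Away g)) := by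
    rw [Ideal.map_map, ← IsScalarTower.algebraMap_eq]
  rw [hI] at hR
  exact hR

end Main

end Groth.Agent.Helper7.Hens
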