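import Mathlib
import Groth.Agent.Lib.Helper7.Hens.HSmooth
import Groth.Agent.Lib.Helper7.Hensel.IdemLift
import Groth.Agent.Lib.Helper7.Hensel.GlobalZMT

set_option autoImplicit false
set_option linter.style.haveILetI false
set_option linter.unusedVariables false
set_option linter.unusedSectionVars false

/-! helper7: finite part of a finite type algebra over a henselian pair whose reduction is finite (idempotent splitting via Zariski main theorem); hfp maps finite mod I are finite. -/

namespace Groth.Agent.Helper7.HfpFinite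

open Groth.Agent.Helper7.Hensel Groth.Agent.Helper7.Hens

universe u

section QF

variable {A : Type u} [CommRing A] (I : Ideal A) {E : Type u} [CommRing E] [Algebra A E]
  [Algebra.FiniteType A E]

/-- If `E/IE` is quasi-finite over `A`, then `E` is quasi-finite over `A` at every prime
containing `IE`. -/
theorem quasiFiniteAt_of_quotient [Algebra.QuasiFinite A (E ⧸ I.map (algebraMap A E))]
    (q : Ideal E) [q.IsPrime] (hq : I.map (algebraMap A E) ≤ q) : Algebra.QuasiFiniteAt A q := by
  have hle : I.map (algebraMap A E) ≤ (q.under A).map (algebraMap A E) := by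
    apply Ideal.map_mono
    intro a ha
    exact hq (Ideal.mem_map_of_mem _ ha)
  haveI : Algebra.QuasiFinite A (E ⧸ (q.under A).map (algebraMap A E)) :=
    Algebra.QuasiFinite.of_surjective_algHom (Ideal.Quotient.factorₐ A hle)
      (Ideal.Quotient.factor_surjective hle)
  haveI : (q.map (Ideal.Quotient.mk ((q.under A).map (algebraMap A E)))).IsPrime :=
    Ideal.map_isPrime_of_surjective Ideal.Quotient.mk_surjective (by
      rw [Ideal.mk_ker]; exact Ideal.map_comap_le)
  haveI : Algebra.WeaklyQuasiFiniteAt A q := by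
    show Algebra.QuasiFiniteAt A _
    infer_instance
  exact Algebra.QuasiFiniteAt.of_weaklyQuasiFiniteAt q

end QF

section Good

variable (A : Type u) [CommRing A] (E : Type u) [CommRing E] [Algebra A E]

/-- The submodule of elements `r` integral over `A` a power of which multiplies every element
into the integral closure. -/
def good : Submodule A E where
  carrier := {r | IsIntegral A r ∧ ∀ x : E, ∃ m : ℕ, IsIntegral A (r ^ m * x)}
  zero_mem' := ⟨isIntegral_zero, fun x => ⟨1, by simp [isIntegral_zero]⟩⟩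
  add_mem' := by
    rintro r₁ r₂ ⟨h₁, h₁'⟩ ⟨h₂, h₂'⟩
    refine ⟨h₁.add h₂, fun x => ?_⟩
    obtain ⟨m₁, hm₁⟩ := h₁' x
    obtain ⟨m₂, hm₂⟩ := h₂' x
    exact ⟨m₁ + m₂, zmt_add h₁ h₂ x m₁ m₂ hm₁ hm₂⟩
  smul_mem' := by
    rintro a r ⟨h₁, h₁'⟩
    refine ⟨?_, fun x => ?_⟩
    · rw [Algebra.smul_def]; exact isIntegral_algebraMap.mul h₁
    · obtain ⟨m, hm⟩ := h₁' x
      refine ⟨m, ?_⟩
      have : (a • r) ^ m * x = algebraMap A E (a ^ m) * (r ^ m * x) := by
        rw [Algebra.smul_def, mul_pow, map_pow]; ring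
      rw [this]
      exact isIntegral_algebraMap.mul hm

variable {A E}

theorem mem_good {r : E} :
    r ∈ good A E ↔ IsIntegral A r ∧ ∀ x : E, ∃ m : ℕ, IsIntegral A (r ^ m * x) := Iff.rfl

theorem mul_mem_good {r c : E} (hr : r ∈ good A E) (hc : IsIntegral A c) : c * r ∈ good A E := by
  refine ⟨hc.mul hr.1, fun x => ?_⟩
  obtain ⟨m, hm⟩ := hr.2 x
  refine ⟨m, ?_⟩
  have : (c * r) ^ m * x = c ^ m * (r ^ m * x) := by rw [mul_pow]; ring
  rw [this]
  exact (hc.pow m).mul hm

theorem pow_mul_mem_good {r y : E} (hr : r ∈ good A E) {m M : ℕ} (hm : IsIntegral A (r ^ m * y))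
    (hM : m < M) : r ^ M * y ∈ good A E := by
  have : r ^ M * y = (r ^ (M - m - 1) * (r ^ m * y)) * r := by
    have h1 : M = (M - m - 1) + m + 1 := by omega
    conv_lhs => rw [h1]
    ring
  rw [this]
  exact mul_mem_good hr (((hr.1).pow _).mul hm)

theorem exists_elem [Algebra.FiniteType A E] (K : Ideal E) [Module.Finite A (E ⧸ K)]
    (hqf : ∀ (q : Ideal E) [q.IsPrime], K ≤ q → Algebra.QuasiFiniteAt A q) :
    ∃ Δ ∈ good A E, Δ - 1 ∈ K := by
  classical
  let s : E →ₐ[A] E ⧸ K := Ideal.Quotient.mkₐ A K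
  -- the images of good elements generate the unit ideal
  have htop : Ideal.span (s '' (good A E : Set E)) = ⊤ := by
    by_contra hne
    obtain ⟨n, hn, hle⟩ := Ideal.exists_le_maximal _ hne
    have hnp : n.IsPrime := hn.isPrime
    let q := n.comap s.toRingHom
    have hq : q.IsPrime := Ideal.comap_isPrime s.toRingHom n
    have hKq : K ≤ q := by
      intro k hk
      show s k ∈ n
      have : s k = 0 := Ideal.Quotient.eq_zero_iff_mem.mpr hk
      rw [this]; exact n.zero_mem
    have := hqf q hKq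
    obtain ⟨r, hrq, hr1, hr2⟩ := Algebra.zariskisMainProperty_iff.mp
      (Algebra.ZariskisMainProperty.of_finiteType (R := A) q)
    apply hrq
    show s r ∈ n
    exact hle (Ideal.subset_span ⟨r, ⟨hr1, hr2⟩, rfl⟩)
  -- finitely many suffice
  have h1 : (1 : E ⧸ K) ∈ Ideal.span (s '' (good A E : Set E)) := by rw [htop]; trivial
  obtain ⟨F', hF'sub, hF'1⟩ := Submodule.mem_span_finite_of_mem_span h1
  obtain ⟨F, hFsub, rfl⟩ := Finset.subset_set_image_iff.mp hF'sub
  have hFtop : Ideal.span ((F.image s : Finset (E ⧸ K)) : Set (E ⧸ K)) = ⊤ :=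
    (Ideal.eq_top_iff_one _).mpr hF'1
  -- module generators of `E/K`
  obtain ⟨Y', hY'⟩ := (Module.Finite.fg_top : (⊤ : Submodule A (E ⧸ K)).FG)
  have hlift : ∀ ybar : E ⧸ K, ∃ y : E, s y = ybar := fun ybar =>
    Ideal.Quotient.mk_surjective ybar
  choose lift hlift using hlift
  -- exponents
  have hexp : ∀ r : E, r ∈ good A E → ∀ y : E, ∃ m : ℕ, IsIntegral A (r ^ m * y) :=
    fun r hr y => hr.2 y
  let mfun : E → E → ℕ := fun r y => if h : r ∈ good A E then (hexp r h y).choose else 0
  have hmfun : ∀ r ∈ good A E, ∀ y, IsIntegral A (r ^ mfun r y * y) := by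
    intro r hr y
    simp only [mfun, dif_pos hr]
    exact (hexp r hr y).choose_spec
  let M : ℕ := (F.sup fun r => Y'.sup fun ybar => mfun r (lift ybar)) + 1
  have hM : ∀ r ∈ F, ∀ ybar ∈ Y', mfun r (lift ybar) < M := by
    intro r hr ybar hy
    have h1 : mfun r (lift ybar) ≤ Y'.sup fun ybar => mfun r (lift ybar) :=
      Finset.le_sup (f := fun ybar => mfun r (lift ybar)) hy
    have h2 : (Y'.sup fun ybar => mfun r (lift ybar)) ≤
        F.sup fun r => Y'.sup fun ybar => mfun r (lift ybar) :=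
      Finset.le_sup (f := fun r => Y'.sup fun ybar => mfun r (lift ybar)) hr
    omega
  -- the image of the good submodule
  let N : Submodule A (E ⧸ K) := (good A E).map s.toLinearMap
  have hgen : ∀ r ∈ F, ∀ z : E ⧸ K, z * s r ^ M ∈ N := by
    intro r hr z
    have hz : z ∈ Submodule.span A (Y' : Set (E ⧸ K)) := by rw [hY']; trivial
    induction hz using Submodule.span_induction with
    | mem ybar hy =>
      refine ⟨r ^ M * lift ybar, pow_mul_mem_good (hFsub hr) (hmfun r (hFsub hr) _)
        (hM r hr ybar hy), ?_⟩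
      show s (r ^ M * lift ybar) = _
      rw [map_mul, map_pow, hlift, mul_comm]
    | zero => rw [zero_mul]; exact N.zero_mem
    | add x y _ _ hx hy => rw [add_mul]; exact N.add_mem hx hy
    | smul a x _ hx => rw [smul_mul_assoc]; exact N.smul_mem a hx
  have hpowtop : Ideal.span ((fun x => x ^ M) '' ((F.image s : Finset (E ⧸ K)) : Set (E ⧸ K))) = ⊤ :=
    Ideal.span_pow_eq_top _ hFtop M
  have h1' : (1 : E ⧸ K) ∈
      Ideal.span ((fun x => x ^ M) '' ((F.image s : Finset (E ⧸ K)) : Set (E ⧸ K))) := by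
    rw [hpowtop]; trivial
  have hall : ∀ x ∈ Ideal.span ((fun x => x ^ M) '' ((F.image s : Finset (E ⧸ K)) : Set (E ⧸ K))),
      ∀ z : E ⧸ K, z * x ∈ N := by
    intro x hx
    induction hx using Submodule.span_induction with
    | mem x hx =>
      obtain ⟨_, hx', rfl⟩ := hx
      rw [Finset.mem_coe, Finset.mem_image] at hx'
      obtain ⟨r, hr, rfl⟩ := hx'
      exact hgen r hr
    | zero => intro z; rw [mul_zero]; exact N.zero_mem
    | add x y _ _ hx hy => intro z; rw [mul_add]; exact N.add_mem (hx z) (hy z)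
    | smul c x _ hx =>
      intro z
      rw [smul_eq_mul, ← mul_assoc]
      exact hx (z * c)
  have := hall 1 h1' 1
  rw [mul_one] at this
  obtain ⟨Δ, hΔ, hsΔ⟩ := this
  refine ⟨Δ, hΔ, ?_⟩
  have h2 : s Δ = s 1 := by rw [map_one]; exact hsΔ
  exact Ideal.Quotient.eq.mp h2

theorem exists_subalgebra [Algebra.FiniteType A E] {Δ : E} (hΔ : Δ ∈ good A E) :
    ∃ S' : Subalgebra A E, S'.toSubmodule.FG ∧ Δ ∈ S' ∧ ∀ y : E, ∃ N : ℕ, Δ ^ N * y ∈ S' := by
  classical
  obtain ⟨s, hs⟩ := Algebra.FiniteType.out (R := A) (A := E)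
  choose m hm using hΔ.2
  let t : Set E := insert Δ { Δ ^ m x * x | x ∈ s }
  refine ⟨Algebra.adjoin A t, fg_adjoin_of_finite ?_ ?_, Algebra.subset_adjoin (by simp [t]), ?_⟩
  · simp only [t, Set.finite_insert]
    exact s.finite_toSet.image (fun x ↦ Δ ^ m x * x)
  · rintro a (rfl | ⟨x, hx, rfl⟩)
    · exact hΔ.1
    · exact hm _
  have hΔt : Δ ∈ Algebra.adjoin A t := Algebra.subset_adjoin (by simp [t])
  intro y
  have hy : y ∈ Algebra.adjoin A (s : Set E) := by rw [hs]; trivial
  induction hy using Algebra.adjoin_induction with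
  | mem x hx =>
    exact ⟨m x, Algebra.subset_adjoin (Set.mem_insert_of_mem _ ⟨x, hx, rfl⟩)⟩
  | algebraMap a => exact ⟨0, by rw [pow_zero, one_mul]; exact Subalgebra.algebraMap_mem _ a⟩
  | add x y _ _ hx hy =>
    obtain ⟨N₁, h₁⟩ := hx
    obtain ⟨N₂, h₂⟩ := hy
    refine ⟨N₁ + N₂, ?_⟩
    have : Δ ^ (N₁ + N₂) * (x + y) = Δ ^ N₂ * (Δ ^ N₁ * x) + Δ ^ N₁ * (Δ ^ N₂ * y) := by
      rw [pow_add]; ring
    rw [this]
    exact Subalgebra.add_mem _ (Subalgebra.mul_mem _ (Subalgebra.pow_mem _ hΔt _) h₁)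
      (Subalgebra.mul_mem _ (Subalgebra.pow_mem _ hΔt _) h₂)
  | mul x y _ _ hx hy =>
    obtain ⟨N₁, h₁⟩ := hx
    obtain ⟨N₂, h₂⟩ := hy
    refine ⟨N₁ + N₂, ?_⟩
    have : Δ ^ (N₁ + N₂) * (x * y) = (Δ ^ N₁ * x) * (Δ ^ N₂ * y) := by
      rw [pow_add]; ring
    rw [this]
    exact Subalgebra.mul_mem _ h₁ h₂

end Good

section FinPart

variable {A : Type u} [CommRing A] {I : Ideal A} {E : Type u} [CommRing E] [Algebra A E]

theorem val_mem_map (S' : Subalgebra A E) {w : S'} (hw : w ∈ I.map (algebraMap A S')) :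
    (w : E) ∈ I.map (algebraMap A E) := by
  have h1 := Ideal.mem_map_of_mem S'.val.toRingHom hw
  rw [Ideal.map_map] at h1
  have h2 : S'.val.toRingHom.comp (algebraMap A S') = algebraMap A E := by
    ext a; rfl
  rw [h2] at h1
  exact h1

theorem exists_idempotent_finite (hG : Gabber A I) [Algebra.FiniteType A E]
    [Module.Finite A (E ⧸ I.map (algebraMap A E))] :
    ∃ e : E, IsIdempotentElem e ∧ 1 - e ∈ I.map (algebraMap A E) ∧
      Module.Finite A (E ⧸ Ideal.span {1 - e}) := by
  classical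
  haveI : Algebra.QuasiFinite A (E ⧸ I.map (algebraMap A E)) := inferInstance
  obtain ⟨Δ, hΔ, hΔK⟩ := exists_elem (A := A) (E := E) (I.map (algebraMap A E))
    (fun q _ hq => quasiFiniteAt_of_quotient I q hq)
  obtain ⟨S', hfg, hΔS', habs⟩ := exists_subalgebra hΔ
  haveI : Module.Finite A S' := ⟨(Submodule.fg_top _).mpr hfg⟩
  haveI : Algebra.IsIntegral A S' := inferInstance
  let Δ' : S' := ⟨Δ, hΔS'⟩
  -- elements of `IE` are multiplied into `IS'` by a power of `Δ`
  have hP : ∀ z ∈ I.map (algebraMap A E), ∃ N : ℕ, ∃ w ∈ I.map (algebraMap A S'),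
      (w : E) = Δ ^ N * z := by
    intro z hz
    induction hz using Submodule.span_induction with
    | mem z hz =>
      obtain ⟨a, ha, rfl⟩ := hz
      exact ⟨0, algebraMap A S' a, Ideal.mem_map_of_mem _ ha, by rw [pow_zero, one_mul]; rfl⟩
    | zero => exact ⟨0, 0, Ideal.zero_mem _, by simp⟩
    | add x y _ _ hx hy =>
      obtain ⟨N₁, w₁, hw₁, h₁⟩ := hx
      obtain ⟨N₂, w₂, hw₂, h₂⟩ := hy
      refine ⟨N₁ + N₂, Δ' ^ N₂ * w₁ + Δ' ^ N₁ * w₂,
        Ideal.add_mem _ (Ideal.mul_mem_left _ _ hw₁) (Ideal.mul_mem_left _ _ hw₂), ?_⟩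
      push_cast
      rw [h₁, h₂, pow_add]
      show Δ ^ N₂ * (Δ ^ N₁ * x) + Δ ^ N₁ * (Δ ^ N₂ * y) = _
      ring
    | smul c x _ hx =>
      obtain ⟨N, w, hw, h⟩ := hx
      obtain ⟨N', hc⟩ := habs c
      refine ⟨N' + N, ⟨_, hc⟩ * w, Ideal.mul_mem_left _ _ hw, ?_⟩
      push_cast
      rw [h, pow_add, smul_eq_mul]
      ring
  obtain ⟨N₀, w₀, hw₀, hw₀eq⟩ := hP (Δ - 1) hΔK
  set N := N₀ + 1 with hN
  have hrel : Δ' ^ N * (Δ' - 1) ∈ I.map (algebraMap A S') := by
    have : Δ' ^ N * (Δ' - 1) = Δ' * w₀ := by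
      apply Subtype.ext
      push_cast
      rw [hw₀eq, hN, pow_succ]
      show Δ ^ N₀ * Δ * (Δ - 1) = Δ * (Δ ^ N₀ * (Δ - 1))
      ring
    rw [this]
    exact Ideal.mul_mem_left _ _ hw₀
  -- the idempotent in the quotient
  let d : S' ⧸ I.map (algebraMap A S') := Ideal.Quotient.mk _ Δ'
  have hd : d ^ (N + 1) = d ^ N := by
    have h1 : d ^ N * (d - 1) = 0 := by
      have := Ideal.Quotient.eq_zero_iff_mem.mpr hrel
      rwa [map_mul, map_pow, map_sub, map_one] at this
    rw [pow_succ]
    linear_combination h1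
  have hdk : ∀ k : ℕ, d ^ (N + k) = d ^ N := by
    intro k
    induction k with
    | zero => rfl
    | succ k ih => rw [← add_assoc, pow_succ, ih, ← pow_succ, hd]
  have hidem : IsIdempotentElem (d ^ N) := by
    show d ^ N * d ^ N = d ^ N
    rw [← pow_add, hdk]
  obtain ⟨e', he', hee'⟩ := hG.exists_idempotent_lift (B := S') (d ^ N) hidem
  have hdiff : Δ' ^ N - e' ∈ I.map (algebraMap A S') := by
    rw [← Ideal.Quotient.eq, map_pow, hee']
  refine ⟨(e' : E), ?_, ?_, ?_⟩
  · show (e' : E) * (e' : E) = (e' : E)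
    have := congrArg (fun x : S' => (x : E)) he'
    exact this
  · have h1 : Δ ^ N - 1 ∈ I.map (algebraMap A E) := by
      rw [← Ideal.Quotient.eq_zero_iff_mem, map_sub, map_pow, map_one]
      have : Ideal.Quotient.mk (I.map (algebraMap A E)) Δ = 1 := by
        rw [← map_one (Ideal.Quotient.mk (I.map (algebraMap A E)))]
        exact Ideal.Quotient.eq.mpr hΔK
      rw [this, one_pow, sub_self]
    have h2 := val_mem_map S' hdiff
    have h3 : (1 : E) - (e' : E) = ((Δ' ^ N - e' : S') : E) - (Δ ^ N - 1) := by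
      push_cast
      show (1 : E) - (e' : E) = Δ ^ N - (e' : E) - (Δ ^ N - 1)
      ring
    rw [h3]
    exact Ideal.sub_mem _ h2 h1
  · -- finiteness
    have hjac : I.map (algebraMap A S') ≤ Ideal.jacobson ⊥ := map_le_jacobson_of_isIntegral hG.1
    have hu : IsUnit (Δ' ^ N + (1 - e')) := by
      have h1 := Ideal.mem_jacobson_bot.mp (hjac hdiff) 1
      have h2 : (Δ' ^ N - e') * 1 + 1 = Δ' ^ N + (1 - e') := by ring
      rwa [h2] at h1
    obtain ⟨u, hu'⟩ := hu
    have hue : (Δ' ^ N + (1 - e')) * e' = Δ' ^ N * e' := by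
      have : e' * e' = e' := he'
      linear_combination (-1 : S') * this
    -- `c = t Δ'` acts as the identity on `e'`
    let c : S' := (↑u⁻¹ : S') * Δ' ^ N
    have hce : c * e' = e' := by
      show (↑u⁻¹ : S') * Δ' ^ N * e' = e'
      rw [mul_assoc, ← hue, ← hu', ← mul_assoc, Units.inv_mul, one_mul]
    let tt : S' := (↑u⁻¹ : S') * Δ' ^ N₀
    have hc : c = tt * Δ' := by
      show (↑u⁻¹ : S') * Δ' ^ N = (↑u⁻¹ : S') * Δ' ^ N₀ * Δ'
      rw [hN, pow_succ, mul_assoc]
    have hcM : ∀ M : ℕ, c ^ M * e' = e' := by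
      intro M
      induction M with
      | zero => rw [pow_zero, one_mul]
      | succ M ih => rw [pow_succ, mul_assoc, hce, ih]
    let φ : S' →ₗ[A] E ⧸ Ideal.span {(1 : E) - (e' : E)} :=
      (Ideal.Quotient.mkₐ A (Ideal.span {(1 : E) - (e' : E)})).toLinearMap.comp S'.val.toLinearMap
    have hφ : Function.Surjective φ := by
      intro ybar
      obtain ⟨y, rfl⟩ := Ideal.Quotient.mk_surjective ybar
      obtain ⟨M, hM⟩ := habs y
      refine ⟨tt ^ M * ⟨_, hM⟩, ?_⟩
      show Ideal.Quotient.mk _ ((tt ^ M * ⟨_, hM⟩ : S') : E) = Ideal.Quotient.mk _ y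
      rw [Ideal.Quotient.eq, Ideal.mem_span_singleton]
      have h1 : ((c ^ M * e' : S') : E) = (e' : E) := congrArg (fun x : S' => (x : E)) (hcM M)
      refine ⟨(tt : E) ^ M * (Δ ^ M * y) - y, ?_⟩
      push_cast
      push_cast at h1
      rw [hc] at h1
      push_cast at h1
      show (tt : E) ^ M * (Δ ^ M * y) - y = (1 - (e' : E)) * ((tt : E) ^ M * (Δ ^ M * y) - y)
      have h2 : ((tt : E) * Δ) ^ M * (e' : E) = (e' : E) := h1
      have h3 : (e' : E) * (e' : E) = (e' : E) := congrArg (fun x : S' => (x : E)) he'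
      have h4 : (e' : E) * ((tt : E) ^ M * (Δ ^ M * y) - y) = 0 := by
        have : (e' : E) * ((tt : E) ^ M * (Δ ^ M * y) - y) =
            (((tt : E) * Δ) ^ M * (e' : E)) * y - (e' : E) * y := by
          rw [mul_pow]; ring
        rw [this, h2, sub_self]
      linear_combination h4
    exact Module.Finite.of_surjective φ hφ

end FinPart

section Main

theorem finite_away_of_idempotent {A : Type u} [CommRing A] {R : Type u} [CommRing R] [Algebra A R]
    (e : R) (he : IsIdempotentElem e) [Module.Finite A (R ⧸ Ideal.span {1 - e})] :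
    Module.Finite A (Localization.Away e) := by
  have hone : algebraMap R (Localization.Away e) e = 1 := by
    have hu : IsUnit (algebraMap R (Localization.Away e) e) :=
      IsLocalization.Away.algebraMap_isUnit e
    have h1 : algebraMap R (Localization.Away e) e * algebraMap R (Localization.Away e) e =
        algebraMap R (Localization.Away e) e := by rw [← map_mul, he.eq]
    have := hu.mul_left_cancel (b := algebraMap R (Localization.Away e) e) (c := 1)
      (by rw [h1, mul_one])
    exact this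
  have hsurj : Function.Surjective (algebraMap R (Localization.Away e)) := by
    intro z
    obtain ⟨x, ⟨_, n, rfl⟩, rfl⟩ := IsLocalization.exists_mk'_eq (Submonoid.powers e) z
    refine ⟨x, ?_⟩
    rw [IsLocalization.eq_mk'_iff_mul_eq, map_pow, hone, one_pow, mul_one]
  let ψ : R ⧸ Ideal.span {1 - e} →ₐ[A] Localization.Away e :=
    Ideal.Quotient.liftₐ _ (IsScalarTower.toAlgHom A R (Localization.Away e)) (by
      intro a ha
      rw [Ideal.mem_span_singleton] at ha
      obtain ⟨c, rfl⟩ := ha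
      show algebraMap R (Localization.Away e) ((1 - e) * c) = 0
      rw [map_mul, map_sub, map_one, hone, sub_self, zero_mul])
  have hψ : Function.Surjective ψ := by
    intro z
    obtain ⟨x, rfl⟩ := hsurj z
    exact ⟨Ideal.Quotient.mk _ x, rfl⟩
  exact Module.Finite.of_surjective ψ.toLinearMap hψ

theorem S17596_main (A : Type u) [CommRing A] (I : Ideal A)
    [HenselianRing A I] (R : Type u) [CommRing R] [Algebra A R] [Algebra.FinitePresentation A R]
    (B : Type u) [CommRing B] [Algebra R B] [Algebra A B] [IsScalarTower A R B]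
    (hB : Hens2.IsPairHenselization R (I.map (algebraMap A R)) B)
    (hfin : (Ideal.quotientMap (I.map (algebraMap A B)) (algebraMap A B) Ideal.le_comap_map).Finite) :
    Module.Finite A B ∧ Algebra.FinitePresentation A B := by
  have hGab : Gabber A I := Gabber.of_henselianRing inferInstance
  have hIB : (I.map (algebraMap A R)).map (algebraMap R B) = I.map (algebraMap A B) := by
    rw [Ideal.map_map, ← IsScalarTower.algebraMap_eq]
  -- `B/IB` is a finite `A`-module
  have h1 : Module.Finite A (B ⧸ I.map (algebraMap A B)) := by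
    apply RingHom.finite_algebraMap.mp
    have : algebraMap A (B ⧸ I.map (algebraMap A B)) =
        (Ideal.quotientMap (I.map (algebraMap A B)) (algebraMap A B) Ideal.le_comap_map).comp
          (Ideal.Quotient.mk I) := by
      ext a; rfl
    rw [this]
    exact RingHom.Finite.comp hfin (RingHom.Finite.of_surjective _ Ideal.Quotient.mk_surjective)
  -- hence so is `R/IR`
  have hbij := quotient_bijective_of_isPairHenselization hB
  let ψ : (R ⧸ I.map (algebraMap A R)) →ₐ[A] B ⧸ (I.map (algebraMap A R)).map (algebraMap R B) :=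
    Ideal.quotientMapₐ _ (IsScalarTower.toAlgHom A R B) Ideal.le_comap_map
  have hψ : Function.Bijective ψ := hbij
  let e₁ := AlgEquiv.ofBijective ψ hψ
  let e₂ : (B ⧸ (I.map (algebraMap A R)).map (algebraMap R B)) ≃ₐ[A] B ⧸ I.map (algebraMap A B) :=
    Ideal.quotientEquivAlgOfEq A hIB
  haveI : Module.Finite A (R ⧸ I.map (algebraMap A R)) :=
    Module.Finite.equiv (e₁.trans e₂).symm.toLinearEquiv
  obtain ⟨e, he, h1e, hfinE⟩ := exists_idempotent_finite (E := R) hGab
  haveI := hfinE
  haveI hfinL : Module.Finite A (Localization.Away e) := finite_away_of_idempotent e he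
  obtain ⟨alg, hT, hR'⟩ := exists_away_isPairHenselization hB e h1e
  letI := alg
  have hAT : IsScalarTower A (Localization.Away e) B := by
    refine IsScalarTower.of_algebraMap_eq (fun a => ?_)
    rw [IsScalarTower.algebraMap_apply A R (Localization.Away e),
      ← IsScalarTower.algebraMap_apply R (Localization.Away e) B,
      ← IsScalarTower.algebraMap_apply A R B]
  have hI' : (I.map (algebraMap A R)).map (algebraMap R (Localization.Away e)) =
      I.map (algebraMap A (Localization.Away e)) := by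
    rw [Ideal.map_map, ← IsScalarTower.algebraMap_eq]
  rw [hI'] at hR'
  haveI : Algebra.IsIntegral A (Localization.Away e) := inferInstance
  have hHens : HenselianRing (Localization.Away e) (I.map (algebraMap A (Localization.Away e))) :=
    (hGab.of_isIntegral).henselianRing
  have hself : Hens2.IsPairHenselization (Localization.Away e)
      (I.map (algebraMap A (Localization.Away e))) (Localization.Away e) := by
    refine ⟨?_, fun C _ J f hC hf => ⟨f, RingHom.comp_id f, fun g hg => ?_⟩⟩
    · rw [Algebra.algebraMap_self, Ideal.map_id]; exact hHens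
    · rw [← hg]; rfl
  obtain ⟨ε⟩ := nonempty_algEquiv_of_isPairHenselization hself hR'
  let ε' : Localization.Away e ≃ₐ[A] B := ε.restrictScalars A
  haveI : Algebra.FinitePresentation A (Localization.Away e) :=
    Algebra.FinitePresentation.trans A R (Localization.Away e)
  exact ⟨Module.Finite.equiv ε'.toLinearEquiv, Algebra.FinitePresentation.equiv ε'⟩

end Main

end Groth.Agent.Helper7.HfpFinite
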