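import Mathlib
import Groth.Agent.Lib.Helper7.Hens.HfpFinite
import Groth.Agent.Lib.Helper7.CAlg.EtaleLift
import Groth.Agent.Lib.Helper7.CAlg.AwayNbhd

set_option autoImplicit false
set_option linter.style.haveILetI false
set_option linter.unusedVariables false
set_option linter.unusedSectionVars false

open TensorProduct

/-! helper7: finite etale algebras lift along a henselian pair (via etale lift plus finite part). -/

namespace Groth.Agent.Helper7.FinEtaleLift

open Groth.Agent.Helper7.Hensel Groth.Agent.Helper7.Hens Groth.Agent.Helper7.HfpFinite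

universe u

theorem S0532_main (A : Type u) [CommRing A] (I : Ideal A) [HenselianRing A I]
    (C : Type u) [CommRing C] [Algebra (A ⧸ I) C] [Module.Finite (A ⧸ I) C] [Algebra.Etale (A ⧸ I) C] :
    ∃ (B : Type u) (_ : CommRing B) (_ : Algebra A B), Module.Finite A B ∧ Algebra.Etale A B ∧
      Nonempty (TensorProduct A (A ⧸ I) B ≃ₐ[A ⧸ I] C) := by
  have hGab : Gabber A I := Gabber.of_henselianRing inferInstance
  obtain ⟨E, _, _, hEet, ⟨θ⟩⟩ := Groth.Agent.Helper7.EtaleLift.exists_etale_lift A I C
  haveI := hEet
  letI : Algebra A C := ((algebraMap (A ⧸ I) C).comp (Ideal.Quotient.mk I)).toAlgebra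
  haveI : IsScalarTower A (A ⧸ I) C := IsScalarTower.of_algebraMap_eq (fun _ => rfl)
  haveI : Module.Finite A C := Module.Finite.trans (A ⧸ I) C
  let θ₁ : (E ⧸ I.map (algebraMap A E)) ≃ₐ[A ⧸ I] (A ⧸ I) ⊗[A] E :=
    Algebra.TensorProduct.quotIdealMapEquivQuotTensor (A := A) E I
  let θ₂ : (E ⧸ I.map (algebraMap A E)) ≃ₐ[A] C := (θ₁.trans θ).restrictScalars A
  haveI : Module.Finite A (E ⧸ I.map (algebraMap A E)) :=
    Module.Finite.equiv θ₂.symm.toLinearEquiv
  obtain ⟨e, he, h1e, hfin⟩ := exists_idempotent_finite (E := E) hGab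
  haveI := hfin
  haveI : Module.Finite A (Localization.Away e) := finite_away_of_idempotent e he
  haveI : Algebra.Etale E (Localization.Away e) := Algebra.Etale.of_isLocalizationAway e
  haveI : Algebra.Etale A (Localization.Away e) := Algebra.Etale.comp A E _
  refine ⟨Localization.Away e, inferInstance, inferInstance, inferInstance, inferInstance, ?_⟩
  -- the comparison of reductions
  have hbij := Groth.Agent.Helper7.AwayNbhd.bijective_quotientMap_away (I.map (algebraMap A E)) e
    h1e (Localization.Away e)
  have hIL : (I.map (algebraMap A E)).map (algebraMap E (Localization.Away e)) =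
      I.map (algebraMap A (Localization.Away e)) := by
    rw [Ideal.map_map, ← IsScalarTower.algebraMap_eq]
  let ψ : (E ⧸ I.map (algebraMap A E)) →ₐ[A]
      (Localization.Away e ⧸ (I.map (algebraMap A E)).map (algebraMap E (Localization.Away e))) :=
    Ideal.quotientMapₐ _ (IsScalarTower.toAlgHom A E (Localization.Away e)) Ideal.le_comap_map
  have hψ : Function.Bijective ψ := hbij
  let ε₁ := AlgEquiv.ofBijective ψ hψ
  let ε₂ : (Localization.Away e ⧸ (I.map (algebraMap A E)).map
      (algebraMap E (Localization.Away e))) ≃ₐ[A]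
      (Localization.Away e ⧸ I.map (algebraMap A (Localization.Away e))) :=
    Ideal.quotientEquivAlgOfEq A hIL
  let ε₃ : (Localization.Away e ⧸ I.map (algebraMap A (Localization.Away e))) ≃ₐ[A]
      (A ⧸ I) ⊗[A] Localization.Away e :=
    (Algebra.TensorProduct.quotIdealMapEquivQuotTensor (A := A) (Localization.Away e) I).restrictScalars A
  let ε : ((A ⧸ I) ⊗[A] Localization.Away e) ≃ₐ[A] C :=
    ((ε₃.symm.trans ε₂.symm).trans ε₁.symm).trans θ₂
  exact ⟨AlgEquiv.extendScalarsOfSurjective Ideal.Quotient.mk_surjective ε⟩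

end Groth.Agent.Helper7.FinEtaleLift
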