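import Mathlib
import Groth.Prelude.Def_Hensel
import Groth.Agent.Lib.Helper7.Hens.Abstract
import Groth.Agent.Lib.Helper7.Hensel.EtaleLift
import Groth.Agent.Lib.Helper7.Hensel.Local


/-! helper7: residue field triviality and uniqueness/existence of maps from etale algebras into the henselization of a localization at a prime -/

set_option linter.style.haveILetI false
set_option linter.unusedVariables false
set_option linter.unusedSectionVars false

open TensorProduct Polynomial

namespace Groth.Agent.Helper7.HensAtPrime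

universe u

section Basic

variable {R : Type u} [CommRing R] (p : Ideal R) [p.IsPrime]
  (Rh : Type u) [CommRing Rh] [IsLocalRing Rh]
  [Algebra (Localization.AtPrime p) Rh] [IsLocalHom (algebraMap (Localization.AtPrime p) Rh)]
  [Hensel.IsHenselization (Localization.AtPrime p) Rh] [Algebra R Rh]
  [IsScalarTower R (Localization.AtPrime p) Rh]

theorem comap_maximalIdeal :
    (IsLocalRing.maximalIdeal Rh).comap (algebraMap R Rh) = p := by
  rw [IsScalarTower.algebraMap_eq R (Localization.AtPrime p) Rh, ← Ideal.comap_comap,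
    IsLocalRing.maximalIdeal_comap]
  exact Localization.AtPrime.under_maximalIdeal (I := p)

theorem algebraMap_mem_maximalIdeal_iff (r : R) :
    algebraMap R Rh r ∈ IsLocalRing.maximalIdeal Rh ↔ r ∈ p := by
  rw [← Ideal.mem_comap, comap_maximalIdeal p Rh]

theorem isUnit_algebraMap {t : R} (ht : t ∉ p) : IsUnit (algebraMap R Rh t) := by
  by_contra h
  exact ht ((algebraMap_mem_maximalIdeal_iff p Rh t).mp h)

/-- Every element of the henselization is congruent to an element of the local ring. -/
theorem exists_sub_mem (x : Rh) :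
    ∃ a : Localization.AtPrime p, x - algebraMap _ Rh a ∈ IsLocalRing.maximalIdeal Rh := by
  have hB := Hens.isPairHenselization_of_isHenselization (Localization.AtPrime p) Rh
  have hbij := Hens.quotient_bijective_of_isPairHenselization hB
  obtain ⟨a, ha⟩ := hbij.2 (Ideal.Quotient.mk _ x)
  obtain ⟨a, rfl⟩ := Ideal.Quotient.mk_surjective a
  refine ⟨a, ?_⟩
  rw [Ideal.quotientMap_mk] at ha
  have := (Ideal.Quotient.eq.mp ha.symm)
  rwa [Hens.map_maximalIdeal_of_isHenselization] at this

theorem exists_mul_sub_mem (x : Rh) :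
    ∃ (a t : R), t ∉ p ∧
      x * algebraMap R Rh t - algebraMap R Rh a ∈ IsLocalRing.maximalIdeal Rh := by
  obtain ⟨b, hb⟩ := exists_sub_mem p Rh x
  obtain ⟨a, ⟨t, ht⟩, rfl⟩ := IsLocalization.exists_mk'_eq p.primeCompl b
  refine ⟨a, t, ht, ?_⟩
  have h1 : algebraMap (Localization.AtPrime p) Rh (IsLocalization.mk' _ a ⟨t, ht⟩)
      * algebraMap R Rh t = algebraMap R Rh a := by
    rw [IsScalarTower.algebraMap_apply R (Localization.AtPrime p) Rh,
      IsScalarTower.algebraMap_apply R (Localization.AtPrime p) Rh, ← map_mul]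
    congr 1
    exact IsLocalization.mk'_spec _ a ⟨t, ht⟩
  have h2 : x * algebraMap R Rh t - algebraMap R Rh a
      = (x - algebraMap (Localization.AtPrime p) Rh (IsLocalization.mk' _ a ⟨t, ht⟩))
        * algebraMap R Rh t := by
    rw [sub_mul, h1]
  rw [h2]
  exact Ideal.mul_mem_right _ _ hb

end Basic

section ResidueTrivial

variable {R : Type u} [CommRing R] (p : Ideal R) [p.IsPrime]
  (Rh : Type u) [CommRing Rh] [IsLocalRing Rh]
  [Algebra (Localization.AtPrime p) Rh] [IsLocalHom (algebraMap (Localization.AtPrime p) Rh)]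
  [Hensel.IsHenselization (Localization.AtPrime p) Rh] [Algebra R Rh]
  [IsScalarTower R (Localization.AtPrime p) Rh]
  {S : Type u} [CommRing S] [Algebra R S]

theorem comap_comap_eq (f : S →ₐ[R] Rh) :
    p = ((IsLocalRing.maximalIdeal Rh).comap f.toRingHom).comap (algebraMap R S) := by
  rw [Ideal.comap_comap]
  have : f.toRingHom.comp (algebraMap R S) = algebraMap R Rh := f.comp_algebraMap
  rw [this, comap_maximalIdeal p Rh]

/-- The residue field extension at the pullback of the maximal ideal along any algebra map into the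
henselization is trivial. -/
theorem residueField_bijective (f : S →ₐ[R] Rh) (q : Ideal S) [q.IsPrime]
    (hqf : (IsLocalRing.maximalIdeal Rh).comap f.toRingHom = q)
    (hq : p = q.comap (algebraMap R S)) :
    Function.Bijective (Ideal.ResidueField.map p q (algebraMap R S) hq) := by
  refine ⟨RingHom.injective _, ?_⟩
  intro y
  obtain ⟨x, s, hs, rfl⟩ := IsFractionRing.div_surjective (A := S ⧸ q) y
  obtain ⟨x, rfl⟩ := Ideal.Quotient.mk_surjective x
  obtain ⟨s, rfl⟩ := Ideal.Quotient.mk_surjective s
  have hsq : s ∉ q := by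
    intro h
    have : Ideal.Quotient.mk q s = 0 := Ideal.Quotient.eq_zero_iff_mem.mpr h
    rw [this] at hs
    exact zero_notMem_nonZeroDivisors hs
  have hfs : IsUnit (f s) := by
    by_contra h
    apply hsq
    rw [← hqf]
    exact h
  obtain ⟨u, hu⟩ := hfs
  obtain ⟨a, t, ht, hat⟩ := exists_mul_sub_mem p Rh (f x * ↑u⁻¹)
  have hmem : x * algebraMap R S t - algebraMap R S a * s ∈ q := by
    rw [← hqf, Ideal.mem_comap]
    have h1 : f.toRingHom (x * algebraMap R S t - algebraMap R S a * s)
        = (f x * ↑u⁻¹ * algebraMap R Rh t - algebraMap R Rh a) * f s := by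
      have hc1 : f (algebraMap R S t) = algebraMap R Rh t := f.commutes t
      have hc2 : f (algebraMap R S a) = algebraMap R Rh a := f.commutes a
      have hu' : (↑u⁻¹ : Rh) * f s = 1 := by rw [← hu]; exact Units.inv_mul u
      show f (x * algebraMap R S t - algebraMap R S a * s) = _
      rw [map_sub, map_mul, map_mul, hc1, hc2]
      linear_combination (-(f x * algebraMap R Rh t)) * hu'
    rw [h1]
    exact Ideal.mul_mem_right _ _ hat
  have hmem' : algebraMap S q.ResidueField (x * algebraMap R S t - algebraMap R S a * s) = 0 :=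
    Ideal.algebraMap_residueField_eq_zero.mpr hmem
  have ht0 : algebraMap R p.ResidueField t ≠ 0 := by
    intro h
    exact ht (Ideal.algebraMap_residueField_eq_zero.mp h)
  have hs0 : algebraMap S q.ResidueField s ≠ 0 := by
    intro h
    exact hsq (Ideal.algebraMap_residueField_eq_zero.mp h)
  have ht0' : algebraMap S q.ResidueField (algebraMap R S t) ≠ 0 := by
    intro h
    have := Ideal.algebraMap_residueField_eq_zero.mp h
    apply ht
    rw [hq]
    exact this
  refine ⟨algebraMap R p.ResidueField a / algebraMap R p.ResidueField t, ?_⟩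
  rw [map_div₀, Ideal.ResidueField.map_algebraMap, Ideal.ResidueField.map_algebraMap,
    Ideal.algebraMap_quotient_residueField_mk, Ideal.algebraMap_quotient_residueField_mk,
    div_eq_div_iff ht0' hs0]
  rw [map_sub, map_mul, map_mul, sub_eq_zero] at hmem'
  rw [hmem']

end ResidueTrivial

section PartA

variable {R : Type u} [CommRing R] (p : Ideal R) [p.IsPrime]
  (Rh : Type u) [CommRing Rh] [IsLocalRing Rh]
  [Algebra (Localization.AtPrime p) Rh] [IsLocalHom (algebraMap (Localization.AtPrime p) Rh)]
  [Hensel.IsHenselization (Localization.AtPrime p) Rh] [Algebra R Rh]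
  [IsScalarTower R (Localization.AtPrime p) Rh]
  {S : Type u} [CommRing S] [Algebra R S]

/-- From surjectivity of the residue field map: every element of `S` is a fraction modulo `q`. -/
theorem exists_mul_sub_mem_of_surjective (q : Ideal S) [q.IsPrime]
    (hq : p = q.comap (algebraMap R S))
    (hsurj : Function.Surjective (Ideal.ResidueField.map p q (algebraMap R S) hq)) (x : S) :
    ∃ (a t : R), t ∉ p ∧ x * algebraMap R S t - algebraMap R S a ∈ q := by
  obtain ⟨y, hy⟩ := hsurj (algebraMap S q.ResidueField x)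
  obtain ⟨a, t, ht, rfl⟩ := IsFractionRing.div_surjective (A := R ⧸ p) y
  obtain ⟨a, rfl⟩ := Ideal.Quotient.mk_surjective a
  obtain ⟨t, rfl⟩ := Ideal.Quotient.mk_surjective t
  have htp : t ∉ p := by
    intro h
    have : Ideal.Quotient.mk p t = 0 := Ideal.Quotient.eq_zero_iff_mem.mpr h
    rw [this] at ht
    exact zero_notMem_nonZeroDivisors ht
  refine ⟨a, t, htp, ?_⟩
  have ht0' : algebraMap S q.ResidueField (algebraMap R S t) ≠ 0 := by
    intro h
    have := Ideal.algebraMap_residueField_eq_zero.mp h
    apply htp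
    rw [hq]
    exact this
  rw [map_div₀, Ideal.algebraMap_quotient_residueField_mk,
    Ideal.algebraMap_quotient_residueField_mk, Ideal.ResidueField.map_algebraMap,
    Ideal.ResidueField.map_algebraMap, div_eq_iff ht0'] at hy
  apply Ideal.algebraMap_residueField_eq_zero.mp
  rw [map_sub, map_mul, hy, sub_self]

theorem algHom_unique [Algebra.Etale R S] (q : Ideal S) [q.IsPrime]
    (hq : p = q.comap (algebraMap R S))
    (hsurj : Function.Surjective (Ideal.ResidueField.map p q (algebraMap R S) hq))
    (f₁ f₂ : S →ₐ[R] Rh)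
    (h₁ : (IsLocalRing.maximalIdeal Rh).comap f₁.toRingHom = q)
    (h₂ : (IsLocalRing.maximalIdeal Rh).comap f₂.toRingHom = q) : f₁ = f₂ := by
  apply Hensel.algHom_eq_of_formallyUnramified (IsLocalRing.maximalIdeal Rh)
    (IsLocalRing.jacobson_eq_maximalIdeal ⊥ bot_ne_top).ge
  intro x
  obtain ⟨a, t, ht, hx⟩ := exists_mul_sub_mem_of_surjective p q hq hsurj x
  have e1 : f₁ (x * algebraMap R S t - algebraMap R S a) ∈ IsLocalRing.maximalIdeal Rh := by
    have : x * algebraMap R S t - algebraMap R S a ∈
        (IsLocalRing.maximalIdeal Rh).comap f₁.toRingHom := h₁ ▸ hx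
    exact this
  have e2 : f₂ (x * algebraMap R S t - algebraMap R S a) ∈ IsLocalRing.maximalIdeal Rh := by
    have : x * algebraMap R S t - algebraMap R S a ∈
        (IsLocalRing.maximalIdeal Rh).comap f₂.toRingHom := h₂ ▸ hx
    exact this
  rw [map_sub, map_mul, AlgHom.commutes, AlgHom.commutes] at e1 e2
  have e3 : (f₁ x - f₂ x) * algebraMap R Rh t ∈ IsLocalRing.maximalIdeal Rh := by
    have := Ideal.sub_mem _ e1 e2
    have h : (f₁ x - f₂ x) * algebraMap R Rh t
        = f₁ x * algebraMap R Rh t - algebraMap R Rh a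
          - (f₂ x * algebraMap R Rh t - algebraMap R Rh a) := by ring
    rw [h]
    exact this
  rcases (IsLocalRing.maximalIdeal.isMaximal Rh).isPrime.mem_or_mem e3 with h | h
  · exact h
  · exact absurd ((algebraMap_mem_maximalIdeal_iff p Rh t).mp h) ht

end PartA

section PartAExist

variable {R : Type u} [CommRing R] (p : Ideal R) [p.IsPrime]
  (Rh : Type u) [CommRing Rh] [IsLocalRing Rh]
  [Algebra (Localization.AtPrime p) Rh] [IsLocalHom (algebraMap (Localization.AtPrime p) Rh)]
  [Hensel.IsHenselization (Localization.AtPrime p) Rh] [Algebra R Rh]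
  [IsScalarTower R (Localization.AtPrime p) Rh]
  {S : Type u} [CommRing S] [Algebra R S]

theorem exists_algHom [Algebra.Etale R S] (q : Ideal S) [q.IsPrime]
    (hq : p = q.comap (algebraMap R S))
    (hbij : Function.Bijective (Ideal.ResidueField.map p q (algebraMap R S) hq)) :
    ∃ f : S →ₐ[R] Rh, (IsLocalRing.maximalIdeal Rh).comap f.toRingHom = q := by
  haveI : HenselianLocalRing Rh :=
    Hensel.IsHenselization.henselian (R := Localization.AtPrime p) (S := Rh)
  let e : p.ResidueField ≃+* q.ResidueField := RingEquiv.ofBijective _ hbij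
  let ρ : p.ResidueField →+* (Rh ⧸ IsLocalRing.maximalIdeal Rh) :=
    IsLocalRing.ResidueField.map (algebraMap (Localization.AtPrime p) Rh)
  let σ₀ : S →+* (Rh ⧸ IsLocalRing.maximalIdeal Rh) :=
    ρ.comp (e.symm.toRingHom.comp (algebraMap S q.ResidueField))
  have hσ₀ : ∀ r : R, σ₀ (algebraMap R S r)
      = algebraMap R (Rh ⧸ IsLocalRing.maximalIdeal Rh) r := by
    intro r
    have h1 : e.symm (algebraMap S q.ResidueField (algebraMap R S r))
        = algebraMap R p.ResidueField r := by
      rw [RingEquiv.symm_apply_eq]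
      exact (Ideal.ResidueField.map_algebraMap p q (algebraMap R S) hq r).symm
    show ρ (e.symm (algebraMap S q.ResidueField (algebraMap R S r))) = _
    rw [h1, IsScalarTower.algebraMap_apply R (Localization.AtPrime p) p.ResidueField]
    show IsLocalRing.ResidueField.map (algebraMap (Localization.AtPrime p) Rh)
      (IsLocalRing.residue _ (algebraMap R (Localization.AtPrime p) r)) = _
    rw [IsLocalRing.ResidueField.map_residue, ← IsScalarTower.algebraMap_apply]
    rfl
  let σ : S →ₐ[R] (Rh ⧸ IsLocalRing.maximalIdeal Rh) := { σ₀ with commutes' := hσ₀ }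
  let s : Rh ⊗[R] S →ₐ[Rh] (Rh ⧸ IsLocalRing.maximalIdeal Rh) :=
    Algebra.TensorProduct.lift (Algebra.ofId Rh _) σ (fun _ _ => Commute.all _ _)
  obtain ⟨τ, hτ⟩ := Hensel.Gabber.exists_lift_of_etale
    (Hensel.Gabber.of_henselianLocalRing Rh) (Rh ⊗[R] S) s
  refine ⟨(τ.restrictScalars R).comp Algebra.TensorProduct.includeRight, ?_⟩
  have hres : ∀ x : S, Ideal.Quotient.mk (IsLocalRing.maximalIdeal Rh) (τ (1 ⊗ₜ[R] x))
      = σ₀ x := by
    intro x
    have := AlgHom.congr_fun hτ (1 ⊗ₜ[R] x)
    rw [AlgHom.comp_apply, Ideal.Quotient.mkₐ_eq_mk] at this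
    rw [this]
    show Algebra.TensorProduct.lift (Algebra.ofId Rh _) σ _ (1 ⊗ₜ[R] x) = _
    rw [Algebra.TensorProduct.lift_tmul, map_one, one_mul]
    rfl
  ext x
  rw [Ideal.mem_comap]
  show τ (1 ⊗ₜ[R] x) ∈ IsLocalRing.maximalIdeal Rh ↔ x ∈ q
  rw [← Ideal.Quotient.eq_zero_iff_mem, hres]
  show ρ (e.symm (algebraMap S q.ResidueField x)) = 0 ↔ _
  rw [map_eq_zero_iff ρ (RingHom.injective ρ), map_eq_zero_iff e.symm e.symm.injective,
    Ideal.algebraMap_residueField_eq_zero]

theorem existsUnique_algHom [Algebra.Etale R S] (q : Ideal S) [q.IsPrime]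
    (hq : p = q.comap (algebraMap R S))
    (hbij : Function.Bijective (Ideal.ResidueField.map p q (algebraMap R S) hq)) :
    ∃! f : S →ₐ[R] Rh, (IsLocalRing.maximalIdeal Rh).comap f.toRingHom = q := by
  obtain ⟨f, hf⟩ := exists_algHom p Rh q hq hbij
  exact ⟨f, hf, fun g hg => algHom_unique p Rh q hq hbij.2 g f hg hf⟩

end PartAExist

end Groth.Agent.Helper7.HensAtPrime
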