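import Mathlib
import Groth.Prelude.Def_Hensel


/-! helper7: the subring of the henselization consisting of elements coming from etale algebras is henselian local -/

set_option linter.style.haveILetI false
set_option linter.unusedVariables false
set_option linter.unusedSectionVars false

open TensorProduct Polynomial

namespace Groth.Agent.Helper7.HensAtPrime

universe u

section InIm

variable (R : Type u) [CommRing R] (Rh : Type u) [CommRing Rh] [Algebra R Rh]

/-- `x` lies in the image of some étale `R`-algebra. -/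
def InIm (x : Rh) : Prop :=
  ∃ (S : Type u) (_ : CommRing S) (_ : Algebra R S) (_ : Algebra.Etale R S) (f : S →ₐ[R] Rh)
    (s : S), f s = x

variable {R Rh}

theorem InIm.exists_common {n : ℕ} (x : Fin n → Rh) (hx : ∀ i, InIm R Rh (x i)) :
    ∃ (S : Type u) (_ : CommRing S) (_ : Algebra R S) (_ : Algebra.Etale R S) (f : S →ₐ[R] Rh),
      ∀ i, ∃ s : S, f s = x i := by
  induction n with
  | zero => exact ⟨R, inferInstance, inferInstance, inferInstance, Algebra.ofId R Rh,
      fun i => i.elim0⟩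
  | succ n ih =>
    obtain ⟨S₁, _, _, _, f₁, h₁⟩ := ih (fun i => x i.castSucc) (fun i => hx _)
    obtain ⟨S₂, _, _, _, f₂, s₂, h₂⟩ := hx (Fin.last n)
    haveI : Algebra.Etale R (S₁ ⊗[R] S₂) := Algebra.Etale.comp R S₁ _
    refine ⟨S₁ ⊗[R] S₂, inferInstance, inferInstance, inferInstance,
      Algebra.TensorProduct.productMap f₁ f₂, ?_⟩
    intro i
    refine Fin.lastCases ?_ (fun j => ?_) i
    · exact ⟨1 ⊗ₜ s₂, by simp [h₂]⟩
    · obtain ⟨s, hs⟩ := h₁ j
      exact ⟨s ⊗ₜ 1, by simp [hs]⟩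

theorem InIm.of_base (r : R) : InIm R Rh (algebraMap R Rh r) :=
  ⟨R, inferInstance, inferInstance, inferInstance, Algebra.ofId R Rh, r, rfl⟩

theorem InIm.exists_common₂ {x y : Rh} (hx : InIm R Rh x) (hy : InIm R Rh y) :
    ∃ (S : Type u) (_ : CommRing S) (_ : Algebra R S) (_ : Algebra.Etale R S) (f : S →ₐ[R] Rh)
      (s t : S), f s = x ∧ f t = y := by
  obtain ⟨S, i1, i2, i3, f, h⟩ := InIm.exists_common ![x, y] (by
    intro i; fin_cases i
    · exact hx
    · exact hy)
  obtain ⟨s, hs⟩ := h 0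
  obtain ⟨t, ht⟩ := h 1
  exact ⟨S, i1, i2, i3, f, s, t, hs, ht⟩

theorem InIm.add {x y : Rh} (hx : InIm R Rh x) (hy : InIm R Rh y) : InIm R Rh (x + y) := by
  obtain ⟨S, i1, i2, i3, f, s, t, rfl, rfl⟩ := InIm.exists_common₂ hx hy
  exact ⟨S, i1, i2, i3, f, s + t, map_add f s t⟩

theorem InIm.mul {x y : Rh} (hx : InIm R Rh x) (hy : InIm R Rh y) : InIm R Rh (x * y) := by
  obtain ⟨S, i1, i2, i3, f, s, t, rfl, rfl⟩ := InIm.exists_common₂ hx hy
  exact ⟨S, i1, i2, i3, f, s * t, map_mul f s t⟩

theorem InIm.neg {x : Rh} (hx : InIm R Rh x) : InIm R Rh (-x) := by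
  obtain ⟨S, i1, i2, i3, f, s, rfl⟩ := hx
  exact ⟨S, i1, i2, i3, f, -s, map_neg f s⟩

theorem InIm.of_tower {S : Type u} [CommRing S] [Algebra R S] [Algebra.Etale R S]
    (φ : S →ₐ[R] Rh) (S₁ : Type u) [CommRing S₁] [Algebra S S₁] [Algebra.Etale S S₁]
    (ψ : S₁ →+* Rh) (hψ : ψ.comp (algebraMap S S₁) = φ.toRingHom) (s₁ : S₁) :
    InIm R Rh (ψ s₁) := by
  letI : Algebra R S₁ := ((algebraMap S S₁).comp (algebraMap R S)).toAlgebra
  haveI : IsScalarTower R S S₁ := .of_algebraMap_eq' rfl
  haveI : Algebra.Etale R S₁ := Algebra.Etale.comp R S S₁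
  refine ⟨S₁, inferInstance, inferInstance, inferInstance, { ψ with commutes' := ?_ }, s₁, rfl⟩
  intro r
  show ψ (algebraMap S S₁ (algebraMap R S r)) = _
  have := congrArg (fun g : S →+* Rh => g (algebraMap R S r)) hψ
  simp only [RingHom.comp_apply] at this
  rw [this]
  exact φ.commutes r

theorem InIm.inv {x : Rh} (hx : InIm R Rh x) (u : Rhˣ) (hu : (u : Rh) = x) :
    InIm R Rh (↑u⁻¹ : Rh) := by
  obtain ⟨S, i1, i2, i3, f, s, rfl⟩ := hx
  have hunit : IsUnit (f.toRingHom s) := ⟨u, hu⟩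
  let ψ : Localization.Away s →+* Rh := IsLocalization.Away.lift s hunit
  have hψ : ψ.comp (algebraMap S (Localization.Away s)) = f.toRingHom :=
    IsLocalization.Away.lift_comp s hunit
  haveI : Algebra.Etale S (Localization.Away s) := Algebra.Etale.of_isLocalizationAway s
  have h := InIm.of_tower f (Localization.Away s) ψ hψ (IsLocalization.Away.invSelf s)
  have h1 : (u : Rh) * ψ (IsLocalization.Away.invSelf s) = 1 := by
    have h2 : ψ (algebraMap S (Localization.Away s) s) = f s :=
      congrArg (fun g : S →+* Rh => g s) hψ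
    rw [hu, ← h2, ← map_mul, IsLocalization.Away.mul_invSelf, map_one]
  have h3 : (↑u⁻¹ : Rh) = ψ (IsLocalization.Away.invSelf s) := by
    rw [Units.inv_eq_of_mul_eq_one_right h1]
  rw [h3]
  exact h

theorem InIm.root (F : Rh[X]) (hF : F.Monic) (hc : ∀ i, InIm R Rh (F.coeff i)) (a : Rh)
    (ha : F.eval a = 0) (hu : IsUnit (F.derivative.eval a)) : InIm R Rh a := by
  obtain ⟨S, _, _, _, φ, hφ⟩ := InIm.exists_common (fun i : Fin F.natDegree => F.coeff i)
    (fun i => hc _)
  choose s hs using hφ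
  let FS : S[X] := X ^ F.natDegree + ∑ i : Fin F.natDegree, C (s i) * X ^ (i : ℕ)
  have hFS : FS.Monic := Polynomial.monic_X_pow_add (degree_sum_fin_lt s)
  have hmap : FS.map φ.toRingHom = F := by
    conv_rhs => rw [hF.as_sum]
    simp only [FS, Polynomial.map_add, Polynomial.map_pow, Polynomial.map_X, Polynomial.map_sum,
      Polynomial.map_mul, Polynomial.map_C]
    congr 1
    rw [← Fin.sum_univ_eq_sum_range (fun i => C (F.coeff i) * X ^ i)]
    refine Finset.sum_congr rfl fun i _ => ?_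
    rw [← hs i]
    rfl
  let P : StandardEtalePair S := ⟨FS, hFS, derivative FS, ⟨1, 0, 1, by ring⟩⟩
  letI : Algebra S Rh := φ.toRingHom.toAlgebra
  have hP : P.HasMap a := by
    constructor
    · show aeval a FS = 0
      rw [aeval_def, eval₂_eq_eval_map]
      show (FS.map φ.toRingHom).eval a = 0
      rw [hmap, ha]
    · show IsUnit (aeval a (derivative FS))
      rw [aeval_def, eval₂_eq_eval_map]
      show IsUnit ((derivative FS).map φ.toRingHom |>.eval a)
      rw [← derivative_map, hmap]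
      exact hu
  have h := InIm.of_tower φ P.Ring (P.lift a hP).toRingHom (P.lift a hP).comp_algebraMap P.X
  have h2 : (P.lift a hP).toRingHom P.X = a := P.lift_X a hP
  rw [h2] at h
  exact h

end InIm

section SubringC

variable (R : Type u) [CommRing R] (Rh : Type u) [CommRing Rh] [Algebra R Rh]

/-- The subring of elements coming from étale algebras. -/
def C : Subring Rh where
  carrier := {x | InIm R Rh x}
  mul_mem' := InIm.mul
  one_mem' := by
    have := InIm.of_base (R := R) (Rh := Rh) 1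
    rwa [map_one] at this
  add_mem' := InIm.add
  zero_mem' := by
    have := InIm.of_base (R := R) (Rh := Rh) 0
    rwa [map_zero] at this
  neg_mem' := InIm.neg

variable {R Rh}

theorem mem_C_iff {x : Rh} : x ∈ C R Rh ↔ InIm R Rh x := Iff.rfl

theorem isUnit_C_iff (c : C R Rh) : IsUnit c ↔ IsUnit (c : Rh) := by
  constructor
  · intro h
    exact h.map (C R Rh).subtype
  · rintro ⟨u, hu⟩
    have hinv : (↑u⁻¹ : Rh) ∈ C R Rh := InIm.inv c.2 u hu
    refine IsUnit.of_mul_eq_one ⟨_, hinv⟩ ?_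
    ext
    show (c : Rh) * ↑u⁻¹ = 1
    rw [← hu]
    exact Units.mul_inv u

instance isLocalRing_C [IsLocalRing Rh] : IsLocalRing (C R Rh) := by
  haveI : Nontrivial (C R Rh) := ⟨⟨0, 1, fun h => zero_ne_one (α := Rh) (congrArg Subtype.val h)⟩⟩
  refine IsLocalRing.of_nonunits_add ?_
  intro a b ha hb
  rw [mem_nonunits_iff, isUnit_C_iff] at ha hb ⊢
  have ha' : (a : Rh) ∈ IsLocalRing.maximalIdeal Rh := ha
  have hb' : (b : Rh) ∈ IsLocalRing.maximalIdeal Rh := hb
  exact Ideal.add_mem _ ha' hb'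

theorem mem_maximalIdeal_C_iff [IsLocalRing Rh] (c : C R Rh) :
    c ∈ IsLocalRing.maximalIdeal (C R Rh) ↔ (c : Rh) ∈ IsLocalRing.maximalIdeal Rh := by
  rw [IsLocalRing.mem_maximalIdeal, IsLocalRing.mem_maximalIdeal, mem_nonunits_iff,
    mem_nonunits_iff, isUnit_C_iff]

instance henselianLocalRing_C [HenselianLocalRing Rh] : HenselianLocalRing (C R Rh) where
  is_henselian f hf a₀ h₁ h₂ := by
    let ι : C R Rh →+* Rh := (C R Rh).subtype
    have hev : ∀ (g : (C R Rh)[X]) (c : C R Rh), (g.map ι).eval (ι c) = ι (g.eval c) := by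
      intro g c
      rw [eval_map, eval₂_hom]
    have h₁' : (f.map ι).eval (ι a₀) ∈ IsLocalRing.maximalIdeal Rh := by
      rw [hev]
      exact (mem_maximalIdeal_C_iff _).mp h₁
    have h₂' : IsUnit ((f.map ι).derivative.eval (ι a₀)) := by
      rw [derivative_map, hev]
      exact h₂.map ι
    obtain ⟨a, ha, haa⟩ := HenselianLocalRing.is_henselian (f.map ι) (hf.map ι) (ι a₀) h₁' h₂'
    have hda : IsUnit ((f.map ι).derivative.eval a) := by
      have hdvd : a - ι a₀ ∣ (f.map ι).derivative.eval a - (f.map ι).derivative.eval (ι a₀) :=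
        Polynomial.sub_dvd_eval_sub a (ι a₀) _
      have hmem : (f.map ι).derivative.eval a - (f.map ι).derivative.eval (ι a₀)
          ∈ IsLocalRing.maximalIdeal Rh := Ideal.mem_of_dvd _ hdvd haa
      by_contra hnu
      have h3 : (f.map ι).derivative.eval a ∈ IsLocalRing.maximalIdeal Rh := hnu
      have h4 : (f.map ι).derivative.eval (ι a₀) ∈ IsLocalRing.maximalIdeal Rh := by
        have := Ideal.sub_mem _ h3 hmem
        rwa [sub_sub_cancel] at this
      exact h4 h₂'
    have haC : a ∈ C R Rh := by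
      refine InIm.root (f.map ι) (hf.map ι) (fun i => ?_) a ha hda
      rw [coeff_map]
      exact (f.coeff i).2
    refine ⟨⟨a, haC⟩, ?_, ?_⟩
    · have h5 : ι (f.eval ⟨a, haC⟩) = 0 := by
        rw [← hev]
        exact ha
      exact Subtype.ext h5
    · rw [mem_maximalIdeal_C_iff]
      exact haa

end SubringC

end Groth.Agent.Helper7.HensAtPrime
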