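import Mathlib
import Groth.Prelude.Def_Hensel
import Groth.Agent.Lib.Helper7.Hens.Abstract


/-! helper7: flatness-type argument: an element of an etale algebra killed in the henselization is killed by an element outside the prime -/

set_option linter.style.haveILetI false
set_option linter.unusedVariables false
set_option linter.unusedSectionVars false

open TensorProduct Polynomial

namespace Groth.Agent.Helper7.HensAtPrime

universe u

section PartC

variable {R : Type u} [CommRing R] (p : Ideal R) [p.IsPrime]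
  (Rh : Type u) [CommRing Rh] [IsLocalRing Rh]
  [Algebra (Localization.AtPrime p) Rh] [IsLocalHom (algebraMap (Localization.AtPrime p) Rh)]
  [Hensel.IsHenselization (Localization.AtPrime p) Rh] [Algebra R Rh]
  [IsScalarTower R (Localization.AtPrime p) Rh]
  {S : Type u} [CommRing S] [Algebra R S]

include p in
theorem flat_base : Module.Flat R Rh := by
  haveI : Module.Flat (Localization.AtPrime p) Rh := Hens.flat_of_isHenselization _ Rh
  exact Module.Flat.trans R (Localization.AtPrime p) Rh

/-- The kernel of the multiplication-type map `Rh ⊗ S → Rh` is generated by an idempotent. -/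
theorem exists_idempotent_ker [Algebra.Etale R S] (f : S →ₐ[R] Rh) :
    ∃ e : Rh ⊗[R] S, IsIdempotentElem e ∧
      RingHom.ker (Algebra.TensorProduct.lift (AlgHom.id Rh Rh) f
        (fun _ _ => Commute.all _ _)).toRingHom = Ideal.span {e} := by
  let π : Rh ⊗[R] S →ₐ[Rh] Rh :=
    Algebra.TensorProduct.lift (AlgHom.id Rh Rh) f (fun _ _ => Commute.all _ _)
  have hsurj : Function.Surjective π := fun x =>
    ⟨x ⊗ₜ[R] 1, by simp [π]⟩
  letI : Algebra (Rh ⊗[R] S) Rh := π.toRingHom.toAlgebra
  haveI : IsScalarTower Rh (Rh ⊗[R] S) Rh := .of_algebraMap_eq' π.comp_algebraMap.symm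
  have hfe : Algebra.FormallyEtale (Rh ⊗[R] S) Rh := .of_restrictScalars (R := Rh)
  have hid := (Algebra.FormallyEtale.iff_of_surjective hsurj).mp hfe
  have hfg := Algebra.FinitePresentation.ker_fG_of_surjective π hsurj
  obtain ⟨e, he, hker⟩ := (Ideal.isIdempotentElem_iff_of_fg _ hfg).mp hid
  exact ⟨e, he, hker⟩

include p in
theorem exists_notMem_mul_eq_zero [Algebra.Etale R S] (f : S →ₐ[R] Rh) (s : S) (hs : f s = 0) :
    ∃ g : S, f g ∉ IsLocalRing.maximalIdeal Rh ∧ s * g = 0 := by
  classical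
  haveI : Module.Flat R Rh := flat_base p Rh
  obtain ⟨e, he, hker⟩ := exists_idempotent_ker Rh f
  set π : Rh ⊗[R] S →ₐ[Rh] Rh :=
    Algebra.TensorProduct.lift (AlgHom.id Rh Rh) f (fun _ _ => Commute.all _ _) with hπ
  have hπe : π e = 0 := by
    have : e ∈ RingHom.ker π.toRingHom := by rw [hker]; exact Ideal.mem_span_singleton_self e
    exact this
  have hπs : ∀ a : S, π (1 ⊗ₜ[R] a) = f a := by
    intro a; simp [π]
  letI : Algebra S (Rh ⊗[R] S) := Algebra.TensorProduct.rightAlgebra
  haveI : Module.Flat S (Rh ⊗[R] S) :=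
    Module.Flat.of_linearEquiv (Algebra.TensorProduct.commRight R S Rh).symm.toLinearEquiv
  have hsmul : ∀ (a : S) (z : Rh ⊗[R] S), a • z = (1 ⊗ₜ[R] a) * z := by
    intro a z
    rw [Algebra.smul_def]
    rfl
  -- `s • (1 - e) = 0`
  have h1 : (1 ⊗ₜ[R] s : Rh ⊗[R] S) ∈ Ideal.span {e} := by
    rw [← hker]
    show π (1 ⊗ₜ[R] s) = 0
    rw [hπs, hs]
  obtain ⟨c, hc⟩ := Ideal.mem_span_singleton'.mp h1
  have h2 : s • (1 - e : Rh ⊗[R] S) = 0 := by
    rw [hsmul, ← hc, mul_sub, mul_one, mul_assoc, he.eq, sub_self]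
  have h3 : ∑ i : Unit, (fun _ => s) i • (fun _ => (1 - e : Rh ⊗[R] S)) i = 0 := by
    simpa using h2
  obtain ⟨k, a, y, hx, ha⟩ := Module.Flat.isTrivialRelation_of_sum_smul_eq_zero
    (R := S) (M := Rh ⊗[R] S) (f := fun _ : Unit => s) (x := fun _ => (1 - e : Rh ⊗[R] S)) h3
  have h4 : (1 : Rh) = ∑ j, f (a () j) * π (y j) := by
    have := congrArg π (hx ())
    simp only [map_sub, map_one, hπe, sub_zero, map_sum, hsmul, map_mul, hπs] at this
    exact this
  by_contra hcon
  push Not at hcon
  have h5 : (1 : Rh) ∈ IsLocalRing.maximalIdeal Rh := by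
    rw [h4]
    refine Ideal.sum_mem _ fun j _ => Ideal.mul_mem_right _ _ ?_
    by_contra hj
    refine hcon (a () j) hj ?_
    have := ha j
    simpa using this
  exact (Ideal.ne_top_iff_one _).mp (IsLocalRing.maximalIdeal.isMaximal Rh).ne_top h5

end PartC

end Groth.Agent.Helper7.HensAtPrime
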