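import Mathlib
import Groth.Prelude.Def_Hensel
import Groth.Agent.Lib.Helper7.Hens.AtPrimeA
import Groth.Agent.Lib.Helper7.Hens.AtPrimeB
import Groth.Agent.Lib.Helper7.Hens.AtPrimeC


/-! helper7: henselization of a localization at a prime as a colimit of etale algebras with trivial residue field extension (S9470) -/

set_option linter.style.haveILetI false
set_option linter.unusedVariables false
set_option linter.unusedSectionVars false

open TensorProduct Polynomial

namespace Groth.Agent.Helper7.HensAtPrime

universe u

section Main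

variable {R : Type u} [CommRing R] (p : Ideal R) [p.IsPrime]
  (Rh : Type u) [CommRing Rh] [IsLocalRing Rh]
  [Algebra (Localization.AtPrime p) Rh] [IsLocalHom (algebraMap (Localization.AtPrime p) Rh)]
  [Hensel.IsHenselization (Localization.AtPrime p) Rh] [Algebra R Rh]
  [IsScalarTower R (Localization.AtPrime p) Rh]

theorem algebraMap_mem_C (a : Localization.AtPrime p) :
    algebraMap (Localization.AtPrime p) Rh a ∈ C R Rh := by
  obtain ⟨r, ⟨t, ht⟩, rfl⟩ := IsLocalization.exists_mk'_eq p.primeCompl a
  obtain ⟨u, hu⟩ := isUnit_algebraMap p Rh ht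
  have h1 : algebraMap (Localization.AtPrime p) Rh (IsLocalization.mk' _ r ⟨t, ht⟩)
      * algebraMap R Rh t = algebraMap R Rh r := by
    rw [IsScalarTower.algebraMap_apply R (Localization.AtPrime p) Rh,
      IsScalarTower.algebraMap_apply R (Localization.AtPrime p) Rh, ← map_mul]
    congr 1
    exact IsLocalization.mk'_spec _ r ⟨t, ht⟩
  have h2 : algebraMap (Localization.AtPrime p) Rh (IsLocalization.mk' _ r ⟨t, ht⟩)
      = algebraMap R Rh r * ↑u⁻¹ := by
    rw [← h1, ← hu, mul_assoc, Units.mul_inv, mul_one]
  rw [h2]
  exact InIm.mul (InIm.of_base r) (InIm.inv (InIm.of_base t) u hu)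

include p in
/-- Every element of the henselization comes from an étale algebra over the base. -/
theorem inIm_all (x : Rh) : InIm R Rh x := by
  haveI : HenselianLocalRing Rh :=
    Hensel.IsHenselization.henselian (R := Localization.AtPrime p) (S := Rh)
  let ι : C R Rh →+* Rh := (C R Rh).subtype
  let g₀ : Localization.AtPrime p →+* C R Rh :=
    (algebraMap (Localization.AtPrime p) Rh).codRestrict (C R Rh) (algebraMap_mem_C p Rh)
  have hg₀ : ι.comp g₀ = algebraMap (Localization.AtPrime p) Rh := by
    ext a; rfl
  have hloc : IsLocalHom g₀ := by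
    constructor
    intro a ha
    have h1 : IsUnit (ι (g₀ a)) := ha.map ι
    have h2 : ι (g₀ a) = algebraMap (Localization.AtPrime p) Rh a := rfl
    rw [h2] at h1
    exact (isUnit_map_iff (algebraMap (Localization.AtPrime p) Rh) a).mp h1
  obtain ⟨g, hg, -⟩ := Hensel.IsHenselization.universal (R := Localization.AtPrime p) (S := Rh)
    (C R Rh) g₀ hloc
  have huniq := Hensel.IsHenselization.universal (R := Localization.AtPrime p) (S := Rh)
    Rh (algebraMap (Localization.AtPrime p) Rh) inferInstance
  have h1 : (ι.comp g).comp (algebraMap (Localization.AtPrime p) Rh)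
      = algebraMap (Localization.AtPrime p) Rh := by
    rw [RingHom.comp_assoc, hg, hg₀]
  have h2 : (RingHom.id Rh).comp (algebraMap (Localization.AtPrime p) Rh)
      = algebraMap (Localization.AtPrime p) Rh := RingHom.id_comp _
  have h3 : ι.comp g = RingHom.id Rh := huniq.unique h1 h2
  have h4 : ι (g x) = x := congrArg (fun φ : Rh →+* Rh => φ x) h3
  rw [← h4]
  exact (g x).2

theorem main (R : Type u) [CommRing R]
    (p : Ideal R) [p.IsPrime] (Rh : Type u) [CommRing Rh] [IsLocalRing Rh]
    [Algebra (Localization.AtPrime p) Rh] [IsLocalHom (algebraMap (Localization.AtPrime p) Rh)]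
    [Hensel.IsHenselization (Localization.AtPrime p) Rh] [Algebra R Rh]
    [IsScalarTower R (Localization.AtPrime p) Rh] :
    (∀ (S : Type u) [CommRing S] [Algebra R S] [Algebra.Etale R S] (q : Ideal S) [q.IsPrime]
        (hq : p = q.comap (algebraMap R S)),
        Function.Bijective (Ideal.ResidueField.map p q (algebraMap R S) hq) →
          ∃! f : S →ₐ[R] Rh, (IsLocalRing.maximalIdeal Rh).comap f.toRingHom = q) ∧
    (∀ x : Rh, ∃ (S : Type u) (_ : CommRing S) (_ : Algebra R S) (_ : Algebra.Etale R S) (q : Ideal S)
        (_ : q.IsPrime) (hq : p = q.comap (algebraMap R S)),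
        Function.Bijective (Ideal.ResidueField.map p q (algebraMap R S) hq) ∧
          ∃ (f : S →ₐ[R] Rh) (s : S), (IsLocalRing.maximalIdeal Rh).comap f.toRingHom = q ∧ f s = x) ∧
    (∀ (S : Type u) [CommRing S] [Algebra R S] [Algebra.Etale R S] (q : Ideal S) [q.IsPrime]
        (hq : p = q.comap (algebraMap R S)),
        Function.Bijective (Ideal.ResidueField.map p q (algebraMap R S) hq) →
          ∀ (f : S →ₐ[R] Rh), (IsLocalRing.maximalIdeal Rh).comap f.toRingHom = q → ∀ s : S, f s = 0 →
            ∃ (S' : Type u) (_ : CommRing S') (_ : Algebra R S') (_ : Algebra.Etale R S') (q' : Ideal S')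
              (_ : q'.IsPrime) (hq' : p = q'.comap (algebraMap R S')),
              Function.Bijective (Ideal.ResidueField.map p q' (algebraMap R S') hq') ∧
                ∃ φ : S →ₐ[R] S', q'.comap φ.toRingHom = q ∧ φ s = 0) := by
  refine ⟨?_, ?_, ?_⟩
  · intro S _ _ _ q _ hq hbij
    exact existsUnique_algHom p Rh q hq hbij
  · intro x
    obtain ⟨S, i1, i2, i3, f, s, hfs⟩ := inIm_all p Rh x
    have hq := comap_comap_eq p Rh f
    exact ⟨S, i1, i2, i3, (IsLocalRing.maximalIdeal Rh).comap f.toRingHom, inferInstance, hq,
      residueField_bijective p Rh f _ rfl hq, f, s, rfl, hfs⟩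
  · intro S _ _ _ q _ hq hbij f hf s hs
    obtain ⟨g, hg, hsg⟩ := exists_notMem_mul_eq_zero p Rh f s hs
    have hunit : IsUnit (f.toRingHom g) := by
      by_contra h
      exact hg h
    haveI : Algebra.Etale S (Localization.Away g) := Algebra.Etale.of_isLocalizationAway g
    haveI : Algebra.Etale R (Localization.Away g) := Algebra.Etale.comp R S _
    let f' : Localization.Away g →ₐ[R] Rh :=
      IsLocalization.liftAlgHom (M := Submonoid.powers g) (f := f) (by
        rintro ⟨_, n, rfl⟩
        show IsUnit (f (g ^ n))
        rw [map_pow]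
        exact hunit.pow n)
    have hf' : ∀ y : S, f' (algebraMap S (Localization.Away g) y) = f y := by
      intro y
      exact IsLocalization.lift_eq _ y
    have hq' := comap_comap_eq p Rh f'
    refine ⟨Localization.Away g, inferInstance, inferInstance, inferInstance,
      (IsLocalRing.maximalIdeal Rh).comap f'.toRingHom, inferInstance, hq',
      residueField_bijective p Rh f' _ rfl hq',
      IsScalarTower.toAlgHom R S (Localization.Away g), ?_, ?_⟩
    · rw [← hf]
      ext y
      simp only [Ideal.mem_comap]
      show f' (algebraMap S (Localization.Away g) y) ∈ _ ↔ f y ∈ _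
      rw [hf']
    · show algebraMap S (Localization.Away g) s = 0
      have h1 : IsUnit (algebraMap S (Localization.Away g) g) :=
        IsLocalization.Away.algebraMap_isUnit g
      have h2 := congrArg (algebraMap S (Localization.Away g)) hsg
      rw [map_mul, map_zero] at h2
      exact (h1.mul_left_eq_zero).mp h2

end Main

end Groth.Agent.Helper7.HensAtPrime
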