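import Mathlib
import Groth.Agent.Lib.Helper7.Hens.Structure

/-!
# Maps from a Henselian finitely presented algebra into a direct limit of henselian pairs
-/

open TensorProduct

namespace Groth.Agent.Helper7.Hens

universe u

section Uniqueness

/-- Two ring maps out of a henselization of `(R₀, J)` which agree on `R₀` and whose target has
`J` mapping into the Jacobson radical are equal. -/
theorem ringHom_eq_of_isPairHenselization {R₀ : Type u} [CommRing R₀] {J : Ideal R₀} {B : Type u}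
    [CommRing B] [Algebra R₀ B] (hB : Hens2.IsPairHenselization R₀ J B) {D : Type u} [CommRing D]
    (g₁ g₂ : B →+* D) (h : g₁.comp (algebraMap R₀ B) = g₂.comp (algebraMap R₀ B))
    (hjac : J.map (g₁.comp (algebraMap R₀ B)) ≤ Ideal.jacobson ⊥) : g₁ = g₂ := by
  let _ : Algebra R₀ D := (g₁.comp (algebraMap R₀ B)).toAlgebra
  have hjac' : J.map (algebraMap R₀ D) ≤ Ideal.jacobson ⊥ := hjac
  ext x
  obtain ⟨A', _, _, _, hbij, φ, s, rfl⟩ := (structure_of_isPairHenselization hB).2.1 x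
  let G₁ : A' →ₐ[R₀] D :=
    { g₁.comp φ.toRingHom with
      commutes' := by
        intro r
        change g₁ (φ (algebraMap R₀ A' r)) = g₁ (algebraMap R₀ B r)
        rw [φ.commutes] }
  let G₂ : A' →ₐ[R₀] D :=
    { g₂.comp φ.toRingHom with
      commutes' := by
        intro r
        change g₂ (φ (algebraMap R₀ A' r)) = g₁ (algebraMap R₀ B r)
        rw [φ.commutes]
        exact (RingHom.congr_fun h r).symm }
  have := algHom_unique_of_bijective (A := R₀) (I := J) A' hbij hjac' G₁ G₂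
  exact AlgHom.congr_fun this s

end Uniqueness

section MapT

theorem dl_map_t {κ : Type u} [Preorder κ] (Ra : κ → Type u) [∀ a, CommRing (Ra a)]
    (t : ∀ a b : κ, a ≤ b → (Ra a →+* Ra b)) {A : Type u} [CommRing A] (I : Ideal A)
    [∀ a, Algebra A (Ra a)]
    (ht : ∀ (a b : κ) (h : a ≤ b), (t a b h).comp (algebraMap A (Ra a)) = algebraMap A (Ra b))
    (a b : κ) (h : a ≤ b) :
    (I.map (algebraMap A (Ra a))).map (t a b h) = I.map (algebraMap A (Ra b)) := by
  rw [Ideal.map_map, ht]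

end MapT

section DirectLimit

variable {κ : Type u} [Preorder κ] [IsDirectedOrder κ] [Nonempty κ]
  (Ra : κ → Type u) [∀ a, CommRing (Ra a)]
  (t : ∀ a b : κ, a ≤ b → (Ra a →+* Ra b)) [DirectedSystem Ra (fun a b h => t a b h)]

theorem dl_exists_of (z : DirectLimit Ra t) : ∃ a x, DirectLimit.Ring.of Ra t a x = z := by
  obtain ⟨a, x, rfl⟩ := DirectLimit.exists_eq_mk _ z
  exact ⟨a, x, rfl⟩

theorem dl_exists_ge_of_eq {a : κ} {x y : Ra a}
    (h : DirectLimit.Ring.of Ra t a x = DirectLimit.Ring.of Ra t a y) :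
    ∃ (b : κ) (hab : a ≤ b), t a b hab x = t a b hab y := by
  obtain ⟨k, hx, _, hk⟩ := Quotient.exact h
  exact ⟨k, hx, hk⟩

theorem dl_exists_fin (a₀ : κ) {n : ℕ} (z : Fin n → DirectLimit Ra t) :
    ∃ (a : κ) (_ : a₀ ≤ a) (x : Fin n → Ra a), ∀ i, DirectLimit.Ring.of Ra t a (x i) = z i := by
  induction n with
  | zero => exact ⟨a₀, le_rfl, fun i => i.elim0, fun i => i.elim0⟩
  | succ n ih =>
    obtain ⟨a, ha, x, hx⟩ := ih (fun i => z i.succ)
    obtain ⟨b, y, hy⟩ := dl_exists_of Ra t (z 0)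
    obtain ⟨c, hac, hbc⟩ := exists_ge_ge a b
    refine ⟨c, ha.trans hac, Fin.cons (t b c hbc y) (fun i => t a c hac (x i)), ?_⟩
    intro i
    refine Fin.cases ?_ (fun j => ?_) i
    · rw [Fin.cons_zero, DirectLimit.Ring.of_f, hy]
    · rw [Fin.cons_succ, DirectLimit.Ring.of_f, hx j]

theorem dl_exists_ge_of_eq_fin {a : κ} {n : ℕ} (x y : Fin n → Ra a)
    (h : ∀ i, DirectLimit.Ring.of Ra t a (x i) = DirectLimit.Ring.of Ra t a (y i)) :
    ∃ (b : κ) (hab : a ≤ b), ∀ i, t a b hab (x i) = t a b hab (y i) := by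
  induction n with
  | zero => exact ⟨a, le_rfl, fun i => i.elim0⟩
  | succ n ih =>
    obtain ⟨b, hab, hb⟩ := ih (fun i => x i.succ) (fun i => y i.succ) (fun i => h i.succ)
    obtain ⟨c, hac, hc⟩ := dl_exists_ge_of_eq Ra t (h 0)
    obtain ⟨d, hbd, hcd⟩ := exists_ge_ge b c
    refine ⟨d, hab.trans hbd, ?_⟩
    intro i
    refine Fin.cases ?_ (fun j => ?_) i
    · have := congrArg (t c d hcd) hc
      rwa [DirectedSystem.map_map' (f := t), DirectedSystem.map_map' (f := t)] at this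
    · have := congrArg (t b d hbd) (hb j)
      rwa [DirectedSystem.map_map' (f := t), DirectedSystem.map_map' (f := t)] at this

variable {A : Type u} [CommRing A] (I : Ideal A) [∀ a, Algebra A (Ra a)]
  (ht : ∀ (a b : κ) (h : a ≤ b), (t a b h).comp (algebraMap A (Ra a)) = algebraMap A (Ra b))
  [Algebra A (DirectLimit Ra t)]
  (halg : ∀ (a : κ) (x : A), algebraMap A (DirectLimit Ra t) x =
    DirectLimit.Ring.of Ra t a (algebraMap A (Ra a) x))

include ht halg in
theorem dl_mem_map (x : DirectLimit Ra t) (hx : x ∈ I.map (algebraMap A (DirectLimit Ra t))) :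
    ∃ (a : κ) (x' : Ra a), x' ∈ I.map (algebraMap A (Ra a)) ∧
      DirectLimit.Ring.of Ra t a x' = x := by
  refine Submodule.span_induction (p := fun x _ => ∃ (a : κ) (x' : Ra a),
    x' ∈ I.map (algebraMap A (Ra a)) ∧ DirectLimit.Ring.of Ra t a x' = x) ?_ ?_ ?_ ?_ hx
  · rintro _ ⟨α, hα, rfl⟩
    obtain ⟨a⟩ := (inferInstance : Nonempty κ)
    exact ⟨a, algebraMap A (Ra a) α, Ideal.mem_map_of_mem _ hα, (halg a α).symm⟩
  · obtain ⟨a⟩ := (inferInstance : Nonempty κ)
    exact ⟨a, 0, zero_mem _, map_zero _⟩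
  · rintro x y - - ⟨a, x', hx', rfl⟩ ⟨b, y', hy', rfl⟩
    obtain ⟨c, hac, hbc⟩ := exists_ge_ge a b
    refine ⟨c, t a c hac x' + t b c hbc y', add_mem ?_ ?_, ?_⟩
    · rw [← dl_map_t Ra t I ht a c hac]; exact Ideal.mem_map_of_mem _ hx'
    · rw [← dl_map_t Ra t I ht b c hbc]; exact Ideal.mem_map_of_mem _ hy'
    · rw [map_add, DirectLimit.Ring.of_f, DirectLimit.Ring.of_f]
  · rintro l x - ⟨a, x', hx', rfl⟩
    obtain ⟨b, l', rfl⟩ := dl_exists_of Ra t l
    obtain ⟨c, hac, hbc⟩ := exists_ge_ge a b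
    refine ⟨c, t b c hbc l' * t a c hac x', Ideal.mul_mem_left _ _ ?_, ?_⟩
    · rw [← dl_map_t Ra t I ht a c hac]; exact Ideal.mem_map_of_mem _ hx'
    · rw [map_mul, DirectLimit.Ring.of_f, DirectLimit.Ring.of_f, smul_eq_mul]

include ht halg in
theorem dl_map_le_jacobson (hjac : ∀ a, I.map (algebraMap A (Ra a)) ≤ Ideal.jacobson ⊥) :
    I.map (algebraMap A (DirectLimit Ra t)) ≤ Ideal.jacobson ⊥ := by
  intro x hx
  rw [Ideal.mem_jacobson_bot]
  intro y
  obtain ⟨a, x', hx', rfl⟩ := dl_mem_map Ra t I ht halg x hx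
  obtain ⟨b, y', rfl⟩ := dl_exists_of Ra t y
  obtain ⟨c, hac, hbc⟩ := exists_ge_ge a b
  have h1 : t a c hac x' ∈ Ideal.jacobson (⊥ : Ideal (Ra c)) := by
    apply hjac c
    rw [← dl_map_t Ra t I ht a c hac]; exact Ideal.mem_map_of_mem _ hx'
  have h2 : IsUnit (t a c hac x' * t b c hbc y' + 1) := Ideal.mem_jacobson_bot.mp h1 _
  have h3 := h2.map (DirectLimit.Ring.of Ra t c)
  rwa [map_add, map_mul, map_one, DirectLimit.Ring.of_f, DirectLimit.Ring.of_f] at h3

end DirectLimit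

end Groth.Agent.Helper7.Hens
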