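import Mathlib
import Groth.Agent.Lib.Helper7.Hens.DirectLimitHom
import Groth.Agent.Lib.Helper7.Hensel.RankOne

set_option linter.style.haveILetI false
set_option linter.unusedVariables false
set_option linter.unusedSectionVars false

/-! helper7: directed colimits of henselian pairs are henselian (Gabber form); a directed colimit of pair henselizations is a pair henselization. -/

open Polynomial

namespace Groth.Agent.Helper7.DLHens

open Groth.Agent.Helper7.Hens

universe u

section

variable {κ : Type u} [Preorder κ] [IsDirectedOrder κ] [Nonempty κ]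
  (B : κ → Type u) [∀ a, CommRing (B a)]
  (g : ∀ a b : κ, a ≤ b → (B a →+* B b)) [DirectedSystem B (fun a b h => g a b h)]
  (J : ∀ a, Ideal (B a)) (hJ : ∀ (a b : κ) (h : a ≤ b), (J a).map (g a b h) ≤ J b)

include hJ in
theorem map_mem {a b : κ} (h : a ≤ b) {x : B a} (hx : x ∈ J a) : g a b h x ∈ J b :=
  hJ a b h (Ideal.mem_map_of_mem _ hx)

/-- The ideal of the direct limit of the elements coming from the `J a`. -/
def K : Ideal (DirectLimit B g) where
  carrier := {z | ∃ (a : κ) (x : B a), x ∈ J a ∧ DirectLimit.Ring.of B g a x = z}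
  add_mem' := by
    rintro _ _ ⟨a, x, hx, rfl⟩ ⟨b, y, hy, rfl⟩
    obtain ⟨c, hac, hbc⟩ := exists_ge_ge a b
    refine ⟨c, g a c hac x + g b c hbc y, add_mem (map_mem B g J hJ hac hx)
      (map_mem B g J hJ hbc hy), ?_⟩
    rw [map_add, DirectLimit.Ring.of_f, DirectLimit.Ring.of_f]
  zero_mem' := by
    obtain ⟨a⟩ := (inferInstance : Nonempty κ)
    exact ⟨a, 0, zero_mem _, map_zero _⟩
  smul_mem' := by
    rintro l _ ⟨a, x, hx, rfl⟩
    obtain ⟨b, l', rfl⟩ := dl_exists_of B g l
    obtain ⟨c, hac, hbc⟩ := exists_ge_ge a b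
    refine ⟨c, g b c hbc l' * g a c hac x, Ideal.mul_mem_left _ _ (map_mem B g J hJ hac hx), ?_⟩
    rw [map_mul, DirectLimit.Ring.of_f, DirectLimit.Ring.of_f, smul_eq_mul]

theorem iSup_eq_K : (⨆ a, (J a).map (DirectLimit.Ring.of B g a)) = K B g J hJ := by
  apply le_antisymm
  · refine iSup_le (fun a => ?_)
    rw [Ideal.map_le_iff_le_comap]
    intro x hx
    exact ⟨a, x, hx, rfl⟩
  · rintro _ ⟨a, x, hx, rfl⟩
    exact (le_iSup (fun a => (J a).map (DirectLimit.Ring.of B g a)) a)
      (Ideal.mem_map_of_mem _ hx)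

include hJ in
theorem mem_iSup_iff (z : DirectLimit B g) :
    z ∈ (⨆ a, (J a).map (DirectLimit.Ring.of B g a)) ↔
      ∃ (a : κ) (x : B a), x ∈ J a ∧ DirectLimit.Ring.of B g a x = z := by
  rw [iSup_eq_K B g J hJ]
  rfl

include hJ in
theorem exists_fin_mem {n : ℕ} (c : Fin n → DirectLimit B g)
    (hc : ∀ k, c k ∈ (⨆ a, (J a).map (DirectLimit.Ring.of B g a))) :
    ∃ (a : κ) (x : Fin n → B a), (∀ k, x k ∈ J a) ∧ ∀ k, DirectLimit.Ring.of B g a (x k) = c k := by
  induction n with
  | zero =>
    obtain ⟨a⟩ := (inferInstance : Nonempty κ)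
    exact ⟨a, fun i => i.elim0, fun i => i.elim0, fun i => i.elim0⟩
  | succ n ih =>
    obtain ⟨a, x, hxJ, hx⟩ := ih (fun i => c i.succ) (fun i => hc i.succ)
    obtain ⟨b, y, hyJ, hy⟩ := (mem_iSup_iff B g J hJ (c 0)).mp (hc 0)
    obtain ⟨d, had, hbd⟩ := exists_ge_ge a b
    refine ⟨d, Fin.cons (g b d hbd y) (fun i => g a d had (x i)), ?_, ?_⟩
    · intro i
      refine Fin.cases ?_ (fun j => ?_) i
      · rw [Fin.cons_zero]; exact map_mem B g J hJ hbd hyJ
      · rw [Fin.cons_succ]; exact map_mem B g J hJ had (hxJ j)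
    · intro i
      refine Fin.cases ?_ (fun j => ?_) i
      · rw [Fin.cons_zero, DirectLimit.Ring.of_f, hy]
      · rw [Fin.cons_succ, DirectLimit.Ring.of_f, hx]

include hJ in
/-- A directed colimit of henselian pairs is a henselian pair (in Gabber's form). -/
theorem dl_gabber (hG : ∀ a, Hensel.Gabber (B a) (J a)) :
    Hensel.Gabber (DirectLimit B g) (⨆ a, (J a).map (DirectLimit.Ring.of B g a)) := by
  refine ⟨?_, fun n hn p hp hpI => ?_⟩
  · intro x hx
    rw [Ideal.mem_jacobson_bot]
    intro y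
    obtain ⟨a, x', hx', rfl⟩ := (mem_iSup_iff B g J hJ x).mp hx
    obtain ⟨b, y', rfl⟩ := dl_exists_of B g y
    obtain ⟨c, hac, hbc⟩ := exists_ge_ge a b
    have h1 : g a c hac x' ∈ Ideal.jacobson (⊥ : Ideal (B c)) :=
      (hG c).1 (map_mem B g J hJ hac hx')
    have h2 : IsUnit (g a c hac x' * g b c hbc y' + 1) := Ideal.mem_jacobson_bot.mp h1 _
    have h3 := h2.map (DirectLimit.Ring.of B g c)
    rwa [map_add, map_mul, map_one, DirectLimit.Ring.of_f, DirectLimit.Ring.of_f] at h3
  · obtain ⟨a, x, hxJ, hx⟩ := exists_fin_mem B g J hJ (fun i : Fin (n + 1) => p.coeff i)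
      (fun i => hpI i)
    set q : (B a)[X] := ∑ i : Fin (n + 1), C (x i) * X ^ (i : ℕ) with hq
    have hqmap : q.map (DirectLimit.Ring.of B g a) = p := by
      rw [hq, Polynomial.map_sum]
      conv_rhs => rw [p.as_sum_range' (n + 1) (Nat.lt_succ_of_le hp)]
      rw [Finset.sum_range]
      apply Finset.sum_congr rfl
      intro i _
      rw [Polynomial.map_mul, Polynomial.map_C, Polynomial.map_pow, Polynomial.map_X, hx,
        ← C_mul_X_pow_eq_monomial]
    have hqI : ∀ i, q.coeff i ∈ J a := by
      intro i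
      rw [hq, Polynomial.finsetSum_coeff]
      refine Ideal.sum_mem _ fun j _ => ?_
      rw [coeff_C_mul]
      exact Ideal.mul_mem_right _ _ (hxJ j)
    have hqdeg : q.natDegree ≤ n := by
      rw [hq]
      refine Polynomial.natDegree_sum_le_of_forall_le _ _ fun j _ => ?_
      refine (natDegree_C_mul_X_pow_le _ _).trans ?_
      exact Nat.lt_succ_iff.mp j.2
    obtain ⟨α, hα, hroot⟩ := (hG a).2 n hn q hqdeg hqI
    refine ⟨DirectLimit.Ring.of B g a α, ?_, ?_⟩
    · have : DirectLimit.Ring.of B g a α - 1 = DirectLimit.Ring.of B g a (α - 1) := by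
        rw [map_sub, map_one]
      rw [this]
      exact (le_iSup (fun a => (J a).map (DirectLimit.Ring.of B g a)) a)
        (Ideal.mem_map_of_mem _ hα)
    · have h1 : (X ^ n * (X - 1) + p : (DirectLimit B g)[X]) =
          (X ^ n * (X - 1) + q : (B a)[X]).map (DirectLimit.Ring.of B g a) := by
        rw [Polynomial.map_add, hqmap]
        simp
      rw [h1]
      exact hroot.map

end

/-- A directed colimit of pair henselizations is a pair henselization of the colimit pair. -/
theorem S9330_main {ι : Type u} [Preorder ι] [IsDirectedOrder ι] [Nonempty ι]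
    (G : ι → Type u) [∀ i, CommRing (G i)] (f : ∀ i j : ι, i ≤ j → (G i →+* G j))
    [DirectedSystem G (fun i j h => f i j h)] (I : ∀ i, Ideal (G i))
    (hI : ∀ (i j : ι) (h : i ≤ j), (I i).map (f i j h) ≤ I j)
    (B : ι → Type u) [∀ i, CommRing (B i)] [∀ i, Algebra (G i) (B i)]
    (hB : ∀ i, Hens2.IsPairHenselization (G i) (I i) (B i))
    (g : ∀ i j : ι, i ≤ j → (B i →+* B j)) [DirectedSystem B (fun i j h => g i j h)]
    (hg : ∀ (i j : ι) (h : i ≤ j), (g i j h).comp (algebraMap (G i) (B i)) =
      (algebraMap (G j) (B j)).comp (f i j h))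
    [Algebra (DirectLimit G f) (DirectLimit B g)]
    (halg : ∀ (i : ι) (x : G i), algebraMap (DirectLimit G f) (DirectLimit B g)
      (DirectLimit.Ring.of G f i x) = DirectLimit.Ring.of B g i (algebraMap (G i) (B i) x)) :
    Hens2.IsPairHenselization (DirectLimit G f) (⨆ i, (I i).map (DirectLimit.Ring.of G f i))
      (DirectLimit B g) := by
  let J : ∀ i, Ideal (B i) := fun i => (I i).map (algebraMap (G i) (B i))
  have hJ : ∀ (a b : ι) (h : a ≤ b), (J a).map (g a b h) ≤ J b := by
    intro a b h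
    change ((I a).map (algebraMap (G a) (B a))).map (g a b h) ≤ (I b).map (algebraMap (G b) (B b))
    rw [Ideal.map_map, hg, ← Ideal.map_map]
    exact Ideal.map_mono (hI a b h)
  have halg' : ∀ i, (algebraMap (DirectLimit G f) (DirectLimit B g)).comp
      (DirectLimit.Ring.of G f i) = (DirectLimit.Ring.of B g i).comp (algebraMap (G i) (B i)) :=
    fun i => RingHom.ext (halg i)
  have hideal : (⨆ i, (I i).map (DirectLimit.Ring.of G f i)).map
      (algebraMap (DirectLimit G f) (DirectLimit B g)) =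
      ⨆ a, (J a).map (DirectLimit.Ring.of B g a) := by
    rw [Ideal.map_iSup]
    refine iSup_congr (fun i => ?_)
    change _ = ((I i).map (algebraMap (G i) (B i))).map _
    rw [Ideal.map_map, Ideal.map_map, halg']
  constructor
  · rw [hideal]
    exact (dl_gabber B g J hJ (fun a => Hensel.Gabber.of_henselianRing (hB a).1)).henselianRing
  · intro C _ JC φ hC hφ
    -- the maps at each stage
    have hφi : ∀ i, (I i).map (φ.comp (DirectLimit.Ring.of G f i)) ≤ JC := by
      intro i
      rw [← Ideal.map_map]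
      refine le_trans (Ideal.map_mono ?_) hφ
      exact le_iSup (fun i => (I i).map (DirectLimit.Ring.of G f i)) i
    choose ψ hψ hψuniq using fun i =>
      (hB i).2 C JC (φ.comp (DirectLimit.Ring.of G f i)) hC (hφi i)
    have hcompat : ∀ (i j : ι) (hij : i ≤ j) (x : B i), ψ j (g i j hij x) = ψ i x := by
      intro i j hij x
      have : (ψ j).comp (g i j hij) = ψ i := by
        apply hψuniq i
        rw [RingHom.comp_assoc, hg, ← RingHom.comp_assoc, hψ j, RingHom.comp_assoc]
        congr 1
        ext y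
        exact DirectLimit.Ring.of_f hij y
      exact RingHom.congr_fun this x
    refine ⟨DirectLimit.Ring.lift B g C ψ hcompat, ?_, ?_⟩
    · apply DirectLimit.Ring.hom_ext
      intro i
      rw [RingHom.comp_assoc, halg', ← RingHom.comp_assoc, DirectLimit.Ring.lift_comp_of, hψ i]
    · intro ψ' hψ'
      apply DirectLimit.Ring.hom_ext
      intro i
      rw [DirectLimit.Ring.lift_comp_of]
      apply hψuniq i
      rw [RingHom.comp_assoc, ← halg', ← RingHom.comp_assoc, hψ']

end Groth.Agent.Helper7.DLHens
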