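import Mathlib
import Groth.Agent.Lib.Helper7.Hens.DirectLimitHom

/-!
# Henselian finitely presented algebras are compact objects among henselian pairs
-/

open TensorProduct

namespace Groth.Agent.Helper7.Hens

universe u

variable (A : Type u) [CommRing A] (I : Ideal A)
  (R₀ : Type u) [CommRing R₀] [Algebra A R₀]
  (B : Type u) [CommRing B] [Algebra R₀ B] [Algebra A B] [IsScalarTower A R₀ B]
  (hB : Hens2.IsPairHenselization R₀ (I.map (algebraMap A R₀)) B)
  {κ : Type u} [Preorder κ] [IsDirectedOrder κ] [Nonempty κ]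
  (Ra : κ → Type u) [∀ a, CommRing (Ra a)] [∀ a, Algebra A (Ra a)]
  [∀ a, HenselianRing (Ra a) (I.map (algebraMap A (Ra a)))]
  (t : ∀ a b : κ, a ≤ b → (Ra a →+* Ra b)) [DirectedSystem Ra (fun a b h => t a b h)]
  (ht : ∀ (a b : κ) (h : a ≤ b), (t a b h).comp (algebraMap A (Ra a)) = algebraMap A (Ra b))
  [Algebra A (DirectLimit Ra t)]
  (halg : ∀ (a : κ) (x : A), algebraMap A (DirectLimit Ra t) x =
    DirectLimit.Ring.of Ra t a (algebraMap A (Ra a) x))

omit [Algebra A (DirectLimit Ra t)] in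
include hB ht in
theorem dl_hom_eq [Algebra.FiniteType A R₀] (a : κ) (φ ψ : B →ₐ[A] Ra a)
    (h : ∀ x : B, DirectLimit.Ring.of Ra t a (φ x) = DirectLimit.Ring.of Ra t a (ψ x)) :
    ∃ (b : κ) (hab : a ≤ b), ∀ x : B, t a b hab (φ x) = t a b hab (ψ x) := by
  obtain ⟨n, f, hf⟩ := Algebra.FiniteType.iff_quotient_mvPolynomial''.mp
    (inferInstance : Algebra.FiniteType A R₀)
  obtain ⟨b, hab, hb⟩ := dl_exists_ge_of_eq_fin Ra t
    (fun i : Fin n => φ (algebraMap R₀ B (f (MvPolynomial.X i))))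
    (fun i : Fin n => ψ (algebraMap R₀ B (f (MvPolynomial.X i)))) (fun i => h _)
  refine ⟨b, hab, ?_⟩
  let g₁ : B →+* Ra b := (t a b hab).comp φ.toRingHom
  let g₂ : B →+* Ra b := (t a b hab).comp ψ.toRingHom
  have hA : ∀ (θ : B →ₐ[A] Ra a) (α : A),
      t a b hab (θ (algebraMap R₀ B (algebraMap A R₀ α))) = algebraMap A (Ra b) α := by
    intro θ α
    rw [← IsScalarTower.algebraMap_apply A R₀ B, θ.commutes]
    exact RingHom.congr_fun (ht a b hab) α
  have hres : g₁.comp (algebraMap R₀ B) = g₂.comp (algebraMap R₀ B) := by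
    have hcomp : (g₁.comp (algebraMap R₀ B)).comp f.toRingHom =
        (g₂.comp (algebraMap R₀ B)).comp f.toRingHom := by
      apply MvPolynomial.ringHom_ext
      · intro α
        change t a b hab (φ (algebraMap R₀ B (f (MvPolynomial.C α)))) =
          t a b hab (ψ (algebraMap R₀ B (f (MvPolynomial.C α))))
        rw [← MvPolynomial.algebraMap_eq (R := A) (σ := Fin n), f.commutes, hA φ, hA ψ]
      · intro i
        exact hb i
    ext x
    obtain ⟨p, rfl⟩ := hf x
    exact RingHom.congr_fun hcomp p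
  have hcond : (I.map (algebraMap A R₀)).map (g₂.comp (algebraMap R₀ B)) ≤
      I.map (algebraMap A (Ra b)) := by
    rw [Ideal.map_map]
    have : (g₂.comp (algebraMap R₀ B)).comp (algebraMap A R₀) = algebraMap A (Ra b) := by
      ext α
      exact hA ψ α
    rw [this]
  obtain ⟨g, -, hguniq⟩ := hB.2 (Ra b) (I.map (algebraMap A (Ra b)))
    (g₂.comp (algebraMap R₀ B)) inferInstance hcond
  have e1 : g₁ = g := hguniq g₁ hres
  have e2 : g₂ = g := hguniq g₂ rfl
  intro x
  exact RingHom.congr_fun (e1.trans e2.symm) x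

include hB ht halg in
theorem dl_hom_factor [Algebra.FinitePresentation A R₀] (χ : B →ₐ[A] DirectLimit Ra t) :
    ∃ (a : κ) (φ : B →ₐ[A] Ra a), ∀ x : B, DirectLimit.Ring.of Ra t a (φ x) = χ x := by
  obtain ⟨n, f, hf, hfg⟩ := Algebra.FinitePresentation.out (R := A) (A := R₀)
  obtain ⟨m, g, hg⟩ := Submodule.fg_iff_exists_fin_generating_family.mp hfg
  obtain ⟨a₀⟩ := (inferInstance : Nonempty κ)
  -- algebra maps attached to the system
  let ofA : ∀ a, Ra a →ₐ[A] DirectLimit Ra t := fun a =>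
    { DirectLimit.Ring.of Ra t a with commutes' := fun α => (halg a α).symm }
  let tA : ∀ a b (h : a ≤ b), Ra a →ₐ[A] Ra b := fun a b h =>
    { t a b h with commutes' := fun α => RingHom.congr_fun (ht a b h) α }
  let Θ : MvPolynomial (Fin n) A →ₐ[A] DirectLimit Ra t :=
    χ.comp ((IsScalarTower.toAlgHom A R₀ B).comp f)
  obtain ⟨a, -, y, hy⟩ := dl_exists_fin Ra t a₀ (fun i : Fin n => Θ (MvPolynomial.X i))
  have hΘ : Θ = MvPolynomial.aeval (fun i => ofA a (y i)) := by
    rw [MvPolynomial.aeval_unique Θ]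
    congr 1
    funext i
    exact (hy i).symm
  have hzero : ∀ j : Fin m, DirectLimit.Ring.of Ra t a (MvPolynomial.aeval y (g j)) =
      DirectLimit.Ring.of Ra t a 0 := by
    intro j
    have h1 : ofA a (MvPolynomial.aeval y (g j)) = Θ (g j) := by
      rw [MvPolynomial.comp_aeval_apply, hΘ]
    have h2 : Θ (g j) = 0 := by
      have : g j ∈ RingHom.ker f.toRingHom := by
        rw [← hg]; exact Submodule.subset_span ⟨j, rfl⟩
      have h3 : f (g j) = 0 := this
      change χ (algebraMap R₀ B (f (g j))) = 0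
      rw [h3, map_zero, map_zero]
    rw [map_zero]
    exact h1.trans h2
  obtain ⟨b, hab, hb⟩ := dl_exists_ge_of_eq_fin Ra t
    (fun j : Fin m => MvPolynomial.aeval y (g j)) (fun _ => 0) hzero
  let y' : Fin n → Ra b := fun i => t a b hab (y i)
  let φ₀' : MvPolynomial (Fin n) A →ₐ[A] Ra b := MvPolynomial.aeval y'
  have hφ₀'g : ∀ j, φ₀' (g j) = 0 := by
    intro j
    have h1 : tA a b hab (MvPolynomial.aeval y (g j)) = φ₀' (g j) := by
      rw [MvPolynomial.comp_aeval_apply]
      rfl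
    rw [← h1]
    have h2 := hb j
    rw [map_zero] at h2
    exact h2
  have hker : RingHom.ker f.toRingHom ≤ RingHom.ker φ₀'.toRingHom := by
    rw [← hg]
    change Ideal.span (Set.range g) ≤ RingHom.ker φ₀'.toRingHom
    rw [Ideal.span_le]
    rintro _ ⟨j, rfl⟩
    exact hφ₀'g j
  let φ₀r : R₀ →+* Ra b := RingHom.liftOfSurjective f.toRingHom hf ⟨φ₀'.toRingHom, hker⟩
  have hφ₀rf' : φ₀r.comp f.toRingHom = φ₀'.toRingHom := RingHom.liftOfRightInverse_comp _ _ _ _
  have hφ₀rf : ∀ p, φ₀r (f p) = φ₀' p := fun p => RingHom.congr_fun hφ₀rf' p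
  have hφ₀rA : ∀ α : A, φ₀r (algebraMap A R₀ α) = algebraMap A (Ra b) α := by
    intro α
    rw [← f.commutes, hφ₀rf, φ₀'.commutes]
  have hcond : (I.map (algebraMap A R₀)).map φ₀r ≤ I.map (algebraMap A (Ra b)) := by
    rw [Ideal.map_map]
    have : φ₀r.comp (algebraMap A R₀) = algebraMap A (Ra b) := RingHom.ext hφ₀rA
    rw [this]
  obtain ⟨φr, hφr, -⟩ := hB.2 (Ra b) (I.map (algebraMap A (Ra b))) φ₀r inferInstance hcond
  have hφrR : ∀ r : R₀, φr (algebraMap R₀ B r) = φ₀r r := fun r => RingHom.congr_fun hφr r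
  let φ : B →ₐ[A] Ra b :=
    { φr with
      commutes' := by
        intro α
        change φr (algebraMap A B α) = _
        rw [IsScalarTower.algebraMap_apply A R₀ B, hφrR, hφ₀rA] }
  refine ⟨b, φ, ?_⟩
  -- compare the two maps `B → L`
  let g₁ : B →+* DirectLimit Ra t := (DirectLimit.Ring.of Ra t b).comp φr
  let g₂ : B →+* DirectLimit Ra t := χ.toRingHom
  have hres : g₁.comp (algebraMap R₀ B) = g₂.comp (algebraMap R₀ B) := by
    have hcomp : (g₁.comp (algebraMap R₀ B)).comp f.toRingHom =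
        (g₂.comp (algebraMap R₀ B)).comp f.toRingHom := by
      apply MvPolynomial.ringHom_ext
      · intro α
        change DirectLimit.Ring.of Ra t b (φr (algebraMap R₀ B (f (MvPolynomial.C α)))) =
          χ (algebraMap R₀ B (f (MvPolynomial.C α)))
        rw [← MvPolynomial.algebraMap_eq (R := A) (σ := Fin n), f.commutes, hφrR, hφ₀rA,
          ← halg, ← IsScalarTower.algebraMap_apply A R₀ B, χ.commutes]
      · intro i
        change DirectLimit.Ring.of Ra t b (φr (algebraMap R₀ B (f (MvPolynomial.X i)))) =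
          Θ (MvPolynomial.X i)
        rw [hφrR, hφ₀rf, ← hy i]
        change DirectLimit.Ring.of Ra t b (MvPolynomial.aeval y' (MvPolynomial.X i)) = _
        rw [MvPolynomial.aeval_X]
        exact DirectLimit.Ring.of_f hab (y i)
    ext x
    obtain ⟨p, rfl⟩ := hf x
    exact RingHom.congr_fun hcomp p
  have hjac : (I.map (algebraMap A R₀)).map (g₁.comp (algebraMap R₀ B)) ≤ Ideal.jacobson ⊥ := by
    rw [Ideal.map_map]
    have : (g₁.comp (algebraMap R₀ B)).comp (algebraMap A R₀) =
        algebraMap A (DirectLimit Ra t) := by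
      ext α
      change DirectLimit.Ring.of Ra t b (φr (algebraMap R₀ B (algebraMap A R₀ α))) = _
      rw [hφrR, hφ₀rA, halg]
    rw [this]
    exact dl_map_le_jacobson Ra t I ht halg (fun c => HenselianRing.jac)
  have hg12 := ringHom_eq_of_isPairHenselization hB g₁ g₂ hres hjac
  intro x
  exact RingHom.congr_fun hg12 x

end Groth.Agent.Helper7.Hens
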