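import Mathlib
import Groth.Prelude.Def_EssEt
import Groth.Agent.Lib.Helper7.Hensel.FinEtaleIso
import Groth.Agent.Lib.Helper7.Hens.FinEtaleLift
import Groth.Agent.Lib.Helper7.HensQFLoc

/-! helper7: essentially etale local algebras over a complete (henselian) local ring are base changes of finite etale algebras over a henselian local ring with the same residue field. -/

set_option autoImplicit false
set_option linter.style.haveILetI false
set_option linter.unusedVariables false
set_option linter.unusedSectionVars false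

open TensorProduct IsLocalRing

namespace Groth.Agent.Helper7.EssEtComplete

open Groth.Agent.Helper7.Hensel

universe u

/-- A ring with a quotient by an ideal in the Jacobson radical which is local is local. -/
theorem isLocalRing_of_quotient {S : Type*} [CommRing S] (J : Ideal S)
    (hJ : J ≤ Ideal.jacobson ⊥) [IsLocalRing (S ⧸ J)] : IsLocalRing S := by
  haveI : Nontrivial S := by
    by_contra h
    rw [not_nontrivial_iff_subsingleton] at h
    have : Subsingleton (S ⧸ J) := Function.Surjective.subsingleton Ideal.Quotient.mk_surjective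
    exact not_subsingleton (S ⧸ J) this
  have hunit : ∀ a : S, IsUnit (Ideal.Quotient.mk J a) → IsUnit a := by
    intro a ha
    obtain ⟨b, hb⟩ := ha.exists_right_inv
    obtain ⟨b, rfl⟩ := Ideal.Quotient.mk_surjective b
    rw [← map_mul, ← map_one (Ideal.Quotient.mk J), Ideal.Quotient.eq] at hb
    have h1 := hJ hb
    rw [Ideal.mem_jacobson_bot] at h1
    have h2 := h1 1
    have h3 : (a * b - 1) * 1 + 1 = a * b := by ring
    rw [h3] at h2
    exact isUnit_of_mul_isUnit_left h2
  apply IsLocalRing.of_nonunits_add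
  intro a b ha hb
  have ha' : Ideal.Quotient.mk J a ∈ nonunits (S ⧸ J) := fun h => ha (hunit a h)
  have hb' : Ideal.Quotient.mk J b ∈ nonunits (S ⧸ J) := fun h => hb (hunit b h)
  have hab := IsLocalRing.nonunits_add ha' hb'
  intro h
  apply hab
  rw [← map_add]
  exact h.map _

section Main

variable (R A : Type u) [CommRing R] [HenselianLocalRing R] [CommRing A] [HenselianLocalRing A]
  [Algebra R A] [IsLocalHom (algebraMap R A)]

theorem maximalIdeal_le_comap : maximalIdeal R ≤ (maximalIdeal A).comap (algebraMap R A) := by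
  intro x hx
  rw [Ideal.mem_comap, mem_maximalIdeal, mem_nonunits_iff]
  intro hu
  exact (mem_maximalIdeal _).mp hx (isUnit_of_map_unit (algebraMap R A) x hu)

/-- A finite etale local algebra over a henselian local ring `A` is the base change of a finite
etale local algebra over any henselian local ring `R` mapping locally to `A` with the same residue
field. -/
theorem baseChange_of_finite_etale
    (hres : Function.Bijective (ResidueField.map (algebraMap R A)))
    (E' : Type u) [CommRing E'] [IsLocalRing E'] [Algebra A E'] [Module.Finite A E']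
    [Algebra.Etale A E'] :
    ∃ (S : Type u) (_ : CommRing S) (_ : IsLocalRing S) (_ : Algebra R S),
      Module.Finite R S ∧ Algebra.Etale R S ∧ Nonempty (E' ≃ₐ[A] A ⊗[R] S) := by
  have hle := maximalIdeal_le_comap R A
  let ρ : R ⧸ maximalIdeal R →+* A ⧸ maximalIdeal A :=
    Ideal.quotientMap (maximalIdeal A) (algebraMap R A) hle
  have hρfun : ∀ x, ρ x = ResidueField.map (algebraMap R A) x := by
    intro x
    obtain ⟨r, rfl⟩ := Ideal.Quotient.mk_surjective x
    rfl
  have hρ : Function.Bijective ρ := by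
    have : (ρ : R ⧸ maximalIdeal R → A ⧸ maximalIdeal A) =
        (ResidueField.map (algebraMap R A) : ResidueField R → ResidueField A) := funext hρfun
    rw [this]
    exact hres
  letI algk : Algebra (R ⧸ maximalIdeal R) (A ⧸ maximalIdeal A) := ρ.toAlgebra
  haveI tow1 : IsScalarTower R (R ⧸ maximalIdeal R) (A ⧸ maximalIdeal A) :=
    IsScalarTower.of_algebraMap_eq (fun r => rfl)
  haveI : Module.Finite (R ⧸ maximalIdeal R) (A ⧸ maximalIdeal A) :=
    Module.Finite.of_surjective (Algebra.linearMap (R ⧸ maximalIdeal R) (A ⧸ maximalIdeal A))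
      hρ.2
  let ρe : (R ⧸ maximalIdeal R) ≃ₐ[R ⧸ maximalIdeal R] (A ⧸ maximalIdeal A) :=
    AlgEquiv.ofBijective (Algebra.ofId _ _) hρ
  haveI : Algebra.Etale (R ⧸ maximalIdeal R) (A ⧸ maximalIdeal A) := Algebra.Etale.of_equiv ρe
  -- the closed fibre of `E'`
  let Ebar := (A ⧸ maximalIdeal A) ⊗[A] E'
  haveI : SMulCommClass A (R ⧸ maximalIdeal R) (A ⧸ maximalIdeal A) :=
    ⟨fun a r x => by
      obtain ⟨r, rfl⟩ := Ideal.Quotient.mk_surjective r
      obtain ⟨x, rfl⟩ := Ideal.Quotient.mk_surjective x
      show a • (ρ (Ideal.Quotient.mk _ r) * Ideal.Quotient.mk _ x) =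
        ρ (Ideal.Quotient.mk _ r) * (a • Ideal.Quotient.mk _ x)
      rw [Algebra.smul_def, Algebra.smul_def]; ring⟩
  letI algE : Algebra (R ⧸ maximalIdeal R) Ebar := inferInstance
  haveI tow2 : IsScalarTower (R ⧸ maximalIdeal R) (A ⧸ maximalIdeal A) Ebar := inferInstance
  haveI : Module.Finite (R ⧸ maximalIdeal R) Ebar := Module.Finite.trans (A ⧸ maximalIdeal A) Ebar
  haveI : Algebra.Etale (R ⧸ maximalIdeal R) Ebar :=
    Algebra.Etale.comp (R ⧸ maximalIdeal R) (A ⧸ maximalIdeal A) Ebar
  obtain ⟨S, _, _, hfin, het, ⟨θ⟩⟩ :=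
    Groth.Agent.Helper7.FinEtaleLift.S0532_main R (maximalIdeal R) Ebar
  haveI := hfin
  haveI := het
  -- `S` is local
  have hjacR : maximalIdeal R ≤ Ideal.jacobson ⊥ := by
    rw [IsLocalRing.jacobson_eq_maximalIdeal ⊥ bot_ne_top]
  have hlocS : IsLocalRing S := by
    have hne : (maximalIdeal A).map (algebraMap A E') ≠ ⊤ := by
      intro h
      have h1 : (maximalIdeal A).map (algebraMap A E') ≤ maximalIdeal E' :=
        map_maximalIdeal_le_maximalIdeal
      rw [h] at h1
      exact (maximalIdeal.isMaximal E').ne_top (top_le_iff.mp h1)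
    haveI : Nontrivial (E' ⧸ (maximalIdeal A).map (algebraMap A E')) :=
      Ideal.Quotient.nontrivial_iff.mpr hne
    haveI : IsLocalRing (E' ⧸ (maximalIdeal A).map (algebraMap A E')) :=
      IsLocalRing.of_surjective' (Ideal.Quotient.mk _) Ideal.Quotient.mk_surjective
    let e1 := Algebra.TensorProduct.quotIdealMapEquivQuotTensor (A := A) E' (maximalIdeal A)
    let e2 := Algebra.TensorProduct.quotIdealMapEquivQuotTensor (A := R) S (maximalIdeal R)
    let e3 : (E' ⧸ (maximalIdeal A).map (algebraMap A E')) ≃+*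
        (S ⧸ (maximalIdeal R).map (algebraMap R S)) :=
      e1.toRingEquiv.trans (θ.symm.toRingEquiv.trans e2.symm.toRingEquiv)
    haveI : Nontrivial (S ⧸ (maximalIdeal R).map (algebraMap R S)) := e3.symm.toEquiv.nontrivial
    haveI : IsLocalRing (S ⧸ (maximalIdeal R).map (algebraMap R S)) :=
      IsLocalRing.of_surjective' e3.toRingHom e3.surjective
    exact isLocalRing_of_quotient ((maximalIdeal R).map (algebraMap R S))
      (map_le_jacobson_of_isIntegral hjacR)
  refine ⟨S, inferInstance, hlocS, inferInstance, hfin, het, ?_⟩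
  have hsurjR : Function.Surjective (algebraMap R (A ⧸ maximalIdeal A)) := by
    intro x
    obtain ⟨y, rfl⟩ := hρ.2 x
    obtain ⟨r, rfl⟩ := Ideal.Quotient.mk_surjective y
    exact ⟨r, rfl⟩
  let c1 : (A ⧸ maximalIdeal A) ⊗[A] (A ⊗[R] S) ≃ₐ[A ⧸ maximalIdeal A]
      (A ⧸ maximalIdeal A) ⊗[R] S :=
    Algebra.TensorProduct.cancelBaseChange R A (A ⧸ maximalIdeal A) (A ⧸ maximalIdeal A) S
  let ρeR : (R ⧸ maximalIdeal R) ≃ₐ[R] (A ⧸ maximalIdeal A) := ρe.restrictScalars R
  let c2 : (A ⧸ maximalIdeal A) ⊗[R] S ≃ₐ[R] (R ⧸ maximalIdeal R) ⊗[R] S :=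
    Algebra.TensorProduct.congr ρeR.symm AlgEquiv.refl
  let c3 : (R ⧸ maximalIdeal R) ⊗[R] S ≃ₐ[R] Ebar := θ.restrictScalars R
  let ΨR : (A ⧸ maximalIdeal A) ⊗[A] (A ⊗[R] S) ≃ₐ[R] Ebar :=
    (c1.restrictScalars R).trans (c2.trans c3)
  let Ψ : (A ⧸ maximalIdeal A) ⊗[A] (A ⊗[R] S) ≃ₐ[A ⧸ maximalIdeal A] Ebar :=
    AlgEquiv.extendScalarsOfSurjective hsurjR ΨR
  exact (Gabber.of_henselianLocalRing A).nonempty_algEquiv_of_reduction E' (A ⊗[R] S) Ψ.symm

end Main

theorem main
    (R A E : Type u) [CommRing R] [HenselianLocalRing R] [IsNoetherianRing R]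
    [CommRing A] [IsLocalRing A] [IsNoetherianRing A] [IsAdicComplete (maximalIdeal A) A]
    [Algebra R A] [IsLocalHom (algebraMap R A)]
    (hres : Function.Bijective (ResidueField.map (algebraMap R A)))
    [CommRing E] [IsLocalRing E] [Algebra A E] [IsLocalHom (algebraMap A E)]
    (hE : EGA4loc.IsEssentiallyEtale A E) :
    ∃ (S : Type u) (_ : CommRing S) (_ : IsLocalRing S) (_ : Algebra R S),
      Module.Finite R S ∧ Algebra.Etale R S ∧ Nonempty (E ≃ₐ[A] A ⊗[R] S) := by
  haveI hA : HenselianLocalRing A := henselianLocalRing_of_henselianRing inferInstance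
  obtain ⟨C, _, _, q, hq, hCet, hcomap, ⟨e⟩⟩ := hE
  haveI := hq
  haveI := hCet
  have hlies : q.LiesOver (maximalIdeal A) := ⟨hcomap.symm⟩
  have hqf : Algebra.QuasiFiniteAt A q := inferInstance
  haveI hfin : Module.Finite A (Localization.AtPrime q) :=
    Groth.Agent.Helper7.HensQFLoc.finite_localization_of_henselian A C q hlies hqf
  haveI : Algebra.FormallyEtale C (Localization.AtPrime q) :=
    Algebra.FormallyEtale.of_isLocalization q.primeCompl
  haveI : Algebra.FormallyEtale A (Localization.AtPrime q) :=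
    Algebra.FormallyEtale.comp A C (Localization.AtPrime q)
  haveI : Algebra.FiniteType A (Localization.AtPrime q) := inferInstance
  haveI : Algebra.FinitePresentation A (Localization.AtPrime q) :=
    Algebra.FinitePresentation.of_finiteType.mp inferInstance
  haveI : Algebra.Etale A (Localization.AtPrime q) := { }
  obtain ⟨S, i1, i2, i3, h1, h2, ⟨e'⟩⟩ :=
    baseChange_of_finite_etale R A hres (Localization.AtPrime q)
  exact ⟨S, i1, i2, i3, h1, h2, ⟨e.trans e'⟩⟩

end Groth.Agent.Helper7.EssEtComplete
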