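import Mathlib
import Groth.Agent.Lib.Helper7.Hens.Quotient
import Groth.Agent.Lib.Helper7.Hens.Henselian
import Groth.Agent.Lib.Helper7.Hens.Structure
import Groth.Agent.Lib.Helper7.Hens.Desc

set_option linter.style.haveILetI false
set_option linter.unusedVariables false
set_option linter.unusedSectionVars false

/-! helper7: descent of elements and equalities from the tensor product with the pair henselization to stage tensors (etale neighbourhoods); eventually-true properties along the filtered system of neighbourhoods. -/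

open CategoryTheory TensorProduct

namespace Groth.Agent.Helper7.StageDesc

open Groth.Agent.Helper7.Hens

universe u

variable {A : Type u} [CommRing A] {I : Ideal A}

/-! ### Properties holding at all sufficiently late stages -/

/-- A property of stages under `U₀` which is stable under passing to later stages and which can
always be achieved by passing to a later stage. -/
structure Ev (U₀ : Nbhd A I) (Q : ∀ V : Nbhd A I, (U₀ ⟶ V) → Prop) : Prop where
  stable : ∀ {V W : Nbhd A I} (f : U₀ ⟶ V) (g : V ⟶ W), Q V f → Q W (f ≫ g)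
  ev : ∀ {V : Nbhd A I} (f : U₀ ⟶ V), ∃ (W : Nbhd A I) (g : V ⟶ W), Q W (f ≫ g)

theorem Ev.and {U₀ : Nbhd A I} {Q₁ Q₂ : ∀ V : Nbhd A I, (U₀ ⟶ V) → Prop}
    (h₁ : Ev U₀ Q₁) (h₂ : Ev U₀ Q₂) : Ev U₀ (fun V f => Q₁ V f ∧ Q₂ V f) := by
  refine ⟨fun f g h => ⟨h₁.stable f g h.1, h₂.stable f g h.2⟩, fun {V} f => ?_⟩
  obtain ⟨W₁, g₁, hg₁⟩ := h₁.ev f
  obtain ⟨W₂, g₂, hg₂⟩ := h₂.ev (f ≫ g₁)
  refine ⟨W₂, g₁ ≫ g₂, ?_, ?_⟩
  · rw [← Category.assoc]; exact h₁.stable _ g₂ hg₁
  · rw [← Category.assoc]; exact hg₂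

theorem Ev.true (U₀ : Nbhd A I) : Ev U₀ (fun _ _ => True) :=
  ⟨fun _ _ _ => trivial, fun {V} f => ⟨V, 𝟙 V, trivial⟩⟩

theorem Ev.forall_finset {U₀ : Nbhd A I} {ι : Type*} [DecidableEq ι]
    {Q : ι → ∀ V : Nbhd A I, (U₀ ⟶ V) → Prop}
    (h : ∀ i, Ev U₀ (Q i)) (s : Finset ι) : Ev U₀ (fun V f => ∀ i ∈ s, Q i V f) := by
  induction s using Finset.induction_on with
  | empty =>
    refine ⟨fun _ _ _ => by simp, fun {V} f => ⟨V, 𝟙 V, by simp⟩⟩
  | insert a s ha ih =>
    have := (h a).and ih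
    refine ⟨fun f g hq => ?_, fun {V} f => ?_⟩
    · have h2 := this.stable f g ⟨hq a (Finset.mem_insert_self a s),
        fun i hi => hq i (Finset.mem_insert_of_mem hi)⟩
      intro i hi
      rcases Finset.mem_insert.mp hi with rfl | hi
      · exact h2.1
      · exact h2.2 i hi
    · obtain ⟨W, g, hW⟩ := this.ev f
      refine ⟨W, g, fun i hi => ?_⟩
      rcases Finset.mem_insert.mp hi with rfl | hi
      · exact hW.1
      · exact hW.2 i hi

theorem Ev.exists {U₀ : Nbhd A I} {Q : ∀ V : Nbhd A I, (U₀ ⟶ V) → Prop} (h : Ev U₀ Q) :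
    ∃ (V : Nbhd A I) (f : U₀ ⟶ V), Q V f := by
  obtain ⟨W, g, hW⟩ := h.ev (𝟙 U₀)
  exact ⟨W, 𝟙 U₀ ≫ g, hW⟩

/-- Equalities in the colimit of finitely many pairs hold at a later stage. -/
theorem ev_eq {U₀ : Nbhd A I} (x y : U₀.Ring) (h : ι U₀ x = ι U₀ y) :
    Ev U₀ (fun V f => (f : Nbhd.Hom U₀ V).toAlgHom x = (f : Nbhd.Hom U₀ V).toAlgHom y) := by
  refine ⟨fun f g hq => ?_, fun {V} f => ?_⟩
  · simp only [Nbhd.comp_toAlgHom, AlgHom.comp_apply]; rw [hq]
  · have : ι V ((f : Nbhd.Hom U₀ V).toAlgHom x) = ι V ((f : Nbhd.Hom U₀ V).toAlgHom y) := by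
      rw [ι_hom, ι_hom, h]
    obtain ⟨Z, g, hg⟩ := exists_hom_eq_of_ι_eq _ _ this
    exact ⟨Z, g, by simpa only [Nbhd.comp_toAlgHom, AlgHom.comp_apply] using hg⟩

/-! ### Tensoring the stages with a fixed algebra -/

variable (B : Type u) [CommRing B] [Algebra A B]

/-- The map from the stage tensor to the tensor with the henselization. -/
noncomputable def φ (U : Nbhd A I) : U.Ring ⊗[A] B →ₐ[A] H A I ⊗[A] B :=
  Algebra.TensorProduct.map (ιAlg U) (AlgHom.id A B)

/-- The transition maps of the stage tensors. -/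
noncomputable def τ {U V : Nbhd A I} (f : U ⟶ V) : U.Ring ⊗[A] B →ₐ[A] V.Ring ⊗[A] B :=
  Algebra.TensorProduct.map (f : Nbhd.Hom U V).toAlgHom (AlgHom.id A B)

@[simp] theorem φ_tmul (U : Nbhd A I) (x : U.Ring) (b : B) : φ B U (x ⊗ₜ b) = ι U x ⊗ₜ b := rfl

@[simp] theorem τ_tmul {U V : Nbhd A I} (f : U ⟶ V) (x : U.Ring) (b : B) :
    τ B f (x ⊗ₜ b) = (f : Nbhd.Hom U V).toAlgHom x ⊗ₜ b := rfl

theorem φ_τ {U V : Nbhd A I} (f : U ⟶ V) (z : U.Ring ⊗[A] B) : φ B V (τ B f z) = φ B U z := by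
  induction z using TensorProduct.induction_on with
  | zero => simp
  | tmul x b => rw [τ_tmul, φ_tmul, φ_tmul, ι_hom]
  | add x y hx hy => rw [map_add, map_add, map_add, hx, hy]

theorem τ_comp {U V W : Nbhd A I} (f : U ⟶ V) (g : V ⟶ W) (z : U.Ring ⊗[A] B) :
    τ B (f ≫ g) z = τ B g (τ B f z) := by
  induction z using TensorProduct.induction_on with
  | zero => simp
  | tmul x b => simp only [τ_tmul, Nbhd.comp_toAlgHom, AlgHom.comp_apply]
  | add x y hx hy => rw [map_add, map_add, map_add, hx, hy]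

theorem τ_id {U : Nbhd A I} (z : U.Ring ⊗[A] B) : τ B (𝟙 U) z = z := by
  induction z using TensorProduct.induction_on with
  | zero => simp
  | tmul x b => simp only [τ_tmul, Nbhd.id_toAlgHom, AlgHom.id_apply]
  | add x y hx hy => rw [map_add, hx, hy]

theorem τ_algebraMap {U V : Nbhd A I} (f : U ⟶ V) (x : U.Ring) :
    τ B f (algebraMap U.Ring (U.Ring ⊗[A] B) x) =
      algebraMap V.Ring (V.Ring ⊗[A] B) ((f : Nbhd.Hom U V).toAlgHom x) := by
  rw [Algebra.TensorProduct.algebraMap_apply, Algebra.TensorProduct.algebraMap_apply]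
  rfl

theorem φ_algebraMap (U : Nbhd A I) (x : U.Ring) :
    φ B U (algebraMap U.Ring (U.Ring ⊗[A] B) x) =
      algebraMap (H A I) (H A I ⊗[A] B) (ι U x) := by
  rw [Algebra.TensorProduct.algebraMap_apply, Algebra.TensorProduct.algebraMap_apply]
  rfl

/-- Every element of the tensor with the henselization comes from a stage. -/
theorem exists_rep_tensor (z : H A I ⊗[A] B) :
    ∃ (U : Nbhd A I) (zU : U.Ring ⊗[A] B), φ B U zU = z := by
  induction z using TensorProduct.induction_on with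
  | zero => exact ⟨Nbhd.base A I, 0, map_zero _⟩
  | tmul h b =>
    obtain ⟨U, x, rfl⟩ := exists_rep h
    exact ⟨U, x ⊗ₜ b, rfl⟩
  | add x y hx hy =>
    obtain ⟨U, xU, rfl⟩ := hx
    obtain ⟨V, yV, rfl⟩ := hy
    obtain ⟨Z, f, g, -⟩ := Nbhd.exists_cocone_objs U V
    exact ⟨Z, τ B f xU + τ B g yV, by rw [map_add, φ_τ, φ_τ]⟩

/-- Every element of the tensor with the henselization comes from a stage above a given one. -/
theorem exists_rep_tensor_above (U₀ : Nbhd A I) (z : H A I ⊗[A] B) :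
    ∃ (U : Nbhd A I) (_ : U₀ ⟶ U) (zU : U.Ring ⊗[A] B), φ B U zU = z := by
  obtain ⟨U, zU, rfl⟩ := exists_rep_tensor B z
  obtain ⟨Z, f, g, -⟩ := Nbhd.exists_cocone_objs U₀ U
  exact ⟨Z, f, τ B g zU, φ_τ B g zU⟩

/-- An element of a stage tensor dying in the tensor with the henselization dies at a later
stage. -/
theorem exists_hom_eq_zero {U : Nbhd A I} (z : U.Ring ⊗[A] B) (hz : φ B U z = 0) :
    ∃ (V : Nbhd A I) (f : U ⟶ V), τ B f z = 0 := by
  classical
  obtain ⟨S, rfl⟩ := TensorProduct.exists_finset z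
  -- switch to the index type `S`
  let m : S → B := fun i => (i : U.Ring × B).2
  let uu : S → U.Ring := fun i => (i : U.Ring × B).1
  let n : S → H A I := fun i => ι U (uu i)
  have hsum : ∑ i, m i ⊗ₜ[A] n i = (0 : B ⊗[A] H A I) := by
    have h1 := congrArg (TensorProduct.comm A (H A I) B) hz
    rw [map_zero, map_sum, map_sum] at h1
    rw [← h1, ← Finset.sum_coe_sort S]
    refine Finset.sum_congr rfl (fun i _ => ?_)
    rw [φ_tmul, TensorProduct.comm_tmul]
  have hflat : Module.Flat A (H A I) := flat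
  have hinj : Function.Injective
      (LinearMap.rTensor (H A I) (Submodule.span A (Set.range m)).subtype) :=
    Module.Flat.rTensor_preserves_injective_linearMap _ (Submodule.injective_subtype _)
  obtain ⟨k, a, y, hy1, hy2⟩ :=
    TensorProduct.vanishesTrivially_of_sum_tmul_eq_zero_of_rTensor_injective A hinj hsum
  obtain ⟨V, f, yV, hyV⟩ := exists_rep_fin U y
  -- the equalities at stage `V`
  have hEv : Ev V (fun W g => ∀ i ∈ (Finset.univ : Finset S),
      (g : Nbhd.Hom V W).toAlgHom ((f : Nbhd.Hom U V).toAlgHom (uu i)) =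
        (g : Nbhd.Hom V W).toAlgHom (∑ j, a i j • yV j)) := by
    refine Ev.forall_finset (fun i => ev_eq _ _ ?_) _
    rw [ι_hom]
    change n i = _
    rw [hy1 i]
    change _ = ιAlg V _
    rw [map_sum]
    refine Finset.sum_congr rfl (fun j _ => ?_)
    rw [map_smul, ιAlg_apply, hyV]
  obtain ⟨W, g, hW⟩ := hEv.exists
  refine ⟨W, f ≫ g, ?_⟩
  have hvan : TensorProduct.VanishesTrivially A m
      (fun i => (g : Nbhd.Hom V W).toAlgHom ((f : Nbhd.Hom U V).toAlgHom (uu i))) := by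
    refine ⟨k, a, fun j => (g : Nbhd.Hom V W).toAlgHom (yV j), fun i => ?_, hy2⟩
    change (g : Nbhd.Hom V W).toAlgHom ((f : Nbhd.Hom U V).toAlgHom (uu i)) =
      ∑ j, a i j • (g : Nbhd.Hom V W).toAlgHom (yV j)
    rw [hW i (Finset.mem_univ i), map_sum]
    refine Finset.sum_congr rfl (fun j _ => ?_)
    rw [map_smul]
  have h0 := TensorProduct.sum_tmul_eq_zero_of_vanishesTrivially A hvan
  have h1 := congrArg (TensorProduct.comm A B W.Ring) h0
  rw [map_zero, map_sum] at h1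
  rw [map_sum, ← Finset.sum_coe_sort S, ← h1]
  refine Finset.sum_congr rfl (fun i _ => ?_)
  rw [TensorProduct.comm_tmul, τ_tmul]
  rfl

/-- Vanishing in the tensor with the henselization is achieved at all late stages. -/
theorem ev_eq_zero {U₀ : Nbhd A I} (z : U₀.Ring ⊗[A] B) (hz : φ B U₀ z = 0) :
    Ev U₀ (fun V f => τ B f z = 0) := by
  refine ⟨fun f g hq => by rw [τ_comp, hq, map_zero], fun {V} f => ?_⟩
  obtain ⟨W, g, hg⟩ := exists_hom_eq_zero B (τ B f z) (by rw [φ_τ, hz])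
  exact ⟨W, g, by rw [τ_comp, hg]⟩

/-- Elements of `I · (H ⊗ B)` come from elements of `I · (U ⊗ B)` at some stage. -/
theorem exists_rep_mem_map (x : H A I ⊗[A] B)
    (hx : x ∈ I.map (algebraMap A (H A I ⊗[A] B))) :
    ∃ (U : Nbhd A I) (xU : U.Ring ⊗[A] B), xU ∈ I.map (algebraMap A (U.Ring ⊗[A] B)) ∧
      φ B U xU = x := by
  refine Submodule.span_induction (p := fun x _ => ∃ (U : Nbhd A I) (xU : U.Ring ⊗[A] B),
      xU ∈ I.map (algebraMap A (U.Ring ⊗[A] B)) ∧ φ B U xU = x) ?_ ?_ ?_ ?_ hx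
  · rintro _ ⟨a, ha, rfl⟩
    exact ⟨Nbhd.base A I, algebraMap A _ a, Ideal.mem_map_of_mem _ ha, (φ B _).commutes a⟩
  · exact ⟨Nbhd.base A I, 0, zero_mem _, map_zero _⟩
  · rintro c d - - ⟨X, x, hx, rfl⟩ ⟨Y, y, hy, rfl⟩
    obtain ⟨Z, f, g, -⟩ := Nbhd.exists_cocone_objs X Y
    refine ⟨Z, τ B f x + τ B g y, add_mem (algHom_mem_map _ hx) (algHom_mem_map _ hy), ?_⟩
    rw [map_add, φ_τ, φ_τ]
  · rintro d c - ⟨X, x, hx, rfl⟩
    obtain ⟨Y, y, rfl⟩ := exists_rep_tensor B d
    obtain ⟨Z, f, g, -⟩ := Nbhd.exists_cocone_objs X Y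
    refine ⟨Z, τ B g y * τ B f x, Ideal.mul_mem_left _ _ (algHom_mem_map _ hx), ?_⟩
    rw [map_mul, φ_τ, φ_τ, smul_eq_mul]

end Groth.Agent.Helper7.StageDesc
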