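import Mathlib
import Groth.Agent.Lib.Helper7.Hens.StageDesc
import Groth.Agent.Lib.Helper7.Hens.HfpFinite

set_option linter.style.haveILetI false
set_option linter.unusedVariables false
set_option linter.unusedSectionVars false

/-! helper7: descent of an idempotent with integrality relations from the tensor with the pair henselization to a tight etale neighbourhood. -/

open CategoryTheory TensorProduct Polynomial

namespace Groth.Agent.Helper7.EtLocFinite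

open Groth.Agent.Helper7.Hens Groth.Agent.Helper7.StageDesc

universe u

variable {A : Type u} [CommRing A] {I : Ideal A} (B : Type u) [CommRing B] [Algebra A B]

/-- Monic polynomials over the henselization descend to a stage. -/
theorem exists_monic_map (V : Nbhd A I) (p : (H A I)[X]) (hp : p.Monic) :
    ∃ (W : Nbhd A I) (_ : V ⟶ W) (q : W.Ring[X]), q.Monic ∧ q.map (ι W) = p := by
  obtain ⟨W, g, x, hx⟩ := exists_rep_fin V (fun i : Fin (p.natDegree + 1) => p.coeff i)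
  have hl : p ∈ Polynomial.lifts (ι W) := by
    rw [Polynomial.lifts_iff_coeff_lifts]
    intro n
    by_cases hn : n < p.natDegree + 1
    · exact ⟨x ⟨n, hn⟩, hx ⟨n, hn⟩⟩
    · exact ⟨0, by rw [map_zero, Polynomial.coeff_eq_zero_of_natDegree_lt (by omega)]⟩
  obtain ⟨q, hq, -, hqm⟩ := Polynomial.lifts_and_natDegree_eq_and_monic hl hp
  exact ⟨W, g, q, hqm, hq⟩

theorem eval₂_τ {V W : Nbhd A I} (g : V ⟶ W) (q : V.Ring[X]) (b : B) :
    τ B g (q.eval₂ (algebraMap V.Ring (V.Ring ⊗[A] B)) (1 ⊗ₜ b)) =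
      (q.map ((g : Nbhd.Hom V W).toAlgHom : V.Ring →+* W.Ring)).eval₂
        (algebraMap W.Ring (W.Ring ⊗[A] B)) (1 ⊗ₜ b) := by
  rw [Polynomial.eval₂_map]
  have h1 := Polynomial.hom_eval₂ q (algebraMap V.Ring (V.Ring ⊗[A] B))
    ((τ B g : V.Ring ⊗[A] B →ₐ[A] W.Ring ⊗[A] B) : V.Ring ⊗[A] B →+* W.Ring ⊗[A] B) (1 ⊗ₜ b)
  have h2 : ((τ B g : V.Ring ⊗[A] B →ₐ[A] W.Ring ⊗[A] B) : V.Ring ⊗[A] B →+* W.Ring ⊗[A] B).comp
      (algebraMap V.Ring (V.Ring ⊗[A] B)) =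
      (algebraMap W.Ring (W.Ring ⊗[A] B)).comp
        ((g : Nbhd.Hom V W).toAlgHom : V.Ring →+* W.Ring) := by
    ext x
    exact τ_algebraMap B g x
  rw [h2] at h1
  have h3 : ((τ B g : V.Ring ⊗[A] B →ₐ[A] W.Ring ⊗[A] B) : V.Ring ⊗[A] B →+* W.Ring ⊗[A] B)
      (1 ⊗ₜ b) = 1 ⊗ₜ b := by
    change τ B g (1 ⊗ₜ b) = _
    rw [τ_tmul, map_one]
  rw [h3] at h1
  exact h1

theorem eval₂_φ (V : Nbhd A I) (q : V.Ring[X]) (b : B) :
    φ B V (q.eval₂ (algebraMap V.Ring (V.Ring ⊗[A] B)) (1 ⊗ₜ b)) =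
      (q.map (ι V)).eval₂ (algebraMap (H A I) (H A I ⊗[A] B)) (1 ⊗ₜ b) := by
  rw [Polynomial.eval₂_map]
  have h1 := Polynomial.hom_eval₂ q (algebraMap V.Ring (V.Ring ⊗[A] B))
    ((φ B V : V.Ring ⊗[A] B →ₐ[A] H A I ⊗[A] B) : V.Ring ⊗[A] B →+* H A I ⊗[A] B) (1 ⊗ₜ b)
  have h2 : ((φ B V : V.Ring ⊗[A] B →ₐ[A] H A I ⊗[A] B) : V.Ring ⊗[A] B →+* H A I ⊗[A] B).comp
      (algebraMap V.Ring (V.Ring ⊗[A] B)) =
      (algebraMap (H A I) (H A I ⊗[A] B)).comp (ι V) := by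
    ext x
    exact φ_algebraMap B V x
  rw [h2] at h1
  have h3 : ((φ B V : V.Ring ⊗[A] B →ₐ[A] H A I ⊗[A] B) : V.Ring ⊗[A] B →+* H A I ⊗[A] B)
      (1 ⊗ₜ b) = 1 ⊗ₜ b := by
    change φ B V (1 ⊗ₜ b) = _
    rw [φ_tmul, map_one]
  rw [h3] at h1
  exact h1

/-- `1 ⊗ b` is integral over the stage ring modulo `1 - e`. -/
def IntAt (V : Nbhd A I) (e : V.Ring ⊗[A] B) (b : B) : Prop :=
  ∃ (p : V.Ring[X]) (w : V.Ring ⊗[A] B), p.Monic ∧
    p.eval₂ (algebraMap V.Ring (V.Ring ⊗[A] B)) (1 ⊗ₜ b) = (1 - e) * w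

variable {B}

theorem IntAt.map {V W : Nbhd A I} (g : V ⟶ W) {e : V.Ring ⊗[A] B} {b : B}
    (h : IntAt B V e b) : IntAt B W (τ B g e) b := by
  obtain ⟨p, w, hp, hpw⟩ := h
  refine ⟨p.map ((g : Nbhd.Hom V W).toAlgHom : V.Ring →+* W.Ring), τ B g w, hp.map _, ?_⟩
  rw [← eval₂_τ, hpw, map_mul, map_sub, map_one]

/-- Descent of the idempotent and of the integrality relations to a tight stage. -/
theorem exists_stage (s : Finset B) (e : H A I ⊗[A] B) (he : IsIdempotentElem e)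
    (heI : 1 - e ∈ I.map (algebraMap A (H A I ⊗[A] B)))
    (hint : ∀ b ∈ s, ∃ (p : (H A I)[X]) (w : H A I ⊗[A] B), p.Monic ∧
      p.eval₂ (algebraMap (H A I) (H A I ⊗[A] B)) (1 ⊗ₜ b) = (1 - e) * w) :
    ∃ (Y : Nbhd A I) (eY : Y.Ring ⊗[A] B),
      (∀ y : Y.Ring, Y.sec y = 0 → y ∈ I.map (algebraMap A Y.Ring)) ∧
      IsIdempotentElem eY ∧ 1 - eY ∈ I.map (algebraMap A (Y.Ring ⊗[A] B)) ∧
      ∀ b ∈ s, IntAt B Y eY b := by
  classical
  obtain ⟨U₀, e₀, he₀⟩ := exists_rep_tensor B e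
  have hφ : ∀ {V : Nbhd A I} (f : U₀ ⟶ V), φ B V (τ B f e₀) = e := fun f => by rw [φ_τ, he₀]
  -- idempotency
  have Q1 : Ev U₀ (fun V f => IsIdempotentElem (τ B f e₀)) := by
    have := ev_eq_zero B (e₀ * e₀ - e₀) (by rw [map_sub, map_mul, he₀, he.eq, sub_self])
    refine ⟨fun f g hq => ?_, fun {V} f => ?_⟩
    · rw [τ_comp]; exact hq.map _
    · obtain ⟨W, g, hW⟩ := this.ev f
      refine ⟨W, g, ?_⟩
      rw [map_sub, map_mul, sub_eq_zero] at hW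
      exact hW
  -- `1 - e ∈ I`
  have Q2 : Ev U₀ (fun V f => 1 - τ B f e₀ ∈ I.map (algebraMap A (V.Ring ⊗[A] B))) := by
    refine ⟨fun f g hq => ?_, fun {V} f => ?_⟩
    · have := algHom_mem_map (I := I) (τ B g) hq
      rw [map_sub, map_one, ← τ_comp] at this
      exact this
    · obtain ⟨X, x, hx, hxe⟩ := exists_rep_mem_map B (1 - e) heI
      obtain ⟨Z, g, h, -⟩ := Nbhd.exists_cocone_objs V X
      have hz : φ B Z (1 - τ B (f ≫ g) e₀ - τ B h x) = 0 := by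
        rw [map_sub, map_sub, map_one, hφ, φ_τ, hxe, sub_self]
      obtain ⟨W, k, hk⟩ := exists_hom_eq_zero B _ hz
      refine ⟨W, g ≫ k, ?_⟩
      rw [map_sub, map_sub, map_one, sub_eq_zero, ← τ_comp, Category.assoc] at hk
      rw [hk]
      exact algHom_mem_map _ (algHom_mem_map _ hx)
  -- integrality
  have Q3 : ∀ b : s, Ev U₀ (fun V f => IntAt B V (τ B f e₀) (b : B)) := by
    intro b
    refine ⟨fun f g hq => ?_, fun {V} f => ?_⟩
    · rw [τ_comp]; exact hq.map g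
    · obtain ⟨p, w, hp, hpw⟩ := hint b b.2
      obtain ⟨W₁, g₁, q, hq, hqp⟩ := exists_monic_map V p hp
      obtain ⟨W₂, g₂, w₂, hw₂⟩ := exists_rep_tensor_above B W₁ w
      let q₂ : W₂.Ring[X] := q.map ((g₂ : Nbhd.Hom W₁ W₂).toAlgHom : W₁.Ring →+* W₂.Ring)
      have hq₂ : q₂.map (ι W₂) = p := by
        rw [Polynomial.map_map, ← hqp]
        congr 1
        ext x
        exact ι_hom g₂ x
      have hz : φ B W₂ (q₂.eval₂ (algebraMap W₂.Ring (W₂.Ring ⊗[A] B)) (1 ⊗ₜ (b : B)) -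
          (1 - τ B ((f ≫ g₁) ≫ g₂) e₀) * w₂) = 0 := by
        rw [map_sub, eval₂_φ, hq₂, hpw, map_mul, map_sub, map_one, hφ, hw₂, sub_self]
      obtain ⟨W₃, g₃, hg₃⟩ := exists_hom_eq_zero B _ hz
      refine ⟨W₃, (g₁ ≫ g₂) ≫ g₃, ?_⟩
      refine ⟨q₂.map ((g₃ : Nbhd.Hom W₂ W₃).toAlgHom : W₂.Ring →+* W₃.Ring), τ B g₃ w₂,
        (hq.map _).map _, ?_⟩
      rw [map_sub, sub_eq_zero, eval₂_τ, map_mul, map_sub, map_one, ← τ_comp] at hg₃
      rw [hg₃]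
      simp only [Category.assoc]
  have Q3' := Ev.forall_finset Q3 Finset.univ
  obtain ⟨V, f, ⟨h1, h2⟩, h3⟩ := ((Q1.and Q2).and Q3').exists
  obtain ⟨Y, g, hY⟩ := exists_tight V
  refine ⟨Y, τ B (f ≫ g) e₀, hY, Q1.stable f g h1, Q2.stable f g h2, fun b hb => ?_⟩
  exact (Q3 ⟨b, hb⟩).stable f g (h3 ⟨b, hb⟩ (Finset.mem_univ _))

end Groth.Agent.Helper7.EtLocFinite
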