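import Mathlib
import Groth.Agent.Lib.Helper7.Hens.EtLocFinite
import Groth.Agent.Lib.Helper7.Hens.Universal

set_option linter.style.haveILetI false
set_option linter.unusedVariables false
set_option linter.unusedSectionVars false

/-! helper7: etale-local finite part of a finite type algebra whose reduction modulo an ideal is finite (general pair, via the pair henselization and descent to a tight etale neighbourhood). -/

open CategoryTheory TensorProduct Polynomial

namespace Groth.Agent.Helper7.EtLocFinite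

open Groth.Agent.Helper7.Hens Groth.Agent.Helper7.StageDesc

universe u

variable {A : Type u} [CommRing A] {I : Ideal A} {B : Type u} [CommRing B] [Algebra A B]

/-- A quotient of a base change `R ⊗ B` of a finite type algebra in which the images of the
generators of `B` are integral over `R` is finite over `R`. -/
theorem finite_quotient_of_isIntegral (R : Type u) [CommRing R] [Algebra A R]
    [Algebra.FiniteType A B] (J : Ideal (R ⊗[A] B)) (s : Set B) (hs : Algebra.adjoin A s = ⊤)
    (h : ∀ b ∈ s, IsIntegral R (Ideal.Quotient.mk J ((1 : R) ⊗ₜ[A] b))) :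
    Module.Finite R ((R ⊗[A] B) ⧸ J) := by
  let C := (R ⊗[A] B) ⧸ J
  let ψ : B →ₐ[A] C := (Ideal.Quotient.mkₐ A J).comp Algebra.TensorProduct.includeRight
  have hψ : ∀ b, ψ b = Ideal.Quotient.mk J ((1 : R) ⊗ₜ[A] b) := fun b => rfl
  have h1 : ∀ b : B, IsIntegral R (ψ b) := by
    intro b
    have hle : Algebra.adjoin A s ≤
        ((integralClosure R C).restrictScalars A).comap ψ := by
      refine Algebra.adjoin_le (fun b hb => ?_)
      change ψ b ∈ integralClosure R C
      rw [hψ]
      exact h b hb
    have : b ∈ Algebra.adjoin A s := by rw [hs]; trivial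
    exact hle this
  have h2 : Algebra.IsIntegral R C := by
    refine ⟨fun c => ?_⟩
    obtain ⟨z, rfl⟩ := Ideal.Quotient.mk_surjective c
    induction z using TensorProduct.induction_on with
    | zero => rw [map_zero]; exact isIntegral_zero
    | tmul y b =>
      have : y ⊗ₜ[A] b = y • ((1 : R) ⊗ₜ[A] b) := by
        rw [TensorProduct.smul_tmul', smul_eq_mul, mul_one]
      rw [this]
      have h3 : Ideal.Quotient.mk J (y • ((1 : R) ⊗ₜ[A] b)) = y • ψ b := rfl
      rw [h3]
      exact (h1 b).smul y
    | add x y hx hy => rw [map_add]; exact hx.add hy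
  exact Algebra.IsIntegral.finite

/-- The finiteness hypothesis passes to the henselization. -/
theorem finite_quotient_H (I : Ideal A) [Algebra.FiniteType A B]
    (hfin : Module.Finite A (B ⧸ Ideal.map (algebraMap A B) I)) :
    Module.Finite (H A I) ((H A I ⊗[A] B) ⧸
      (I.map (algebraMap A (H A I))).map (algebraMap (H A I) (H A I ⊗[A] B))) := by
  refine finite_quotient_of_isIntegral (H A I) _ Set.univ (by simp) (fun b _ => ?_)
  let J : Ideal (H A I ⊗[A] B) :=
    (I.map (algebraMap A (H A I))).map (algebraMap (H A I) (H A I ⊗[A] B))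
  have hIJ : Ideal.map (algebraMap A B) I ≤
      J.comap (Algebra.TensorProduct.includeRight : B →ₐ[A] H A I ⊗[A] B) := by
    rw [← Ideal.map_le_iff_le_comap]
    change Ideal.map (Algebra.TensorProduct.includeRight : B →ₐ[A] H A I ⊗[A] B).toRingHom _ ≤ _
    have h0 : (Algebra.TensorProduct.includeRight : B →ₐ[A] H A I ⊗[A] B).toRingHom.comp
        (algebraMap A B) = algebraMap A (H A I ⊗[A] B) :=
      (Algebra.TensorProduct.includeRight : B →ₐ[A] H A I ⊗[A] B).comp_algebraMap
    rw [Ideal.map_map, h0]
    change _ ≤ (I.map (algebraMap A (H A I))).map (algebraMap (H A I) (H A I ⊗[A] B))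
    rw [Ideal.map_map, ← IsScalarTower.algebraMap_eq]
  let θ : (B ⧸ Ideal.map (algebraMap A B) I) →ₐ[A] (H A I ⊗[A] B) ⧸ J :=
    Ideal.quotientMapₐ J Algebra.TensorProduct.includeRight hIJ
  have h1 : IsIntegral A (Ideal.Quotient.mk (Ideal.map (algebraMap A B) I) b) :=
    IsIntegral.of_finite A _
  have h2 := h1.map θ
  have h3 : θ (Ideal.Quotient.mk (Ideal.map (algebraMap A B) I) b) =
      Ideal.Quotient.mk J ((1 : H A I) ⊗ₜ[A] b) := rfl
  rw [h3] at h2
  exact h2.tower_top

/-- The idempotent over the henselization, with the integrality relations. -/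
theorem exists_idempotent_H (I : Ideal A) [Algebra.FiniteType A B]
    (hfin : Module.Finite A (B ⧸ Ideal.map (algebraMap A B) I)) :
    ∃ e : H A I ⊗[A] B, IsIdempotentElem e ∧
      1 - e ∈ I.map (algebraMap A (H A I ⊗[A] B)) ∧
      ∀ b : B, ∃ (p : (H A I)[X]) (w : H A I ⊗[A] B), p.Monic ∧
        p.eval₂ (algebraMap (H A I) (H A I ⊗[A] B)) (1 ⊗ₜ b) = (1 - e) * w := by
  have hf := finite_quotient_H I hfin
  obtain ⟨e, he, heI, hfe⟩ := Groth.Agent.Helper7.HfpFinite.exists_idempotent_finite
    (A := H A I) (I := I.map (algebraMap A (H A I))) (E := H A I ⊗[A] B) gabber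
  refine ⟨e, he, ?_, fun b => ?_⟩
  · rw [Ideal.map_map, ← IsScalarTower.algebraMap_eq] at heI
    exact heI
  · have h1 : IsIntegral (H A I) (Ideal.Quotient.mk (Ideal.span {1 - e}) ((1 : H A I) ⊗ₜ[A] b)) :=
      IsIntegral.of_finite _ _
    obtain ⟨p, hp, hpe⟩ := h1
    have h2 := Polynomial.hom_eval₂ p (algebraMap (H A I) (H A I ⊗[A] B))
      (Ideal.Quotient.mk (Ideal.span {1 - e})) ((1 : H A I) ⊗ₜ[A] b)
    have h3 : (Ideal.Quotient.mk (Ideal.span {1 - e})).comp
        (algebraMap (H A I) (H A I ⊗[A] B)) =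
        algebraMap (H A I) ((H A I ⊗[A] B) ⧸ Ideal.span {1 - e}) := rfl
    rw [h3, hpe, Ideal.Quotient.eq_zero_iff_mem, Ideal.mem_span_singleton'] at h2
    obtain ⟨w, hw⟩ := h2
    exact ⟨p, w, hp, by rw [← hw, mul_comm]⟩

/-- **Étale-local finite part.** -/
theorem main (A : Type u) [CommRing A] (I : Ideal A) (B : Type u) [CommRing B] [Algebra A B]
    [Algebra.FiniteType A B]
    (hfin : Module.Finite A (B ⧸ Ideal.map (algebraMap A B) I)) :
    ∃ (A' : Type u) (_ : CommRing A') (_ : Algebra A A') (_ : Algebra.Etale A A')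
      (C : Type u) (_ : CommRing C) (_ : Algebra A C) (_ : Algebra A' C) (_ : Algebra B C)
      (_ : IsScalarTower A A' C) (_ : IsScalarTower A B C),
      Function.Surjective ((Ideal.Quotient.mk (Ideal.map (algebraMap A A') I)).comp
        (algebraMap A A')) ∧
      RingHom.ker ((Ideal.Quotient.mk (Ideal.map (algebraMap A A') I)).comp
        (algebraMap A A')) = I ∧
      Algebra.Etale B C ∧ Module.Finite A' C ∧
      Function.Surjective ((Ideal.Quotient.mk (Ideal.map (algebraMap A C) I)).comp
        (algebraMap B C)) ∧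
      RingHom.ker ((Ideal.Quotient.mk (Ideal.map (algebraMap A C) I)).comp (algebraMap B C)) =
        Ideal.map (algebraMap A B) I := by
  classical
  obtain ⟨e, he, heI, hint⟩ := exists_idempotent_H I hfin
  obtain ⟨s, hs⟩ := (inferInstance : Algebra.FiniteType A B).out
  obtain ⟨Y, eY, hY, heY, heYI, hintY⟩ := exists_stage s e he heI (fun b _ => hint b)
  have hbij := bijective_of_tight Y hY
  let E := Y.Ring ⊗[A] B
  let J : Ideal E := Ideal.span {1 - eY}
  let C := E ⧸ J
  letI algBE : Algebra B E := Algebra.TensorProduct.rightAlgebra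
  letI algBC : Algebra B C := inferInstance
  have hBC : ∀ b : B, algebraMap B C b = Ideal.Quotient.mk J ((1 : Y.Ring) ⊗ₜ[A] b) := fun b => rfl
  have towerBEC : IsScalarTower B E C := inferInstance
  have towerABC : IsScalarTower A B C := by
    apply IsScalarTower.of_algebraMap_eq (R := A) (S := B) (A := C)
    intro a
    rw [hBC]
    change Ideal.Quotient.mk J (algebraMap A E a) = _
    congr 1
    change algebraMap A (Y.Ring ⊗[A] B) a = _
    rw [Algebra.TensorProduct.algebraMap_apply, Algebra.algebraMap_eq_smul_one,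
      Algebra.algebraMap_eq_smul_one (R := A) (A := B) a, TensorProduct.smul_tmul]
  -- the ideals
  have hJI : J ≤ I.map (algebraMap A E) := by
    change Ideal.span {1 - eY} ≤ _
    rw [Ideal.span_le, Set.singleton_subset_iff]
    exact heYI
  have hIC : I.map (algebraMap A C) = (I.map (algebraMap A E)).map (Ideal.Quotient.mk J) := by
    rw [Ideal.map_map]; rfl
  refine ⟨Y.Ring, inferInstance, inferInstance, inferInstance, C, inferInstance, inferInstance,
    inferInstance, algBC, inferInstance, towerABC, ?_, ?_, ?_, ?_, ?_, ?_⟩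
  · -- surjectivity of `A → A'/IA'`
    intro y
    obtain ⟨x, rfl⟩ := hbij.2 y
    obtain ⟨a, rfl⟩ := Ideal.Quotient.mk_surjective x
    exact ⟨a, rfl⟩
  · -- kernel
    ext a
    rw [RingHom.mem_ker]
    change Ideal.quotientMap (I.map (algebraMap A Y.Ring)) (algebraMap A Y.Ring)
      Ideal.le_comap_map (Ideal.Quotient.mk I a) = 0 ↔ _
    rw [← Ideal.Quotient.eq_zero_iff_mem]
    constructor
    · intro h
      apply hbij.1
      rw [h, map_zero]
    · intro h
      rw [h, map_zero]
  · -- étale
    have h1 : Algebra.Etale B E :=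
      Algebra.Etale.of_equiv (Algebra.TensorProduct.commRight A B Y.Ring)
    haveI : IsLocalization.Away eY C := IsLocalization.Away.quotient_of_isIdempotentElem heY
    have h2 : Algebra.Etale E C := Algebra.Etale.of_isLocalizationAway eY
    exact Algebra.Etale.comp B E C
  · -- finite
    refine finite_quotient_of_isIntegral Y.Ring J (s : Set B) hs (fun b hb => ?_)
    obtain ⟨p, w, hp, hpw⟩ := hintY b hb
    refine ⟨p, hp, ?_⟩
    have h2 := Polynomial.hom_eval₂ p (algebraMap Y.Ring E) (Ideal.Quotient.mk J)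
      ((1 : Y.Ring) ⊗ₜ[A] b)
    have h3 : (Ideal.Quotient.mk J).comp (algebraMap Y.Ring E) = algebraMap Y.Ring C := rfl
    rw [h3] at h2
    rw [← h2, hpw, Ideal.Quotient.eq_zero_iff_mem]
    exact Ideal.mul_mem_right _ _ (Ideal.subset_span rfl)
  · -- surjectivity of `B → C/IC`
    intro c
    obtain ⟨c, rfl⟩ := Ideal.Quotient.mk_surjective c
    obtain ⟨z, rfl⟩ := Ideal.Quotient.mk_surjective c
    induction z using TensorProduct.induction_on with
    | zero => exact ⟨0, by simp⟩
    | tmul y b =>
      obtain ⟨x, hx⟩ := hbij.2 (Ideal.Quotient.mk _ y)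
      obtain ⟨a, rfl⟩ := Ideal.Quotient.mk_surjective x
      rw [Ideal.quotientMap_mk, Ideal.Quotient.eq] at hx
      refine ⟨a • b, ?_⟩
      rw [RingHom.comp_apply, hBC, Ideal.Quotient.eq, hIC]
      have h4 : Ideal.Quotient.mk J ((1 : Y.Ring) ⊗ₜ[A] (a • b)) - Ideal.Quotient.mk J (y ⊗ₜ[A] b)
          = Ideal.Quotient.mk J
            (algebraMap Y.Ring E (algebraMap A Y.Ring a - y) * ((1 : Y.Ring) ⊗ₜ[A] b)) := by
        rw [← map_sub]
        congr 1
        rw [Algebra.TensorProduct.algebraMap_apply, Algebra.algebraMap_self_apply,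
          Algebra.TensorProduct.tmul_mul_tmul,
          mul_one, one_mul, TensorProduct.sub_tmul, Algebra.algebraMap_eq_smul_one,
          TensorProduct.smul_tmul]
      rw [h4]
      refine Ideal.mem_map_of_mem _ (Ideal.mul_mem_right _ _ ?_)
      have h5 := Ideal.mem_map_of_mem (algebraMap Y.Ring E) hx
      rw [Ideal.map_map, ← IsScalarTower.algebraMap_eq] at h5
      exact h5
    | add x y hx hy =>
      obtain ⟨b₁, hb₁⟩ := hx
      obtain ⟨b₂, hb₂⟩ := hy
      exact ⟨b₁ + b₂, by rw [map_add, hb₁, hb₂, map_add, map_add]⟩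
  · -- kernel of `B → C/IC`
    apply le_antisymm
    · intro b hb
      rw [RingHom.mem_ker, RingHom.comp_apply, Ideal.Quotient.eq_zero_iff_mem, hIC, hBC] at hb
      obtain ⟨x, hx, hxb⟩ := (Ideal.mem_map_iff_of_surjective _ Ideal.Quotient.mk_surjective).mp hb
      rw [Ideal.Quotient.eq] at hxb
      have h1 : (1 : Y.Ring) ⊗ₜ[A] b ∈ I.map (algebraMap A E) := by
        have := sub_mem hx (hJI hxb)
        rw [sub_sub_cancel] at this
        exact this
      let σ : E →ₐ[A] B ⧸ Ideal.map (algebraMap A B) I :=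
        Algebra.TensorProduct.productMap
          ((quotMap (Ideal.map (algebraMap A B) I) le_rfl).comp Y.sec)
          (Ideal.Quotient.mkₐ A _)
      have h2 := algHom_mem_map (I := I) σ h1
      have h3 : I.map (algebraMap A (B ⧸ Ideal.map (algebraMap A B) I)) = ⊥ := by
        rw [IsScalarTower.algebraMap_eq A B (B ⧸ Ideal.map (algebraMap A B) I), ← Ideal.map_map,
          Ideal.Quotient.algebraMap_eq, Ideal.map_quotient_self]
      rw [h3, Ideal.mem_bot] at h2
      have h4 : σ ((1 : Y.Ring) ⊗ₜ[A] b) = Ideal.Quotient.mk _ b := by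
        change Algebra.TensorProduct.productMap _ _ _ = _
        rw [Algebra.TensorProduct.productMap_apply_tmul, map_one, one_mul]
        rfl
      rw [h4, Ideal.Quotient.eq_zero_iff_mem] at h2
      exact h2
    · rw [Ideal.map_le_iff_le_comap]
      intro a ha
      rw [Ideal.mem_comap, RingHom.mem_ker, RingHom.comp_apply,
        ← IsScalarTower.algebraMap_apply A B C, Ideal.Quotient.eq_zero_iff_mem]
      exact Ideal.mem_map_of_mem _ ha

end Groth.Agent.Helper7.EtLocFinite
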