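import Mathlib
import Groth.Agent.Lib.Helper7.Hens.Abstract
import Groth.Agent.Lib.Helper7.Hens.Unique

set_option linter.style.haveILetI false
set_option linter.unusedVariables false
set_option linter.unusedSectionVars false

/-! helper7: exactness over a henselian pair is detected on the pair henselizations of the localizations at primes containing the ideal. -/

open TensorProduct

namespace Groth.Agent.Helper7.ExactLocal

open Groth.Agent.Helper7.Hens

universe u

/-- A pair henselization of the localization at a prime containing `I` does not become trivial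
modulo that prime. -/
theorem map_ne_top (A : Type u) [CommRing A] (I : Ideal A) (p : Ideal A) [p.IsPrime] (hIp : I ≤ p)
    (H : Type u) [CommRing H] [Algebra (Localization.AtPrime p) H] [Algebra A H]
    [IsScalarTower A (Localization.AtPrime p) H]
    (hH : Hens2.IsPairHenselization (Localization.AtPrime p)
      (I.map (algebraMap A (Localization.AtPrime p))) H) :
    p.map (algebraMap A H) ≠ ⊤ := by
  intro htop
  set Ap := Localization.AtPrime p
  set IA : Ideal Ap := I.map (algebraMap A Ap) with hIA
  have hIAle : IA ≤ IsLocalRing.maximalIdeal Ap := by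
    rw [hIA, Ideal.map_le_iff_le_comap]
    intro a ha
    rw [Ideal.mem_comap, ← Localization.AtPrime.map_eq_maximalIdeal]
    exact Ideal.mem_map_of_mem _ (hIp ha)
  have hbij := quotient_bijective_of_isPairHenselization hH
  let e : (Ap ⧸ IA) ≃+* (H ⧸ IA.map (algebraMap Ap H)) := RingEquiv.ofBijective _ hbij
  let ρ : H →+* IsLocalRing.ResidueField Ap :=
    ((Ideal.Quotient.factor hIAle).comp e.symm.toRingHom).comp
      (Ideal.Quotient.mk (IA.map (algebraMap Ap H)))
  have hρ : ∀ x : Ap, ρ (algebraMap Ap H x) = IsLocalRing.residue Ap x := by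
    intro x
    change (Ideal.Quotient.factor hIAle) (e.symm (Ideal.Quotient.mk _ (algebraMap Ap H x))) = _
    have : Ideal.Quotient.mk (IA.map (algebraMap Ap H)) (algebraMap Ap H x) =
        e (Ideal.Quotient.mk IA x) := rfl
    rw [this, e.symm_apply_apply]
    rfl
  have h1 : (p.map (algebraMap A H)).map ρ = ⊥ := by
    rw [Ideal.map_map, eq_bot_iff, Ideal.map_le_iff_le_comap]
    intro a ha
    rw [Ideal.mem_comap, Ideal.mem_bot, RingHom.comp_apply,
      IsScalarTower.algebraMap_apply A Ap H, hρ, IsLocalRing.residue_eq_zero_iff,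
      ← Localization.AtPrime.map_eq_maximalIdeal]
    exact Ideal.mem_map_of_mem _ ha
  rw [htop] at h1
  have h2 : (1 : IsLocalRing.ResidueField Ap) ∈ (⊤ : Ideal H).map ρ := by
    rw [← map_one ρ]
    exact Ideal.mem_map_of_mem _ Submodule.mem_top
  rw [h1, Ideal.mem_bot] at h2
  exact one_ne_zero h2

/-- Exactness of a complex of modules over a henselian pair can be tested on the henselizations of
the localizations at the primes containing the ideal. -/
theorem S17617_main (A : Type u) [CommRing A]
    (I : Ideal A) [HenselianRing A I]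
    (M' M M'' : Type u) [AddCommGroup M'] [Module A M'] [AddCommGroup M] [Module A M]
    [AddCommGroup M''] [Module A M''] (f : M' →ₗ[A] M) (g : M →ₗ[A] M'') (hfg : g.comp f = 0) :
    Function.Exact f g ↔
    ∀ (p : Ideal A) [p.IsPrime], I ≤ p →
      ∀ (H : Type u) [CommRing H] [Algebra (Localization.AtPrime p) H] [Algebra A H]
        [IsScalarTower A (Localization.AtPrime p) H],
        Hens2.IsPairHenselization (Localization.AtPrime p)
          (I.map (algebraMap A (Localization.AtPrime p))) H →
        Function.Exact (f.baseChange H) (g.baseChange H) := by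
  constructor
  · intro hex p _ hIp H _ _ _ _ hH
    have h1 : Module.Flat (Localization.AtPrime p) H := flat_of_isPairHenselization hH
    have h2 : Module.Flat A H := Module.Flat.trans A (Localization.AtPrime p) H
    have h3 := Module.Flat.lTensor_exact H hex
    intro y
    exact h3 y
  · intro hloc x
    constructor
    swap
    · rintro ⟨y, rfl⟩
      exact LinearMap.congr_fun hfg y
    intro hx
    -- the quotient and the annihilator of the class of `x`
    let Q := M ⧸ LinearMap.range f
    let π : M →ₗ[A] Q := (LinearMap.range f).mkQ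
    let t : A →ₗ[A] Q := LinearMap.toSpanSingleton A Q (π x)
    let 𝔞 : Ideal A := LinearMap.ker t
    by_cases h𝔞 : 𝔞 = ⊤
    · have h1 : (1 : A) ∈ 𝔞 := by rw [h𝔞]; trivial
      have h2 : t 1 = 0 := h1
      have h3 : π x = 0 := by
        have : t 1 = π x := by
          change (1 : A) • π x = π x
          rw [one_smul]
        rw [← this, h2]
      exact (Submodule.Quotient.mk_eq_zero _).mp h3
    exfalso
    obtain ⟨m, hm, h𝔞m⟩ := Ideal.exists_le_maximal 𝔞 h𝔞
    have hIm : I ≤ m := by
      refine le_trans (HenselianRing.jac (R := A) (I := I)) ?_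
      rw [Ideal.jacobson]
      exact sInf_le ⟨bot_le, hm⟩
    haveI : m.IsPrime := hm.isPrime
    let Ap := Localization.AtPrime m
    let H := Hens.H Ap (I.map (algebraMap A Ap))
    letI algAH : Algebra A H := ((algebraMap Ap H).comp (algebraMap A Ap)).toAlgebra
    haveI : IsScalarTower A Ap H := IsScalarTower.of_algebraMap_eq (fun _ => rfl)
    have hH : Hens2.IsPairHenselization Ap (I.map (algebraMap A Ap)) H := isPairHenselization_H _ _
    have hexH := hloc m hIm H hH
    have hflat1 : Module.Flat Ap H := flat_of_isPairHenselization hH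
    have hflat : Module.Flat A H := Module.Flat.trans A Ap H
    -- `1 ⊗ x` is in the range of `f ⊗ H`
    have h1 : g.baseChange H ((1 : H) ⊗ₜ[A] x) = 0 := by
      rw [LinearMap.baseChange_tmul, hx, TensorProduct.tmul_zero]
    obtain ⟨y, hy⟩ := (hexH _).mp h1
    have h2 : π.baseChange H ((1 : H) ⊗ₜ[A] x) = 0 := by
      rw [← hy, ← LinearMap.comp_apply, ← LinearMap.baseChange_comp]
      have : π.comp f = 0 := by
        ext z
        exact (Submodule.Quotient.mk_eq_zero _).mpr ⟨z, rfl⟩
      rw [this, LinearMap.baseChange_zero, LinearMap.zero_apply]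
    rw [LinearMap.baseChange_tmul] at h2
    -- the injection `A ⧸ 𝔞 → Q`
    let j : (A ⧸ 𝔞) →ₗ[A] Q := Submodule.liftQ 𝔞 t le_rfl
    have hj : Function.Injective j := by
      rw [← LinearMap.ker_eq_bot]
      exact Submodule.ker_liftQ_eq_bot _ _ _ le_rfl
    have hj1 : j (Submodule.Quotient.mk 1) = π x := by
      change t 1 = π x
      change (1 : A) • π x = π x
      rw [one_smul]
    have h3 : Function.Injective (LinearMap.lTensor H j) :=
      Module.Flat.lTensor_preserves_injective_linearMap j hj
    have h4 : LinearMap.lTensor H j ((1 : H) ⊗ₜ[A] (Submodule.Quotient.mk 1 : A ⧸ 𝔞)) = 0 := by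
      rw [LinearMap.lTensor_tmul, hj1, h2]
    have h5 : (1 : H) ⊗ₜ[A] (Submodule.Quotient.mk 1 : A ⧸ 𝔞) = 0 := h3 (by rw [h4, map_zero])
    have h6 := congrArg (TensorProduct.tensorQuotEquivQuotSMul H 𝔞) h5
    rw [map_zero] at h6
    have h7 : TensorProduct.tensorQuotEquivQuotSMul H 𝔞
        ((1 : H) ⊗ₜ[A] (Submodule.Quotient.mk 1 : A ⧸ 𝔞)) = Submodule.Quotient.mk ((1 : A) • (1 : H)) :=
      TensorProduct.tensorQuotEquivQuotSMul_tmul_mk 𝔞 (1 : H) (1 : A)
    rw [h7, one_smul, Submodule.Quotient.mk_eq_zero, Ideal.smul_top_eq_map,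
      Submodule.restrictScalars_mem] at h6
    have h8 : m.map (algebraMap A H) = ⊤ := by
      rw [Ideal.eq_top_iff_one]
      exact Ideal.map_mono h𝔞m h6
    exact map_ne_top A I m hIm H hH h8

end Groth.Agent.Helper7.ExactLocal
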