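import Mathlib
import Groth.Agent.Lib.Helper7.Hens.FinPres

/-!
# Henselian finitely presented maps: composition
-/

open TensorProduct

namespace Groth.Agent.Helper7.Hens

universe u

/-- Finset version of `exists_etale_nbhd_of_fin`. -/
theorem exists_etale_nbhd_of_finset {R : Type u} [CommRing R] {I : Ideal R} {B : Type u}
    [CommRing B] [Algebra R B] (hB : Hens2.IsPairHenselization R I B) (s : Finset B) :
    ∃ (U : Type u) (_ : CommRing U) (_ : Algebra R U) (_ : Algebra.Etale R U) (_ : Algebra U B)
      (_ : IsScalarTower R U B),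
      Function.Bijective
        (Ideal.quotientMap (I.map (algebraMap R U)) (algebraMap R U) Ideal.le_comap_map) ∧
      Hens2.IsPairHenselization U (I.map (algebraMap R U)) B ∧
      ∀ x ∈ s, x ∈ Set.range (algebraMap U B) := by
  obtain ⟨U, i1, i2, i3, i4, i5, hq, hU, hrange⟩ :=
    exists_etale_nbhd_of_fin hB (fun j : Fin s.card => ((s.equivFin.symm j : s) : B))
  refine ⟨U, i1, i2, i3, i4, i5, hq, hU, ?_⟩
  intro x hx
  have := hrange (s.equivFin ⟨x, hx⟩)
  simpa using this

variable {R : Type u} [CommRing R] {IR : Ideal R} {B : Type u} [CommRing B] [Algebra R B]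

/-- Let `B` be a henselization of `(R, I)`, `S` a finitely presented `B`-algebra and `C` a
henselization of `(S, IS)`. Then `C` is a henselization of `(T, IT)` for a finitely presented
`R`-algebra `T`. -/
theorem exists_finitePresentation_comp (hB : Hens2.IsPairHenselization R IR B)
    (S : Type u) [CommRing S] [Algebra B S] [Algebra R S] [IsScalarTower R B S]
    [Algebra.FinitePresentation B S]
    (C : Type u) [CommRing C] [Algebra S C] [Algebra R C] [IsScalarTower R S C]
    (hC : Hens2.IsPairHenselization S (IR.map (algebraMap R S)) C) :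
    ∃ (T : Type u) (_ : CommRing T) (_ : Algebra R T) (_ : Algebra T C) (_ : IsScalarTower R T C),
      Algebra.FinitePresentation R T ∧
        Hens2.IsPairHenselization T (IR.map (algebraMap R T)) C := by
  classical
  obtain ⟨n, f, hf, hfg⟩ := Algebra.FinitePresentation.out (R := B) (A := S)
  obtain ⟨l, g, hg⟩ := Submodule.fg_iff_exists_fin_generating_family.mp hfg
  obtain ⟨U, _, _, _, _, _, hq, hU, hrange⟩ :=
    exists_etale_nbhd_of_finset hB (Finset.univ.biUnion (fun j => (g j).coeffs))
  let ι : U →+* B := algebraMap U B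
  have hgr : ∀ j, g j ∈ Set.range (MvPolynomial.map (σ := Fin n) ι) := by
    intro j
    rw [MvPolynomial.mem_range_map_iff_coeffs_subset]
    intro x hx
    exact hrange x (Finset.mem_biUnion.mpr ⟨j, Finset.mem_univ j, hx⟩)
  choose gt hgt using hgr
  let MU := MvPolynomial (Fin n) U
  let MB := MvPolynomial (Fin n) B
  let KT : Ideal MU := Ideal.span (Set.range gt)
  let T := MU ⧸ KT
  have hfpMU : Algebra.FinitePresentation R MU := Algebra.FinitePresentation.trans R U MU
  have hfpT : Algebra.FinitePresentation R T :=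
    Algebra.FinitePresentation.quotient (Submodule.fg_span (Set.finite_range gt))
  -- the map T → S
  let θ₀ : MU →+* S := f.toRingHom.comp (MvPolynomial.map ι)
  have hθ₀ : ∀ k ∈ KT, θ₀ k = 0 := by
    intro k hk
    have hle : KT ≤ RingHom.ker θ₀ := by
      rw [Ideal.span_le]
      rintro _ ⟨j, rfl⟩
      rw [SetLike.mem_coe, RingHom.mem_ker]
      change f (MvPolynomial.map ι (gt j)) = 0
      rw [hgt j]
      have : g j ∈ RingHom.ker f.toRingHom := by
        rw [← hg]; exact Submodule.subset_span ⟨j, rfl⟩
      exact this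
    exact hle hk
  let θ : T →+* S := Ideal.Quotient.lift KT θ₀ hθ₀
  have hθmk : ∀ x : MU, θ (Ideal.Quotient.mk KT x) = f (MvPolynomial.map ι x) := fun x => rfl
  let _ : Algebra T C := ((algebraMap S C).comp θ).toAlgebra
  have hTC : ∀ t : T, algebraMap T C t = algebraMap S C (θ t) := fun t => rfl
  have hRT : ∀ r : R, algebraMap R T r =
      Ideal.Quotient.mk KT (MvPolynomial.C (algebraMap R U r)) := fun r => rfl
  have hUT : ∀ x : U, algebraMap U T x = Ideal.Quotient.mk KT (MvPolynomial.C x) := fun x => rfl
  have hθR : ∀ r : R, θ (algebraMap R T r) = algebraMap R S r := by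
    intro r
    rw [hRT, hθmk, MvPolynomial.map_C]
    change f (MvPolynomial.C (algebraMap U B (algebraMap R U r))) = _
    rw [← IsScalarTower.algebraMap_apply R U B, ← MvPolynomial.algebraMap_eq (R := B) (σ := Fin n), f.commutes,
      ← IsScalarTower.algebraMap_apply R B S]
  have hRTC : IsScalarTower R T C := by
    refine IsScalarTower.of_algebraMap_eq (R := R) (S := T) (A := C) (fun r => ?_)
    rw [hTC, hθR, ← IsScalarTower.algebraMap_apply R S C]
  refine ⟨T, inferInstance, inferInstance, inferInstance, hRTC, hfpT, ?_⟩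
  have hideal : (IR.map (algebraMap R T)).map (algebraMap T C) =
      (IR.map (algebraMap R S)).map (algebraMap S C) := by
    rw [Ideal.map_map, Ideal.map_map, ← IsScalarTower.algebraMap_eq, ← IsScalarTower.algebraMap_eq]
  refine ⟨hideal ▸ hC.1, ?_⟩
  intro D _ J φ hD hφ
  -- step 1: the map on `U` and its extension to `B`
  let φU : U →+* D := φ.comp (algebraMap U T)
  have hφU : (IR.map (algebraMap R U)).map φU ≤ J := by
    rw [Ideal.map_map]
    have : φU.comp (algebraMap R U) = φ.comp (algebraMap R T) := by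
      ext r; rfl
    rw [this, ← Ideal.map_map]; exact hφ
  obtain ⟨β, hβ, hβuniq⟩ := hU.2 D J φU hD hφU
  have hβι : ∀ x : U, β (ι x) = φ (algebraMap U T x) := fun x => RingHom.congr_fun hβ x
  -- step 2: the map on `MB`
  let v : Fin n → D := fun i => φ (Ideal.Quotient.mk KT (MvPolynomial.X i))
  let σ₀ : MB →+* D := MvPolynomial.eval₂Hom β v
  have hσ₀map : σ₀.comp (MvPolynomial.map ι) = φ.comp (Ideal.Quotient.mk KT) := by
    apply MvPolynomial.ringHom_ext
    · intro x
      change σ₀ (MvPolynomial.map ι (MvPolynomial.C x)) = φ (Ideal.Quotient.mk KT (MvPolynomial.C x))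
      rw [MvPolynomial.map_C]
      change MvPolynomial.eval₂ β v (MvPolynomial.C (ι x)) = _
      rw [MvPolynomial.eval₂_C, hβι, hUT]
    · intro i
      change σ₀ (MvPolynomial.map ι (MvPolynomial.X i)) = φ (Ideal.Quotient.mk KT (MvPolynomial.X i))
      rw [MvPolynomial.map_X]
      change MvPolynomial.eval₂ β v (MvPolynomial.X i) = _
      rw [MvPolynomial.eval₂_X]
  have hkill : RingHom.ker f.toRingHom ≤ RingHom.ker σ₀ := by
    rw [← hg]
    change Ideal.span (Set.range g) ≤ RingHom.ker σ₀
    rw [Ideal.span_le]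
    rintro _ ⟨j, rfl⟩
    rw [SetLike.mem_coe, RingHom.mem_ker, ← hgt j]
    have : σ₀ (MvPolynomial.map ι (gt j)) = (σ₀.comp (MvPolynomial.map ι)) (gt j) := rfl
    rw [this, hσ₀map, RingHom.comp_apply,
      Ideal.Quotient.eq_zero_iff_mem.mpr (Ideal.subset_span (Set.mem_range_self j)), map_zero]
  let σ : S →+* D := RingHom.liftOfSurjective f.toRingHom hf ⟨σ₀, hkill⟩
  have hσf : σ.comp f.toRingHom = σ₀ := RingHom.liftOfRightInverse_comp _ _ _ _
  have hσf' : ∀ x : MB, σ (f x) = σ₀ x := fun x => RingHom.congr_fun hσf x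
  have hσθ : σ.comp θ = φ := by
    apply Ideal.Quotient.ringHom_ext
    apply MvPolynomial.ringHom_ext
    · intro x
      change σ (θ (Ideal.Quotient.mk KT (MvPolynomial.C x))) = φ (Ideal.Quotient.mk KT (MvPolynomial.C x))
      rw [hθmk, hσf']
      exact RingHom.congr_fun hσ₀map (MvPolynomial.C x)
    · intro x
      change σ (θ (Ideal.Quotient.mk KT (MvPolynomial.X x))) = φ (Ideal.Quotient.mk KT (MvPolynomial.X x))
      rw [hθmk, hσf']
      exact RingHom.congr_fun hσ₀map (MvPolynomial.X x)
  have hσR : (IR.map (algebraMap R S)).map σ ≤ J := by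
    rw [Ideal.map_map]
    have : σ.comp (algebraMap R S) = φ.comp (algebraMap R T) := by
      ext r
      change σ (algebraMap R S r) = φ (algebraMap R T r)
      rw [← hθR r]
      exact RingHom.congr_fun hσθ _
    rw [this, ← Ideal.map_map]; exact hφ
  obtain ⟨γ, hγ, hγuniq⟩ := hC.2 D J σ hD hσR
  refine ⟨γ, ?_, ?_⟩
  · change γ.comp ((algebraMap S C).comp θ) = φ
    rw [← RingHom.comp_assoc, hγ, hσθ]
  · intro γ' hγ'
    have hγ'T : ∀ t : T, γ' (algebraMap S C (θ t)) = φ t := fun t => RingHom.congr_fun hγ' t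
    apply hγuniq
    -- compare after composing with the surjection `f`
    have hcomp : (γ'.comp (algebraMap S C)).comp f.toRingHom = σ₀ := by
      apply MvPolynomial.ringHom_ext
      · intro b
        change γ' (algebraMap S C (f (MvPolynomial.C b))) = MvPolynomial.eval₂ β v (MvPolynomial.C b)
        rw [MvPolynomial.eval₂_C]
        let β' : B →+* D :=
          ((γ'.comp (algebraMap S C)).comp f.toRingHom).comp MvPolynomial.C
        have hβ' : β' = β := by
          apply hβuniq
          ext x
          change γ' (algebraMap S C (f (MvPolynomial.C (ι x)))) = φ (algebraMap U T x)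
          rw [← MvPolynomial.map_C ι, ← hθmk, hγ'T, hUT]
        exact RingHom.congr_fun hβ' b
      · intro i
        change γ' (algebraMap S C (f (MvPolynomial.X i))) = MvPolynomial.eval₂ β v (MvPolynomial.X i)
        rw [MvPolynomial.eval₂_X, ← MvPolynomial.map_X ι, ← hθmk, hγ'T]
    ext s
    obtain ⟨x, rfl⟩ := hf s
    have e1 : (γ'.comp (algebraMap S C)) (f x) = σ₀ x := RingHom.congr_fun hcomp x
    rw [e1, hσf']

end Groth.Agent.Helper7.Hens
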