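import Mathlib
import Groth.Agent.Lib.Helper7.Hens.FinPres

/-!
# Henselian finitely presented maps: maps between them
-/

open TensorProduct

namespace Groth.Agent.Helper7.Hens

universe u

/-- Two ring homomorphisms out of a tensor product of algebras agreeing on both factors agree. -/
theorem tensor_ringHom_ext {A B S D : Type*} [CommRing A] [CommRing B] [CommRing S] [CommRing D]
    [Algebra A B] [Algebra A S] (F G : B ⊗[A] S →+* D)
    (h1 : ∀ b : B, F (b ⊗ₜ 1) = G (b ⊗ₜ 1)) (h2 : ∀ s : S, F (1 ⊗ₜ s) = G (1 ⊗ₜ s)) : F = G := by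
  refine RingHom.ext (fun x => ?_)
  induction x using TensorProduct.induction_on with
  | zero => rw [map_zero, map_zero]
  | tmul b s =>
    have : b ⊗ₜ[A] s = (b ⊗ₜ 1) * (1 ⊗ₜ s) := by
      rw [Algebra.TensorProduct.tmul_mul_tmul, mul_one, one_mul]
    rw [this, map_mul, map_mul, h1, h2]
  | add x y hx hy => rw [map_add, map_add, hx, hy]

theorem exists_finitePresentation_hom (A : Type u) [CommRing A] (I : Ideal A)
    (R : Type u) [CommRing R] [Algebra A R] [Algebra.FiniteType A R]
    (B : Type u) [CommRing B] [Algebra R B] [Algebra A B] [IsScalarTower A R B]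
    (hB : Hens2.IsPairHenselization R (I.map (algebraMap A R)) B)
    (S : Type u) [CommRing S] [Algebra A S] [Algebra.FinitePresentation A S]
    (C : Type u) [CommRing C] [Algebra S C] [Algebra A C] [IsScalarTower A S C]
    (hC : Hens2.IsPairHenselization S (I.map (algebraMap A S)) C)
    [Algebra B C] [IsScalarTower A B C] :
    ∃ (T : Type u) (_ : CommRing T) (_ : Algebra B T) (_ : Algebra T C) (_ : IsScalarTower B T C),
      Algebra.FinitePresentation B T ∧
      Hens2.IsPairHenselization T ((I.map (algebraMap A B)).map (algebraMap B T)) C := by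
  classical
  obtain ⟨n, f, hf⟩ := Algebra.FiniteType.iff_quotient_mvPolynomial''.mp
    (inferInstance : Algebra.FiniteType A R)
  let r : Fin n → R := fun i => f (MvPolynomial.X i)
  let b : Fin n → B := fun i => algebraMap R B (r i)
  let c : Fin n → C := fun i => algebraMap B C (b i)
  obtain ⟨S', _, _, _, _, _, hq, hS', hrange⟩ := exists_etale_nbhd_of_fin hC c
  choose s hs using hrange
  let _ : Algebra A S' := ((algebraMap S S').comp (algebraMap A S)).toAlgebra
  have hASS' : IsScalarTower A S S' := IsScalarTower.of_algebraMap_eq (fun _ => rfl)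
  have hAS'C : IsScalarTower A S' C := by
    refine IsScalarTower.of_algebraMap_eq (fun a => ?_)
    rw [IsScalarTower.algebraMap_apply A S C, IsScalarTower.algebraMap_apply S S' C]
    rfl
  have hfpS' : Algebra.FinitePresentation A S' := Algebra.FinitePresentation.trans A S S'
  let BS := B ⊗[A] S'
  let rel : Fin n → BS := fun i => b i ⊗ₜ[A] (1 : S') - (1 : B) ⊗ₜ[A] s i
  let KT : Ideal BS := Ideal.span (Set.range rel)
  let T := BS ⧸ KT
  have hfpT : Algebra.FinitePresentation B T :=
    Algebra.FinitePresentation.quotient (Submodule.fg_span (Set.finite_range rel))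
  -- the map `T → C`
  let θ₀ : BS →ₐ[B] C :=
    Algebra.TensorProduct.lift (Algebra.ofId B C) (IsScalarTower.toAlgHom A S' C)
      (fun _ _ => Commute.all _ _)
  have hθ₀l : ∀ x : B, θ₀ (x ⊗ₜ 1) = algebraMap B C x := by
    intro x
    change Algebra.TensorProduct.lift (Algebra.ofId B C) (IsScalarTower.toAlgHom A S' C) _
      (x ⊗ₜ[A] (1 : S')) = _
    rw [Algebra.TensorProduct.lift_tmul, map_one, mul_one]
    rfl
  have hθ₀r : ∀ x : S', θ₀ (1 ⊗ₜ x) = algebraMap S' C x := by
    intro x
    change Algebra.TensorProduct.lift (Algebra.ofId B C) (IsScalarTower.toAlgHom A S' C) _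
      ((1 : B) ⊗ₜ[A] x) = _
    rw [Algebra.TensorProduct.lift_tmul, map_one, one_mul]
    rfl
  have hθ₀K : ∀ k ∈ KT, θ₀ k = 0 := by
    intro k hk
    have hle : KT ≤ RingHom.ker θ₀.toRingHom := by
      rw [Ideal.span_le]
      rintro _ ⟨i, rfl⟩
      rw [SetLike.mem_coe, RingHom.mem_ker]
      change θ₀ (b i ⊗ₜ[A] (1 : S') - (1 : B) ⊗ₜ[A] s i) = 0
      rw [map_sub, hθ₀l, hθ₀r, hs i, sub_self]
    exact hle hk
  let θ : T →ₐ[B] C := Ideal.Quotient.liftₐ KT θ₀ hθ₀K
  have hθmk : ∀ x : BS, θ (Ideal.Quotient.mk KT x) = θ₀ x := fun x => rfl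
  let _ : Algebra T C := θ.toRingHom.toAlgebra
  have hTC : ∀ t : T, algebraMap T C t = θ t := fun t => rfl
  have hBTC : IsScalarTower B T C :=
    IsScalarTower.of_algebraMap_eq (R := B) (S := T) (A := C) (fun x => (θ.commutes x).symm)
  have hBT : ∀ x : B, algebraMap B T x = Ideal.Quotient.mk KT (x ⊗ₜ 1) := fun x => rfl
  have hrel : ∀ i, Ideal.Quotient.mk KT (b i ⊗ₜ[A] (1 : S')) =
      Ideal.Quotient.mk KT ((1 : B) ⊗ₜ[A] s i) := by
    intro i
    rw [Ideal.Quotient.eq]
    exact Ideal.subset_span (Set.mem_range_self i)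
  refine ⟨T, inferInstance, inferInstance, inferInstance, hBTC, hfpT, ?_⟩
  have hideal : ((I.map (algebraMap A B)).map (algebraMap B T)).map (algebraMap T C) =
      (I.map (algebraMap A S)).map (algebraMap S C) := by
    rw [Ideal.map_map, Ideal.map_map, Ideal.map_map, ← IsScalarTower.algebraMap_eq B T C,
      ← IsScalarTower.algebraMap_eq A B C, ← IsScalarTower.algebraMap_eq A S C]
  refine ⟨hideal ▸ hC.1, ?_⟩
  intro D _ J φ hD hφ
  have hφ' : I.map (φ.comp ((algebraMap B T).comp (algebraMap A B))) ≤ J := by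
    rw [← Ideal.map_map, ← Ideal.map_map]; exact hφ
  let inr : S' →+* T := (Ideal.Quotient.mk KT).comp
    (Algebra.TensorProduct.includeRight (R := A) (A := B) (B := S')).toRingHom
  have hinr : ∀ x : S', inr x = Ideal.Quotient.mk KT (1 ⊗ₜ x) := fun x => rfl
  have hinrA : ∀ a : A, inr (algebraMap A S' a) = algebraMap B T (algebraMap A B a) := by
    intro a
    rw [hinr, hBT]
    congr 1
    rw [Algebra.algebraMap_eq_smul_one, Algebra.algebraMap_eq_smul_one, TensorProduct.smul_tmul]
  let φS' : S' →+* D := φ.comp inr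
  have hφS' : ((I.map (algebraMap A S)).map (algebraMap S S')).map φS' ≤ J := by
    rw [Ideal.map_map, Ideal.map_map]
    have : (φS'.comp (algebraMap S S')).comp (algebraMap A S) =
        φ.comp ((algebraMap B T).comp (algebraMap A B)) := by
      ext a
      change φ (inr (algebraMap A S' a)) = φ (algebraMap B T (algebraMap A B a))
      rw [hinrA]
    rw [this]; exact hφ'
  obtain ⟨γ, hγ, hγuniq⟩ := hS'.2 D J φS' hD hφS'
  have hγS' : ∀ x : S', γ (algebraMap S' C x) = φ (inr x) := fun x => RingHom.congr_fun hγ x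
  have hγA : ∀ a : A, γ (algebraMap A C a) = φ (algebraMap B T (algebraMap A B a)) := by
    intro a
    rw [IsScalarTower.algebraMap_apply A S' C, hγS', hinrA]
  -- the two maps `B → D`
  let β₁ : B →+* D := γ.comp (algebraMap B C)
  let β₂ : B →+* D := φ.comp (algebraMap B T)
  have hβ : β₁ = β₂ := by
    have hcond : (I.map (algebraMap A R)).map (β₂.comp (algebraMap R B)) ≤ J := by
      rw [Ideal.map_map]
      have : (β₂.comp (algebraMap R B)).comp (algebraMap A R) =
          φ.comp ((algebraMap B T).comp (algebraMap A B)) := by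
        ext a
        change φ (algebraMap B T (algebraMap R B (algebraMap A R a))) = _
        rw [← IsScalarTower.algebraMap_apply A R B]
        rfl
      rw [this]; exact hφ'
    obtain ⟨β, -, hβuniq⟩ := hB.2 D J (β₂.comp (algebraMap R B)) hD hcond
    have h2 : β₂ = β := hβuniq β₂ rfl
    have h1 : β₁ = β := by
      apply hβuniq
      -- compare on the polynomial ring
      have hcomp : (β₁.comp (algebraMap R B)).comp f.toRingHom =
          (β₂.comp (algebraMap R B)).comp f.toRingHom := by
        apply MvPolynomial.ringHom_ext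
        · intro a
          change γ (algebraMap B C (algebraMap R B (f (MvPolynomial.C a)))) =
            φ (algebraMap B T (algebraMap R B (f (MvPolynomial.C a))))
          rw [← MvPolynomial.algebraMap_eq (R := A) (σ := Fin n), f.commutes,
            ← IsScalarTower.algebraMap_apply A R B, ← IsScalarTower.algebraMap_apply A B C, hγA]
        · intro i
          change γ (algebraMap B C (b i)) = φ (algebraMap B T (b i))
          have e1 : algebraMap B C (b i) = algebraMap S' C (s i) := (hs i).symm
          rw [e1, hγS', hinr, hBT, hrel]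
      ext x
      obtain ⟨p, rfl⟩ := hf x
      exact RingHom.congr_fun hcomp p
    rw [h1, h2]
  refine ⟨γ, ?_, ?_⟩
  · apply Ideal.Quotient.ringHom_ext
    apply tensor_ringHom_ext
    · intro x
      change γ (θ (Ideal.Quotient.mk KT (x ⊗ₜ 1))) = φ (Ideal.Quotient.mk KT (x ⊗ₜ 1))
      rw [hθmk, hθ₀l]
      exact RingHom.congr_fun hβ x
    · intro x
      change γ (θ (Ideal.Quotient.mk KT (1 ⊗ₜ x))) = φ (Ideal.Quotient.mk KT (1 ⊗ₜ x))
      rw [hθmk, hθ₀r, hγS', hinr]
  · intro γ' hγ'
    apply hγuniq
    ext x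
    change γ' (algebraMap S' C x) = φ (inr x)
    rw [← hθ₀r, ← hθmk, ← hinr]
    exact RingHom.congr_fun hγ' (inr x)

end Groth.Agent.Helper7.Hens
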