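import Mathlib
import Groth.Agent.Lib.Helper7.Hens.FinPres

/-!
# Henselian finitely presented maps: the two descriptions agree
-/

open TensorProduct

namespace Groth.Agent.Helper7.Hens

universe u

variable (A : Type u) [CommRing A] (I : Ideal A) (B : Type u) [CommRing B] [Algebra A B]

/-- A quotient of a Henselized polynomial ring by a finitely generated ideal is a henselization
of a finitely presented algebra. -/
theorem exists_finitePresentation_of_quotient (n : ℕ) (P : Type u) [CommRing P]
    [Algebra (MvPolynomial (Fin n) A) P] [Algebra A P] [IsScalarTower A (MvPolynomial (Fin n) A) P]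
    (hP : Hens2.IsPairHenselization (MvPolynomial (Fin n) A)
      (I.map (algebraMap A (MvPolynomial (Fin n) A))) P)
    (φ : P →ₐ[A] B) (hφ : Function.Surjective φ) (hfg : (RingHom.ker φ).FG) :
    ∃ (R : Type u) (_ : CommRing R) (_ : Algebra A R) (_ : Algebra R B) (_ : IsScalarTower A R B),
      Algebra.FinitePresentation A R ∧ Hens2.IsPairHenselization R (I.map (algebraMap A R)) B := by
  obtain ⟨m, p, hp⟩ := Submodule.fg_iff_exists_fin_generating_family.mp hfg
  obtain ⟨U, _, _, _, _, _, hq, hU, hrange⟩ := exists_etale_nbhd_of_fin hP p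
  choose u hu using hrange
  let Q := MvPolynomial (Fin n) A
  let K : Ideal U := Ideal.span (Set.range u)
  have hKmap : K.map (algebraMap U P) = RingHom.ker φ := by
    rw [Ideal.map_span, ← Set.range_comp]
    have : (algebraMap U P) ∘ u = p := funext hu
    rw [this]
    exact hp
  let _ : Algebra A U := ((algebraMap Q U).comp (algebraMap A Q)).toAlgebra
  have hAQU : IsScalarTower A Q U := IsScalarTower.of_algebraMap_eq (fun _ => rfl)
  have hAUP : IsScalarTower A U P := by
    refine IsScalarTower.of_algebraMap_eq (fun a => ?_)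
    rw [IsScalarTower.algebraMap_apply A Q P, IsScalarTower.algebraMap_apply Q U P]
    rfl
  have hK0 : ∀ k ∈ K, (φ.toRingHom.comp (algebraMap U P)) k = 0 := by
    intro k hk
    have h1 : algebraMap U P k ∈ RingHom.ker φ := by
      rw [← hKmap]; exact Ideal.mem_map_of_mem _ hk
    exact h1
  let ρ : U ⧸ K →+* B := Ideal.Quotient.lift K (φ.toRingHom.comp (algebraMap U P)) hK0
  let _ : Algebra (U ⧸ K) B := ρ.toAlgebra
  have hρ : ∀ x : U, algebraMap (U ⧸ K) B (Ideal.Quotient.mk K x) = φ (algebraMap U P x) :=
    fun x => rfl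
  have hARB : IsScalarTower A (U ⧸ K) B := by
    refine IsScalarTower.of_algebraMap_eq (fun a => ?_)
    have h1 : algebraMap A (U ⧸ K) a = Ideal.Quotient.mk K (algebraMap A U a) := rfl
    rw [h1, hρ, ← IsScalarTower.algebraMap_apply A U P, AlgHom.commutes]
  have hfpU : Algebra.FinitePresentation A U := Algebra.FinitePresentation.trans A Q U
  have hKfg : K.FG := Submodule.fg_span (Set.finite_range u)
  have hfpR : Algebra.FinitePresentation A (U ⧸ K) := Algebra.FinitePresentation.quotient hKfg
  refine ⟨U ⧸ K, inferInstance, inferInstance, inferInstance, hARB, hfpR, ?_⟩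
  have h1 := isPairHenselization_quotient hU K φ.toRingHom hφ hKmap.symm hρ
  have h2 : ((I.map (algebraMap A Q)).map (algebraMap Q U)).map (Ideal.Quotient.mk K) =
      I.map (algebraMap A (U ⧸ K)) := by
    rw [Ideal.map_map, Ideal.map_map]
    rfl
  rw [h2] at h1
  exact h1

/-- A henselization of a finitely presented algebra is a quotient of a Henselized polynomial
ring by a finitely generated ideal. -/
theorem exists_quotient_of_finitePresentation (R : Type u) [CommRing R] [Algebra A R]
    [Algebra R B] [IsScalarTower A R B] [Algebra.FinitePresentation A R]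
    (hB : Hens2.IsPairHenselization R (I.map (algebraMap A R)) B) :
    ∃ (n : ℕ) (P : Type u) (_ : CommRing P) (_ : Algebra (MvPolynomial (Fin n) A) P)
      (_ : Algebra A P) (_ : IsScalarTower A (MvPolynomial (Fin n) A) P),
      Hens2.IsPairHenselization (MvPolynomial (Fin n) A)
        (I.map (algebraMap A (MvPolynomial (Fin n) A))) P ∧
      ∃ φ : P →ₐ[A] B, Function.Surjective φ ∧ (RingHom.ker φ).FG := by
  obtain ⟨n, f, hf, hfg⟩ := Algebra.FinitePresentation.out (R := A) (A := R)
  let Q := MvPolynomial (Fin n) A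
  let IQ : Ideal Q := I.map (algebraMap A Q)
  let P := H Q IQ
  let _ : Algebra A P := ((algebraMap Q P).comp (algebraMap A Q)).toAlgebra
  have hAQP : IsScalarTower A Q P := IsScalarTower.of_algebraMap_eq (fun _ => rfl)
  have hP : Hens2.IsPairHenselization Q IQ P := isPairHenselization_H Q IQ
  let fr : Q →+* R := f.toRingHom
  let K : Ideal Q := RingHom.ker fr
  let KP : Ideal P := K.map (algebraMap Q P)
  let _ : Algebra (Q ⧸ K) (P ⧸ KP) :=
    (Ideal.quotientMap KP (algebraMap Q P) Ideal.le_comap_map).toAlgebra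
  have h1 : Hens2.IsPairHenselization (Q ⧸ K) (IQ.map (Ideal.Quotient.mk K)) (P ⧸ KP) :=
    isPairHenselization_quotient hP K (Ideal.Quotient.mk KP) Ideal.Quotient.mk_surjective
      Ideal.mk_ker (fun _ => rfl)
  let e : (Q ⧸ K) ≃+* R := RingHom.quotientKerEquivOfSurjective (f := fr) hf
  let _ : Algebra (Q ⧸ K) B := ((algebraMap R B).comp (e : Q ⧸ K →+* R)).toAlgebra
  have hI : (IQ.map (Ideal.Quotient.mk K)).map (e : Q ⧸ K →+* R) = I.map (algebraMap A R) := by
    rw [Ideal.map_map, Ideal.map_map]
    congr 1
    ext a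
    change e (Ideal.Quotient.mk K (algebraMap A Q a)) = _
    rw [RingHom.quotientKerEquivOfSurjective_apply_mk]
    exact f.commutes a
  have h2 : Hens2.IsPairHenselization (Q ⧸ K) (IQ.map (Ideal.Quotient.mk K)) B :=
    isPairHenselization_of_ringEquiv e hI (fun _ => rfl) hB
  obtain ⟨ε⟩ := nonempty_algEquiv_of_isPairHenselization h1 h2
  let φr : P →+* B := (ε : P ⧸ KP →+* B).comp (Ideal.Quotient.mk KP)
  have hcomm : ∀ a : A, φr (algebraMap A P a) = algebraMap A B a := by
    intro a
    have e1 : algebraMap A P a = algebraMap Q P (algebraMap A Q a) := rfl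
    have e2 : Ideal.Quotient.mk KP (algebraMap Q P (algebraMap A Q a)) =
        algebraMap (Q ⧸ K) (P ⧸ KP) (Ideal.Quotient.mk K (algebraMap A Q a)) := rfl
    change ε (Ideal.Quotient.mk KP (algebraMap A P a)) = _
    rw [e1, e2, ε.commutes]
    change algebraMap R B (e (Ideal.Quotient.mk K (algebraMap A Q a))) = _
    rw [RingHom.quotientKerEquivOfSurjective_apply_mk]
    change algebraMap R B (f (algebraMap A Q a)) = _
    rw [f.commutes, ← IsScalarTower.algebraMap_apply]
  let φ : P →ₐ[A] B := { φr with commutes' := hcomm }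
  refine ⟨n, P, inferInstance, inferInstance, inferInstance, hAQP, hP, φ, ?_, ?_⟩
  · intro b
    obtain ⟨x, rfl⟩ := ε.surjective b
    obtain ⟨p, rfl⟩ := Ideal.Quotient.mk_surjective x
    exact ⟨p, rfl⟩
  · have hker : RingHom.ker φ = KP := by
      ext p
      rw [RingHom.mem_ker]
      change ε (Ideal.Quotient.mk KP p) = 0 ↔ _
      rw [map_eq_zero_iff ε ε.injective, Ideal.Quotient.eq_zero_iff_mem]
    rw [hker]
    exact Ideal.FG.map hfg _

end Groth.Agent.Helper7.Hens
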