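import Mathlib

/-!
# Infinitesimal lifting for algebras killed by a power of an ideal

For an `A`-algebra `B` and an ideal `I` of `A`, the lifting property of `B` against nilpotent
surjections of `A`-algebras killed by `I ^ N` is equivalent to formal smoothness (étaleness) of
`B / I^N B` over `A / I^N`.
-/

open TensorProduct

namespace Groth.Agent.Helper7.Hens

universe u

section Basic

variable {A : Type u} [CommRing A] (K : Ideal A) {B : Type u} [CommRing B] [Algebra A B]

/-- An `A`-algebra killed by `K` is an `A ⧸ K`-algebra. -/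
noncomputable abbrev algebraOfMapEqBot {E : Type u} [CommRing E] [Algebra A E]
    (h : K.map (algebraMap A E) = ⊥) : Algebra (A ⧸ K) E :=
  (Ideal.Quotient.lift K (algebraMap A E) (fun a ha => by
    have : algebraMap A E a ∈ K.map (algebraMap A E) := Ideal.mem_map_of_mem _ ha
    rwa [h, Ideal.mem_bot] at this)).toAlgebra

theorem isScalarTower_of_mapEqBot {E : Type u} [CommRing E] [Algebra A E]
    (h : K.map (algebraMap A E) = ⊥) :
    let _ := algebraOfMapEqBot K h
    IsScalarTower A (A ⧸ K) E := by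
  intro _
  exact IsScalarTower.of_algebraMap_eq (fun _ => rfl)

theorem map_eq_bot_of_isScalarTower (E : Type u) [CommRing E] [Algebra A E] [Algebra (A ⧸ K) E]
    [IsScalarTower A (A ⧸ K) E] : K.map (algebraMap A E) = ⊥ := by
  rw [eq_bot_iff, Ideal.map_le_iff_le_comap]
  intro a ha
  rw [Ideal.mem_comap, Ideal.mem_bot, IsScalarTower.algebraMap_apply A (A ⧸ K) E,
    Ideal.Quotient.algebraMap_eq, Ideal.Quotient.eq_zero_iff_mem.mpr ha, map_zero]

variable (E C : Type u) [CommRing E] [CommRing C] [Algebra A E] [Algebra A C]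
  [Algebra (A ⧸ K) E] [IsScalarTower A (A ⧸ K) E] [Algebra (A ⧸ K) C] [IsScalarTower A (A ⧸ K) C]

/-- An `A`-algebra map between `A ⧸ K`-algebras is `A ⧸ K`-linear. -/
def extendQuot {E C : Type u} [CommRing E] [CommRing C] [Algebra A E] [Algebra A C]
    [Algebra (A ⧸ K) E] [IsScalarTower A (A ⧸ K) E] [Algebra (A ⧸ K) C]
    [IsScalarTower A (A ⧸ K) C] (p : E →ₐ[A] C) : E →ₐ[A ⧸ K] C :=
  { p.toRingHom with
    commutes' := by
      intro x
      obtain ⟨a, rfl⟩ := Ideal.Quotient.mk_surjective x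
      change p (algebraMap (A ⧸ K) E (algebraMap A (A ⧸ K) a)) =
        algebraMap (A ⧸ K) C (algebraMap A (A ⧸ K) a)
      rw [← IsScalarTower.algebraMap_apply A (A ⧸ K) E, ← IsScalarTower.algebraMap_apply A (A ⧸ K) C,
        p.commutes] }

@[simp] theorem extendQuot_apply {E C : Type u} [CommRing E] [CommRing C] [Algebra A E]
    [Algebra A C] [Algebra (A ⧸ K) E] [IsScalarTower A (A ⧸ K) E] [Algebra (A ⧸ K) C]
    [IsScalarTower A (A ⧸ K) C] (p : E →ₐ[A] C) (x : E) : extendQuot K p x = p x := rfl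

/-- An `A`-algebra map from `B` to an `A ⧸ K`-algebra factors through `B ⧸ K B`. -/
def quotLift {C : Type u} [CommRing C] [Algebra A C] [Algebra (A ⧸ K) C]
    [IsScalarTower A (A ⧸ K) C] (u : B →ₐ[A] C) :
    (B ⧸ K.map (algebraMap A B)) →ₐ[A ⧸ K] C :=
  { Ideal.Quotient.lift (K.map (algebraMap A B)) u.toRingHom (by
      intro x hx
      have h1 : u x ∈ (K.map (algebraMap A B)).map u.toRingHom := Ideal.mem_map_of_mem _ hx
      rw [Ideal.map_map] at h1
      have h2 : u.toRingHom.comp (algebraMap A B) = algebraMap A C := u.comp_algebraMap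
      rw [h2, map_eq_bot_of_isScalarTower K C, Ideal.mem_bot] at h1
      exact h1) with
    commutes' := by
      intro x
      obtain ⟨a, rfl⟩ := Ideal.Quotient.mk_surjective x
      change u (algebraMap A B a) = algebraMap (A ⧸ K) C (algebraMap A (A ⧸ K) a)
      rw [u.commutes, ← IsScalarTower.algebraMap_apply A (A ⧸ K) C] }

@[simp] theorem quotLift_mk {C : Type u} [CommRing C] [Algebra A C] [Algebra (A ⧸ K) C]
    [IsScalarTower A (A ⧸ K) C] (u : B →ₐ[A] C) (b : B) :
    quotLift K u (Ideal.Quotient.mk _ b) = u b := rfl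

/-- Restriction of an `A ⧸ K`-algebra map on `B ⧸ K B` to `B`. -/
def quotRestrict {C : Type u} [CommRing C] [Algebra A C] [Algebra (A ⧸ K) C]
    [IsScalarTower A (A ⧸ K) C] (g : (B ⧸ K.map (algebraMap A B)) →ₐ[A ⧸ K] C) : B →ₐ[A] C :=
  (g.restrictScalars A).comp (IsScalarTower.toAlgHom A B (B ⧸ K.map (algebraMap A B)))

@[simp] theorem quotRestrict_apply {C : Type u} [CommRing C] [Algebra A C] [Algebra (A ⧸ K) C]
    [IsScalarTower A (A ⧸ K) C] (g : (B ⧸ K.map (algebraMap A B)) →ₐ[A ⧸ K] C) (b : B) :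
    quotRestrict K g b = g (Ideal.Quotient.mk _ b) := rfl

theorem quotLift_quotRestrict {C : Type u} [CommRing C] [Algebra A C] [Algebra (A ⧸ K) C]
    [IsScalarTower A (A ⧸ K) C] (g : (B ⧸ K.map (algebraMap A B)) →ₐ[A ⧸ K] C) :
    quotLift K (quotRestrict K g) = g := by
  ext x
  obtain ⟨b, rfl⟩ := Ideal.Quotient.mk_surjective x
  rfl

theorem quotRestrict_quotLift {C : Type u} [CommRing C] [Algebra A C] [Algebra (A ⧸ K) C]
    [IsScalarTower A (A ⧸ K) C] (u : B →ₐ[A] C) : quotRestrict K (quotLift K u) = u := by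
  ext b
  rfl

end Basic

section Smooth

variable (A : Type u) [CommRing A] (I : Ideal A) (B : Type u) [CommRing B] [Algebra A B]

theorem exists_lift_of_formallySmooth_quotient
    (h : ∀ r : ℕ, 1 ≤ r →
      Algebra.FormallySmooth (A ⧸ I ^ r) (B ⧸ (I ^ r).map (algebraMap A B)))
    (E C : Type u) [CommRing E] [CommRing C] [Algebra A E] [Algebra A C] (N : ℕ) (hN : 1 ≤ N)
    (hE : (I ^ N).map (algebraMap A E) = ⊥) (hC : (I ^ N).map (algebraMap A C) = ⊥)
    (p : E →ₐ[A] C) (hp : Function.Surjective p) (hnil : ∃ M : ℕ, 1 ≤ M ∧ RingHom.ker p ^ M = ⊥)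
    (u : B →ₐ[A] C) : ∃ v : B →ₐ[A] E, p.comp v = u := by
  have _ := h N hN
  let _ := algebraOfMapEqBot (I ^ N) hE
  have _ := isScalarTower_of_mapEqBot (I ^ N) hE
  let _ := algebraOfMapEqBot (I ^ N) hC
  have _ := isScalarTower_of_mapEqBot (I ^ N) hC
  obtain ⟨M, -, hM⟩ := hnil
  have hnil' : IsNilpotent (RingHom.ker (extendQuot (I ^ N) p : E →+* C)) := ⟨M, hM⟩
  let v' := Algebra.FormallySmooth.liftOfSurjective (quotLift (I ^ N) u) (extendQuot (I ^ N) p)
    hp hnil'
  refine ⟨quotRestrict (I ^ N) v', ?_⟩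
  ext b
  have := Algebra.FormallySmooth.liftOfSurjective_apply (quotLift (I ^ N) u)
    (extendQuot (I ^ N) p) hp hnil' (Ideal.Quotient.mk _ b)
  exact this

theorem formallySmooth_quotient_of_exists_lift
    (h : ∀ (E C : Type u) [CommRing E] [CommRing C] [Algebra A E] [Algebra A C] (N : ℕ), 1 ≤ N →
        (I ^ N).map (algebraMap A E) = ⊥ → (I ^ N).map (algebraMap A C) = ⊥ →
        ∀ (p : E →ₐ[A] C), Function.Surjective p → (∃ M : ℕ, 1 ≤ M ∧ RingHom.ker p ^ M = ⊥) →
        ∀ u : B →ₐ[A] C, ∃ v : B →ₐ[A] E, p.comp v = u)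
    (r : ℕ) (hr : 1 ≤ r) :
    Algebra.FormallySmooth (A ⧸ I ^ r) (B ⧸ (I ^ r).map (algebraMap A B)) := by
  apply Algebra.FormallySmooth.of_comp_surjective
  intro E _ _ J hJ g
  let _ : Algebra A E := ((algebraMap (A ⧸ I ^ r) E).comp (algebraMap A (A ⧸ I ^ r))).toAlgebra
  have _ : IsScalarTower A (A ⧸ I ^ r) E := IsScalarTower.of_algebraMap_eq (fun _ => rfl)
  have hE := map_eq_bot_of_isScalarTower (I ^ r) E
  have hC := map_eq_bot_of_isScalarTower (I ^ r) (E ⧸ J)
  have hker : RingHom.ker (Ideal.Quotient.mkₐ A J) ^ 2 = ⊥ := by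
    have : RingHom.ker (Ideal.Quotient.mkₐ A J) = J := Ideal.Quotient.mkₐ_ker A J
    rw [this]; exact hJ
  obtain ⟨v, hv⟩ := h E (E ⧸ J) r hr hE hC (Ideal.Quotient.mkₐ A J)
    (Ideal.Quotient.mkₐ_surjective A J) ⟨2, by norm_num, hker⟩ (quotRestrict (I ^ r) g)
  refine ⟨quotLift (I ^ r) v, ?_⟩
  ext x
  obtain ⟨b, rfl⟩ := Ideal.Quotient.mk_surjective x
  exact AlgHom.congr_fun hv b

end Smooth

section Etale

variable (A : Type u) [CommRing A] (I : Ideal A) (B : Type u) [CommRing B] [Algebra A B]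

theorem existsUnique_lift_of_formallyEtale_quotient
    (h : ∀ r : ℕ, 1 ≤ r →
      Algebra.FormallyEtale (A ⧸ I ^ r) (B ⧸ (I ^ r).map (algebraMap A B)))
    (E C : Type u) [CommRing E] [CommRing C] [Algebra A E] [Algebra A C] (N : ℕ) (hN : 1 ≤ N)
    (hE : (I ^ N).map (algebraMap A E) = ⊥) (hC : (I ^ N).map (algebraMap A C) = ⊥)
    (p : E →ₐ[A] C) (hp : Function.Surjective p) (hnil : ∃ M : ℕ, 1 ≤ M ∧ RingHom.ker p ^ M = ⊥)
    (u : B →ₐ[A] C) : ∃! v : B →ₐ[A] E, p.comp v = u := by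
  have hsm : ∀ r : ℕ, 1 ≤ r →
      Algebra.FormallySmooth (A ⧸ I ^ r) (B ⧸ (I ^ r).map (algebraMap A B)) := by
    intro r hr
    have := h r hr
    infer_instance
  obtain ⟨v, hv⟩ := exists_lift_of_formallySmooth_quotient A I B hsm E C N hN hE hC p hp hnil u
  refine ⟨v, hv, ?_⟩
  intro w hw
  have _ := h N hN
  let _ := algebraOfMapEqBot (I ^ N) hE
  have _ := isScalarTower_of_mapEqBot (I ^ N) hE
  let _ := algebraOfMapEqBot (I ^ N) hC
  have _ := isScalarTower_of_mapEqBot (I ^ N) hC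
  obtain ⟨M, -, hM⟩ := hnil
  have hnil' : IsNilpotent (RingHom.ker (extendQuot (I ^ N) p : E →+* C)) := ⟨M, hM⟩
  have key : quotLift (I ^ N) w = quotLift (I ^ N) v := by
    apply Algebra.FormallyUnramified.lift_unique' (extendQuot (I ^ N) p) hnil'
    ext x
    obtain ⟨b, rfl⟩ := Ideal.Quotient.mk_surjective x
    change p (w b) = p (v b)
    have e1 : p (w b) = u b := AlgHom.congr_fun hw b
    have e2 : p (v b) = u b := AlgHom.congr_fun hv b
    rw [e1, e2]
  have := congrArg (quotRestrict (I ^ N)) key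
  rwa [quotRestrict_quotLift, quotRestrict_quotLift] at this

theorem formallyEtale_quotient_of_existsUnique_lift
    (h : ∀ (E C : Type u) [CommRing E] [CommRing C] [Algebra A E] [Algebra A C] (N : ℕ), 1 ≤ N →
        (I ^ N).map (algebraMap A E) = ⊥ → (I ^ N).map (algebraMap A C) = ⊥ →
        ∀ (p : E →ₐ[A] C), Function.Surjective p → (∃ M : ℕ, 1 ≤ M ∧ RingHom.ker p ^ M = ⊥) →
        ∀ u : B →ₐ[A] C, ∃! v : B →ₐ[A] E, p.comp v = u)
    (r : ℕ) (hr : 1 ≤ r) :
    Algebra.FormallyEtale (A ⧸ I ^ r) (B ⧸ (I ^ r).map (algebraMap A B)) := by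
  have hsm : Algebra.FormallySmooth (A ⧸ I ^ r) (B ⧸ (I ^ r).map (algebraMap A B)) := by
    apply formallySmooth_quotient_of_exists_lift A I B _ r hr
    intro E C _ _ _ _ N hN hE hC p hp hnil u
    exact (h E C N hN hE hC p hp hnil u).exists
  have hun : Algebra.FormallyUnramified (A ⧸ I ^ r) (B ⧸ (I ^ r).map (algebraMap A B)) := by
    rw [Algebra.FormallyUnramified.iff_comp_injective]
    intro E _ _ J hJ g₁ g₂ hg
    let _ : Algebra A E := ((algebraMap (A ⧸ I ^ r) E).comp (algebraMap A (A ⧸ I ^ r))).toAlgebra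
    have _ : IsScalarTower A (A ⧸ I ^ r) E := IsScalarTower.of_algebraMap_eq (fun _ => rfl)
    have hE := map_eq_bot_of_isScalarTower (I ^ r) E
    have hC := map_eq_bot_of_isScalarTower (I ^ r) (E ⧸ J)
    have hker : RingHom.ker (Ideal.Quotient.mkₐ A J) ^ 2 = ⊥ := by
      have : RingHom.ker (Ideal.Quotient.mkₐ A J) = J := Ideal.Quotient.mkₐ_ker A J
      rw [this]; exact hJ
    obtain ⟨v, -, hvuniq⟩ := h E (E ⧸ J) r hr hE hC (Ideal.Quotient.mkₐ A J)
      (Ideal.Quotient.mkₐ_surjective A J) ⟨2, by norm_num, hker⟩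
      ((Ideal.Quotient.mkₐ A J).comp (quotRestrict (I ^ r) g₁))
    have e1 : quotRestrict (I ^ r) g₁ = v := hvuniq _ rfl
    have e2 : quotRestrict (I ^ r) g₂ = v := by
      apply hvuniq
      ext b
      have := AlgHom.congr_fun hg (Ideal.Quotient.mk _ b)
      exact this.symm
    have := congrArg (quotLift (I ^ r)) (e1.trans e2.symm)
    rwa [quotLift_quotRestrict, quotLift_quotRestrict] at this
  exact Algebra.FormallyEtale.of_formallyUnramified_and_formallySmooth

end Etale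

end Groth.Agent.Helper7.Hens
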