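import Mathlib
import Groth.Agent.Lib.Helper7.Hens.DirectLimitMain
import Groth.Agent.Lib.Helper7.Hens.FinPresIff
import Groth.Agent.Lib.Helper7.Hens.Universal

set_option linter.style.haveILetI false
set_option linter.unusedVariables false
set_option linter.unusedSectionVars false

/-! helper7: compact objects among henselian pairs are Henselian finitely presented (retract lemma, two directed systems). -/

namespace Groth.Agent.Helper7.HfpCompact

open Groth.Agent.Helper7.Hens

universe u

theorem map_jacobson_le_of_surjective {R S : Type*} [CommRing R] [CommRing S] (f : R →+* S)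
    (hf : Function.Surjective f) :
    (Ideal.jacobson (⊥ : Ideal R)).map f ≤ Ideal.jacobson ⊥ := by
  rw [Ideal.map_le_iff_le_comap]
  intro x hx
  rw [Ideal.mem_comap, Ideal.mem_jacobson_bot]
  intro y'
  obtain ⟨y, rfl⟩ := hf y'
  have := (Ideal.mem_jacobson_bot.mp hx y).map f
  rwa [map_add, map_mul, map_one] at this

section DL

variable {κ : Type u} [Preorder κ] [IsDirectedOrder κ] [Nonempty κ]
  (Ra : κ → Type u) [∀ a, CommRing (Ra a)]
  (t : ∀ a b : κ, a ≤ b → (Ra a →+* Ra b)) [DirectedSystem Ra (fun a b h => t a b h)]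

theorem dl_lift_bijective (B : Type u) [CommRing B] (ψ : ∀ a, Ra a →+* B)
    (hψ : ∀ i j hij x, ψ j (t i j hij x) = ψ i x)
    (hsurj : ∀ b : B, ∃ a x, ψ a x = b)
    (hinj : ∀ a x, ψ a x = 0 → ∃ (b : κ) (hab : a ≤ b), t a b hab x = 0) :
    Function.Bijective (DirectLimit.Ring.lift Ra t B ψ hψ) := by
  constructor
  · rw [injective_iff_map_eq_zero]
    intro z hz
    obtain ⟨a, x, rfl⟩ := dl_exists_of Ra t z
    rw [DirectLimit.Ring.lift_of] at hz
    obtain ⟨b, hab, hb⟩ := hinj a x hz
    rw [← DirectLimit.Ring.of_f hab, hb, map_zero]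
  · intro b
    obtain ⟨a, x, rfl⟩ := hsurj b
    exact ⟨DirectLimit.Ring.of Ra t a x, DirectLimit.Ring.lift_of _ _ _ _ _⟩

end DL

section Retract

variable (A : Type u) [CommRing A] (I : Ideal A)

/-- **Retract lemma.** If `B` is a retract of a quotient of a Henselized polynomial ring `P` by a
finitely generated ideal, compatibly with a surjection `P → B`, then the kernel of `P → B` is
finitely generated. -/
theorem ker_fg_of_retract (n : ℕ) (P : Type u) [CommRing P]
    [Algebra (MvPolynomial (Fin n) A) P] [Algebra A P] [IsScalarTower A (MvPolynomial (Fin n) A) P]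
    (hP : Hens2.IsPairHenselization (MvPolynomial (Fin n) A)
      (I.map (algebraMap A (MvPolynomial (Fin n) A))) P)
    (B : Type u) [CommRing B] [Algebra A B] (π : P →ₐ[A] B)
    (𝔞 : Ideal P) (h𝔞 : 𝔞.FG) (h𝔞π : ∀ x ∈ 𝔞, π.toRingHom x = 0)
    (φ : B →ₐ[A] P ⧸ 𝔞)
    (hφ : ∀ b, Ideal.Quotient.lift 𝔞 π.toRingHom h𝔞π (φ b) = b) :
    (RingHom.ker π.toRingHom).FG := by
  classical
  let Q := MvPolynomial (Fin n) A
  let xt : Fin n → P := fun i => algebraMap Q P (MvPolynomial.X i)
  have hc : ∀ i, ∃ c : P, Ideal.Quotient.mk 𝔞 c = φ (π (xt i)) :=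
    fun i => Ideal.Quotient.mk_surjective _
  choose c hc using hc
  let 𝔎 : Ideal P := 𝔞 ⊔ Ideal.span (Set.range (fun i => xt i - c i))
  have h𝔎fg : 𝔎.FG := Submodule.FG.sup h𝔞 (Submodule.fg_span (Set.finite_range _))
  have hπc : ∀ i, π (c i) = π (xt i) := by
    intro i
    have h1 := hφ (π (xt i))
    rw [← hc i] at h1
    exact h1
  have hle : 𝔎 ≤ RingHom.ker π.toRingHom := by
    refine sup_le (fun x hx => h𝔞π x hx) ?_
    rw [Ideal.span_le]
    rintro _ ⟨i, rfl⟩
    change π (xt i - c i) = 0
    rw [map_sub, hπc, sub_self]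
  suffices hge : RingHom.ker π.toRingHom ≤ 𝔎 by
    rw [le_antisymm hge hle]; exact h𝔎fg
  -- the two maps `P → P ⧸ 𝔎`
  let D := P ⧸ 𝔎
  let q : P →+* D := Ideal.Quotient.mk 𝔎
  let r : P ⧸ 𝔞 →+* D := Ideal.Quotient.factor (le_sup_left : 𝔞 ≤ 𝔎)
  let g₁ : P →+* D := q
  let g₂ : P →+* D := (r.comp φ.toRingHom).comp π.toRingHom
  have hA : ∀ α : A, g₂ (algebraMap A P α) = g₁ (algebraMap A P α) := by
    intro α
    change r (φ (π (algebraMap A P α))) = q (algebraMap A P α)
    rw [π.commutes, φ.commutes]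
    rfl
  have hres : g₁.comp (algebraMap Q P) = g₂.comp (algebraMap Q P) := by
    apply MvPolynomial.ringHom_ext
    · intro α
      have h1 : algebraMap Q P (MvPolynomial.C α) = algebraMap A P α := by
        rw [← MvPolynomial.algebraMap_eq, ← IsScalarTower.algebraMap_apply]
      change g₁ (algebraMap Q P (MvPolynomial.C α)) = g₂ (algebraMap Q P (MvPolynomial.C α))
      rw [h1, hA]
    · intro i
      change q (xt i) = r (φ (π (xt i)))
      rw [← hc i]
      change q (xt i) = q (c i)
      rw [← sub_eq_zero, ← map_sub, Ideal.Quotient.eq_zero_iff_mem]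
      exact (le_sup_right : _ ≤ 𝔎) (Ideal.subset_span ⟨i, rfl⟩)
  have hjac : (I.map (algebraMap A Q)).map (g₁.comp (algebraMap Q P)) ≤ Ideal.jacobson ⊥ := by
    rw [← Ideal.map_map]
    exact le_trans (Ideal.map_mono hP.1.jac)
      (map_jacobson_le_of_surjective q Ideal.Quotient.mk_surjective)
  have heq : g₁ = g₂ := ringHom_eq_of_isPairHenselization hP g₁ g₂ hres hjac
  intro x hx
  have h1 : g₂ x = 0 := by
    change r (φ (π x)) = 0
    have : π x = 0 := hx
    rw [this, map_zero, map_zero]
  rw [← heq] at h1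
  exact Ideal.Quotient.eq_zero_iff_mem.mp h1

end Retract

section Compact

variable (A : Type u) [CommRing A] (I : Ideal A) (B : Type u) [CommRing B] [Algebra A B]

/-- The factorization half of compactness of `B` among directed systems of henselian pairs. -/
def Compact : Prop :=
  ∀ (κ : Type u) [Preorder κ] [IsDirectedOrder κ] [Nonempty κ]
    (Ra : κ → Type u) [∀ a, CommRing (Ra a)] [∀ a, Algebra A (Ra a)]
    [∀ a, HenselianRing (Ra a) (I.map (algebraMap A (Ra a)))]
    (t : ∀ a b : κ, a ≤ b → (Ra a →+* Ra b)) [DirectedSystem Ra (fun a b hab => t a b hab)],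
    (∀ (a b : κ) (hab : a ≤ b), (t a b hab).comp (algebraMap A (Ra a)) = algebraMap A (Ra b)) →
    ∀ [Algebra A (DirectLimit Ra t)],
    (∀ (a : κ) (x : A), algebraMap A (DirectLimit Ra t) x =
      DirectLimit.Ring.of Ra t a (algebraMap A (Ra a) x)) →
    ∀ χ : B →ₐ[A] DirectLimit Ra t, ∃ (a : κ) (φ : B →ₐ[A] Ra a),
        ∀ x : B, DirectLimit.Ring.of Ra t a (φ x) = χ x

variable {A I B}

/-- If `B` is the colimit of a directed system of henselian pairs, compactness gives a section of
one of the structure maps. -/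
theorem exists_section_of_compact (hc : Compact A I B)
    {κ : Type u} [Preorder κ] [IsDirectedOrder κ] [Nonempty κ]
    (Ra : κ → Type u) [∀ a, CommRing (Ra a)] [∀ a, Algebra A (Ra a)]
    [∀ a, HenselianRing (Ra a) (I.map (algebraMap A (Ra a)))]
    (t : ∀ a b : κ, a ≤ b → (Ra a →+* Ra b)) [DirectedSystem Ra (fun a b hab => t a b hab)]
    (ht : ∀ (a b : κ) (hab : a ≤ b), (t a b hab).comp (algebraMap A (Ra a)) = algebraMap A (Ra b))
    (ψ : ∀ a, Ra a →ₐ[A] B) (hψ : ∀ i j hij x, ψ j (t i j hij x) = ψ i x)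
    (hbij : Function.Bijective (DirectLimit.Ring.lift Ra t B (fun a => (ψ a).toRingHom) hψ)) :
    ∃ (a : κ) (φ : B →ₐ[A] Ra a), ∀ x : B, ψ a (φ x) = x := by
  let a₀ : κ := Classical.arbitrary κ
  letI algL : Algebra A (DirectLimit Ra t) :=
    ((DirectLimit.Ring.of Ra t a₀).comp (algebraMap A (Ra a₀))).toAlgebra
  have halg : ∀ (a : κ) (x : A), algebraMap A (DirectLimit Ra t) x =
      DirectLimit.Ring.of Ra t a (algebraMap A (Ra a) x) := by
    intro a x
    obtain ⟨c, h0c, hac⟩ := exists_ge_ge a₀ a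
    change DirectLimit.Ring.of Ra t a₀ (algebraMap A (Ra a₀) x) = _
    rw [← DirectLimit.Ring.of_f h0c, ← DirectLimit.Ring.of_f hac]
    congr 1
    exact (RingHom.congr_fun (ht a₀ c h0c) x).trans (RingHom.congr_fun (ht a c hac) x).symm
  let Λ := DirectLimit.Ring.lift Ra t B (fun a => (ψ a).toRingHom) hψ
  let e : DirectLimit Ra t ≃+* B := RingEquiv.ofBijective Λ hbij
  have hΛA : ∀ x : A, Λ (algebraMap A (DirectLimit Ra t) x) = algebraMap A B x := by
    intro x
    rw [halg a₀ x]
    change (ψ a₀) (algebraMap A (Ra a₀) x) = _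
    rw [(ψ a₀).commutes]
  let χ : B →ₐ[A] DirectLimit Ra t :=
    { e.symm.toRingHom with
      commutes' := by
        intro x
        change e.symm (algebraMap A B x) = _
        rw [← hΛA x]
        exact e.symm_apply_apply (algebraMap A (DirectLimit Ra t) x) }
  obtain ⟨a, φ, hφ⟩ := hc κ Ra t ht halg χ
  refine ⟨a, φ, fun x => ?_⟩
  have h1 : Λ (DirectLimit.Ring.of Ra t a (φ x)) = ψ a (φ x) := rfl
  rw [← h1, hφ x]
  exact e.apply_symm_apply x

end Compact

section Step2

variable {A : Type u} [CommRing A] {I : Ideal A} {B : Type u} [CommRing B] [Algebra A B]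

/-- The henselian pair structure on a quotient of a henselization. -/
theorem henselianRing_quotient (R₀ : Type u) [CommRing R₀] [Algebra A R₀] (P : Type u) [CommRing P]
    [Algebra R₀ P] [Algebra A P] [IsScalarTower A R₀ P]
    (hP : Hens2.IsPairHenselization R₀ (I.map (algebraMap A R₀)) P) (𝔞 : Ideal P) :
    HenselianRing (P ⧸ 𝔞) (I.map (algebraMap A (P ⧸ 𝔞))) := by
  have h1 : HenselianRing P (I.map (algebraMap A P)) := by
    have := hP.1
    rw [Ideal.map_map, ← IsScalarTower.algebraMap_eq] at this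
    exact this
  have hint : Algebra.IsIntegral P (P ⧸ 𝔞) :=
    Algebra.isIntegral_of_surjective Ideal.Quotient.mk_surjective
  have h2 := ((Hensel.Gabber.of_henselianRing h1).of_isIntegral (B := P ⧸ 𝔞)).henselianRing
  rw [Ideal.map_map] at h2
  exact h2

theorem ker_fg_of_compact (hc : Compact A I B) (n : ℕ) (P : Type u) [CommRing P]
    [Algebra (MvPolynomial (Fin n) A) P] [Algebra A P] [IsScalarTower A (MvPolynomial (Fin n) A) P]
    (hP : Hens2.IsPairHenselization (MvPolynomial (Fin n) A)
      (I.map (algebraMap A (MvPolynomial (Fin n) A))) P)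
    (π : P →ₐ[A] B) (hπ : Function.Surjective π) :
    (RingHom.ker π.toRingHom).FG := by
  classical
  let 𝔎 : Ideal P := RingHom.ker π.toRingHom
  let κ := Finset 𝔎
  let 𝔞 : κ → Ideal P := fun a => Ideal.span ((fun k : 𝔎 => (k : P)) '' (a : Set 𝔎))
  have h𝔞mono : ∀ a b : κ, a ≤ b → 𝔞 a ≤ 𝔞 b := fun a b hab =>
    Ideal.span_mono (Set.image_mono (Finset.coe_subset.mpr hab))
  have h𝔞le : ∀ a : κ, 𝔞 a ≤ 𝔎 := by
    intro a
    rw [Ideal.span_le]
    rintro _ ⟨k, -, rfl⟩
    exact k.2
  let Ra : κ → Type u := fun a => P ⧸ 𝔞 a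
  letI instH : ∀ a, HenselianRing (Ra a) (I.map (algebraMap A (Ra a))) := fun a =>
    henselianRing_quotient (MvPolynomial (Fin n) A) P hP (𝔞 a)
  let t : ∀ a b : κ, a ≤ b → (Ra a →+* Ra b) := fun a b hab =>
    Ideal.Quotient.factor (h𝔞mono a b hab)
  haveI instDS : DirectedSystem Ra (fun a b hab => t a b hab) := by
    constructor
    · intro a x
      obtain ⟨p, rfl⟩ := Ideal.Quotient.mk_surjective x
      rfl
    · intro c b a hab hbc x
      obtain ⟨p, rfl⟩ := Ideal.Quotient.mk_surjective x
      rfl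
  have ht : ∀ (a b : κ) (hab : a ≤ b),
      (t a b hab).comp (algebraMap A (Ra a)) = algebraMap A (Ra b) := by
    intro a b hab
    ext x
    rfl
  let ψ : ∀ a, Ra a →ₐ[A] B := fun a =>
    Ideal.Quotient.liftₐ (𝔞 a) π (fun x hx => h𝔞le a hx)
  have hψmk : ∀ a (p : P), ψ a (Ideal.Quotient.mk (𝔞 a) p) = π p := fun a p => rfl
  have hψ : ∀ i j hij x, ψ j (t i j hij x) = ψ i x := by
    intro i j hij x
    obtain ⟨p, rfl⟩ := Ideal.Quotient.mk_surjective x
    rfl
  have hbij : Function.Bijective
      (DirectLimit.Ring.lift Ra t B (fun a => (ψ a).toRingHom) hψ) := by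
    apply dl_lift_bijective
    · intro b
      obtain ⟨p, rfl⟩ := hπ b
      exact ⟨∅, Ideal.Quotient.mk _ p, rfl⟩
    · intro a x hx
      obtain ⟨p, rfl⟩ := Ideal.Quotient.mk_surjective x
      have hp : p ∈ 𝔎 := hx
      refine ⟨insert ⟨p, hp⟩ a, Finset.subset_insert _ _, ?_⟩
      change Ideal.Quotient.mk (𝔞 (insert ⟨p, hp⟩ a)) p = 0
      rw [Ideal.Quotient.eq_zero_iff_mem]
      apply Ideal.subset_span
      exact ⟨⟨p, hp⟩, Finset.mem_coe.mpr (Finset.mem_insert_self _ _), rfl⟩
  obtain ⟨a, φ, hφ⟩ := exists_section_of_compact hc Ra t ht ψ hψ hbij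
  have hfg : (𝔞 a).FG := Submodule.fg_span (Set.Finite.image _ a.finite_toSet)
  exact ker_fg_of_retract A I n P hP B π (𝔞 a) hfg (fun x hx => h𝔞le a hx) φ hφ

end Step2

section Step1

variable {A : Type u} [CommRing A] {I : Ideal A} {B : Type u} [CommRing B] [Algebra A B]

/-- The henselized polynomial ring on the variables indexed by a finite subset of `B`. -/
abbrev Ps (A : Type u) [CommRing A] (I : Ideal A) {B : Type u} (s : Finset B) : Type u :=
  Hens.H (MvPolynomial s A) (I.map (algebraMap A (MvPolynomial s A)))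

/-- Evaluation of the variables at the corresponding elements. -/
noncomputable abbrev evs (A : Type u) [CommRing A] {B : Type u} [CommRing B] [Algebra A B]
    (s : Finset B) : MvPolynomial s A →ₐ[A] B :=
  MvPolynomial.aeval (fun i : s => (i : B))

theorem evs_cond (s : Finset B) :
    (I.map (algebraMap A (MvPolynomial s A))).map (evs A s).toRingHom ≤
      I.map (algebraMap A B) := by
  have h0 : (evs A s).toRingHom.comp (algebraMap A (MvPolynomial s A)) = algebraMap A B :=
    (evs A s).comp_algebraMap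
  rw [Ideal.map_map, h0]

variable [hB : HenselianRing B (I.map (algebraMap A B))]

theorem exists_πs (s : Finset B) :
    ∃! g : Ps A I s →+* B, g.comp (algebraMap (MvPolynomial s A) (Ps A I s)) =
      (evs A s).toRingHom :=
  universal B (I.map (algebraMap A B)) (evs A s).toRingHom hB (evs_cond s)

/-- The canonical map from the henselized polynomial ring to `B`. -/
noncomputable def πs (s : Finset B) : Ps A I s →+* B := (exists_πs (I := I) s).choose

theorem πs_comp (s : Finset B) :
    (πs (I := I) s).comp (algebraMap (MvPolynomial s A) (Ps A I s)) = (evs A s).toRingHom :=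
  (exists_πs (I := I) s).choose_spec.1

theorem πs_algebraMap (s : Finset B) (q : MvPolynomial s A) :
    πs (I := I) s (algebraMap (MvPolynomial s A) (Ps A I s) q) = evs A s q :=
  RingHom.congr_fun (πs_comp s) q

theorem πs_unique (s : Finset B) (g : Ps A I s →+* B)
    (hg : g.comp (algebraMap (MvPolynomial s A) (Ps A I s)) = (evs A s).toRingHom) :
    g = πs (I := I) s :=
  (exists_πs (I := I) s).choose_spec.2 g hg

/-- The image of the henselized polynomial ring, as a subalgebra. -/
noncomputable def Ss (s : Finset B) : Subalgebra A B :=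
  { (πs (I := I) s).range with
    algebraMap_mem' := fun a =>
      ⟨algebraMap (MvPolynomial s A) (Ps A I s) (MvPolynomial.C a), by
        rw [πs_algebraMap, ← MvPolynomial.algebraMap_eq, AlgHom.commutes]⟩ }

theorem mem_Ss {s : Finset B} {x : B} : x ∈ Ss (I := I) s ↔ ∃ y, πs (I := I) s y = x := Iff.rfl

theorem Ss_mono {s s' : Finset B} (h : s ⊆ s') : Ss (I := I) s ≤ Ss (I := I) s' := by
  let ρ : MvPolynomial s A →ₐ[A] MvPolynomial s' A :=
    MvPolynomial.rename (fun i : s => (⟨i, h i.2⟩ : s'))
  let φ : MvPolynomial s A →+* Ps A I s' :=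
    (algebraMap (MvPolynomial s' A) (Ps A I s')).comp ρ.toRingHom
  have hφ : (I.map (algebraMap A (MvPolynomial s A))).map φ ≤
      (I.map (algebraMap A (MvPolynomial s' A))).map
        (algebraMap (MvPolynomial s' A) (Ps A I s')) := by
    have h0 : ρ.toRingHom.comp (algebraMap A (MvPolynomial s A)) =
        algebraMap A (MvPolynomial s' A) := ρ.comp_algebraMap
    rw [← Ideal.map_map, Ideal.map_map (algebraMap A (MvPolynomial s A)), h0]
  obtain ⟨θ, hθ, -⟩ := universal (Ps A I s') _ φ Hens.henselianRing hφ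
  have h1 : (πs (I := I) s').comp θ = πs (I := I) s := by
    apply πs_unique
    rw [RingHom.comp_assoc, hθ, ← RingHom.comp_assoc, πs_comp]
    have : (evs A s').comp ρ = evs A s := by
      apply MvPolynomial.algHom_ext
      intro i
      simp [ρ, evs]
    exact congrArg AlgHom.toRingHom this
  rintro x ⟨y, rfl⟩
  exact ⟨θ y, RingHom.congr_fun h1 y⟩

theorem henselianRing_Ss (s : Finset B) :
    HenselianRing (Ss (I := I) s) (I.map (algebraMap A (Ss (I := I) s))) := by
  let S := Ss (I := I) s
  let P := Ps A I s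
  let f : P →+* S := RingHom.codRestrict (πs (I := I) s) S (fun x => ⟨x, rfl⟩)
  have hf : Function.Surjective f := by
    rintro ⟨x, y, rfl⟩
    exact ⟨y, rfl⟩
  letI : Algebra P S := f.toAlgebra
  have hint : Algebra.IsIntegral P S := Algebra.isIntegral_of_surjective hf
  have h2 := ((Hensel.Gabber.of_henselianRing
    (Hens.henselianRing (A := MvPolynomial s A)
      (I := I.map (algebraMap A (MvPolynomial s A))))).of_isIntegral (B := S)).henselianRing
  rw [Ideal.map_map, Ideal.map_map] at h2
  have h3 : ((algebraMap P S).comp (algebraMap (MvPolynomial s A) P)).comp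
      (algebraMap A (MvPolynomial s A)) = algebraMap A S := by
    ext a
    change πs (I := I) s (algebraMap (MvPolynomial s A) P (algebraMap A _ a)) = algebraMap A B a
    rw [πs_algebraMap, AlgHom.commutes]
  rw [h3] at h2
  exact h2

theorem exists_surjective_of_compact (hc : Compact A I B) :
    ∃ s : Finset B, Function.Surjective (πs (I := I) s) := by
  classical
  let κ := Finset B
  let Ra : κ → Type u := fun s => Ss (I := I) s
  letI instH : ∀ a, HenselianRing (Ra a) (I.map (algebraMap A (Ra a))) := fun a =>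
    henselianRing_Ss a
  let t : ∀ a b : κ, a ≤ b → (Ra a →+* Ra b) := fun a b hab =>
    (Subalgebra.inclusion (Ss_mono (I := I) hab)).toRingHom
  haveI instDS : DirectedSystem Ra (fun a b hab => t a b hab) := by
    constructor
    · intro a x
      rfl
    · intro c b a hab hbc x
      rfl
  have ht : ∀ (a b : κ) (hab : a ≤ b),
      (t a b hab).comp (algebraMap A (Ra a)) = algebraMap A (Ra b) := by
    intro a b hab
    ext x
    rfl
  let ψ : ∀ a, Ra a →ₐ[A] B := fun a => (Ss (I := I) a).val
  have hψ : ∀ i j hij x, ψ j (t i j hij x) = ψ i x := fun i j hij x => rfl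
  have hbij : Function.Bijective
      (DirectLimit.Ring.lift Ra t B (fun a => (ψ a).toRingHom) hψ) := by
    apply dl_lift_bijective
    · intro b
      have hb : b ∈ Ss (I := I) ({b} : Finset B) := by
        refine ⟨algebraMap (MvPolynomial ({b} : Finset B) A) (Ps A I ({b} : Finset B))
          (MvPolynomial.X (⟨b, Finset.mem_singleton_self b⟩ : ({b} : Finset B))), ?_⟩
        rw [πs_algebraMap]
        simp [evs]
      exact ⟨({b} : Finset B), (⟨b, hb⟩ : Ss (I := I) ({b} : Finset B)), rfl⟩
    · intro a x hx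
      refine ⟨a, le_rfl, ?_⟩
      have : x = 0 := Subtype.ext hx
      rw [this, map_zero]
  obtain ⟨s, φ, hφ⟩ := exists_section_of_compact hc Ra t ht ψ hψ hbij
  refine ⟨s, fun x => ?_⟩
  have h1 : ((φ x : Ss (I := I) s) : B) = x := hφ x
  obtain ⟨y, hy⟩ := (φ x).2
  exact ⟨y, hy.trans h1⟩

end Step1

section Main

/-- Compact objects among henselian pairs over `(A, I)` are Henselian finitely presented. -/
theorem hfp_of_compact (A : Type u) [CommRing A] (I : Ideal A)
    (B : Type u) [CommRing B] [Algebra A B]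
    [hB : HenselianRing B (I.map (algebraMap A B))] (hc : Compact A I B) :
    ∃ (R : Type u) (_ : CommRing R) (_ : Algebra A R) (_ : Algebra R B) (_ : IsScalarTower A R B),
      Algebra.FinitePresentation A R ∧ Hens2.IsPairHenselization R (I.map (algebraMap A R)) B := by
  classical
  obtain ⟨s, hs⟩ := exists_surjective_of_compact hc
  let n := s.card
  let e : s ≃ Fin n := s.equivFin
  let P := Ps A I s
  let ρ : MvPolynomial (Fin n) A ≃ₐ[A] MvPolynomial s A := MvPolynomial.renameEquiv A e.symm
  letI algQP : Algebra (MvPolynomial (Fin n) A) P :=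
    ((algebraMap (MvPolynomial s A) P).comp (ρ : MvPolynomial (Fin n) A →+* MvPolynomial s A)).toAlgebra
  letI algAP : Algebra A P :=
    ((algebraMap (MvPolynomial s A) P).comp (algebraMap A (MvPolynomial s A))).toAlgebra
  have hQP : ∀ q : MvPolynomial (Fin n) A,
      algebraMap (MvPolynomial (Fin n) A) P q = algebraMap (MvPolynomial s A) P (ρ q) := fun q => rfl
  have hAP : ∀ a : A, algebraMap A P a =
      algebraMap (MvPolynomial s A) P (algebraMap A (MvPolynomial s A) a) := fun a => rfl
  haveI tower : IsScalarTower A (MvPolynomial (Fin n) A) P := by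
    refine IsScalarTower.of_algebraMap_eq (fun a => ?_)
    rw [hAP, hQP, AlgEquiv.commutes]
  have hP : Hens2.IsPairHenselization (MvPolynomial (Fin n) A)
      (I.map (algebraMap A (MvPolynomial (Fin n) A))) P := by
    refine isPairHenselization_of_ringEquiv (ρ : MvPolynomial (Fin n) A ≃+* MvPolynomial s A)
      (I₂ := I.map (algebraMap A (MvPolynomial s A))) ?_ (fun r => rfl)
      (isPairHenselization_H _ _)
    rw [Ideal.map_map]
    congr 1
    refine RingHom.ext (fun a => ?_)
    exact ρ.commutes a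
  let π : P →ₐ[A] B :=
    { πs (I := I) s with
      commutes' := by
        intro a
        change πs (I := I) s (algebraMap (MvPolynomial s A) P (algebraMap A _ a)) = _
        rw [πs_algebraMap, AlgHom.commutes] }
  have hπ : Function.Surjective π := hs
  have hfg := ker_fg_of_compact hc n P hP π hπ
  exact exists_finitePresentation_of_quotient A I B n P hP π hπ hfg

/-- The statement S17618. -/
theorem S17618_main (A : Type u) [CommRing A] (I : Ideal A)
    [HenselianRing A I] (B : Type u) [CommRing B] [Algebra A B]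
    [HenselianRing B (I.map (algebraMap A B))]
    (h : ∀ (κ : Type u) [Preorder κ] [IsDirectedOrder κ] [Nonempty κ]
      (Ra : κ → Type u) [∀ a, CommRing (Ra a)] [∀ a, Algebra A (Ra a)]
      [∀ a, HenselianRing (Ra a) (I.map (algebraMap A (Ra a)))]
      (t : ∀ a b : κ, a ≤ b → (Ra a →+* Ra b)) [DirectedSystem Ra (fun a b hab => t a b hab)],
      (∀ (a b : κ) (hab : a ≤ b), (t a b hab).comp (algebraMap A (Ra a)) = algebraMap A (Ra b)) →
      ∀ [Algebra A (DirectLimit Ra t)],
      (∀ (a : κ) (x : A), algebraMap A (DirectLimit Ra t) x =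
        DirectLimit.Ring.of Ra t a (algebraMap A (Ra a) x)) →
      (∀ χ : B →ₐ[A] DirectLimit Ra t, ∃ (a : κ) (φ : B →ₐ[A] Ra a),
          ∀ x : B, DirectLimit.Ring.of Ra t a (φ x) = χ x) ∧
      ∀ (a : κ) (φ ψ : B →ₐ[A] Ra a),
        (∀ x : B, DirectLimit.Ring.of Ra t a (φ x) = DirectLimit.Ring.of Ra t a (ψ x)) →
        ∃ (b : κ) (hab : a ≤ b), ∀ x : B, t a b hab (φ x) = t a b hab (ψ x)) :
    ∃ (R : Type u) (_ : CommRing R) (_ : Algebra A R) (_ : Algebra R B) (_ : IsScalarTower A R B),
      Algebra.FinitePresentation A R ∧ Hens2.IsPairHenselization R (I.map (algebraMap A R)) B := by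
  apply hfp_of_compact A I B
  intro κ _ _ _ Ra _ _ _ t _ ht _ halg χ
  exact (h κ Ra t ht halg).1 χ

end Main

end Groth.Agent.Helper7.HfpCompact
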