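import Mathlib
import Groth.Agent.Lib.Helper7.Hens.FinPres
import Groth.Agent.Lib.Helper7.Hensel.MvHensel
import Groth.Agent.Lib.Helper7.Hensel.Local

set_option autoImplicit false
set_option linter.style.haveILetI false
set_option linter.unusedVariables false
set_option linter.unusedSectionVars false

open MvPolynomial

/-! helper7: a henselian finitely presented map of henselian pairs that is surjective modulo I is surjective; systems Y - G(Y) with G in I A[Y]. -/

namespace Groth.Agent.Helper7.HfpSurj

open Groth.Agent.Helper7.Hensel Groth.Agent.Helper7.Hens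

universe u

section Jac

variable {A : Type u} [CommRing A] (I : Ideal A) {ι : Type} [Fintype ι] [DecidableEq ι]

/-- Polynomials with coefficients in `I` evaluate into `I B`. -/
theorem aeval_mem_of_mem_map_C {B : Type*} [CommRing B] [Algebra A B]
    (G : MvPolynomial ι A) (hG : G ∈ I.map (C : A →+* MvPolynomial ι A)) (b : ι → B) :
    aeval b G ∈ I.map (algebraMap A B) := by
  have h1 : (aeval b : MvPolynomial ι A →ₐ[A] B).toRingHom.comp C = algebraMap A B := by
    ext a
    simp
  have h2 := Ideal.mem_map_of_mem (aeval b : MvPolynomial ι A →ₐ[A] B).toRingHom hG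
  rw [Ideal.map_map, h1] at h2
  exact h2

/-- The system `Y_i - G_i` with `G_i ∈ I A[Y]`. -/
noncomputable def sys (G : ι → MvPolynomial ι A) : ι → MvPolynomial ι A := fun i => X i - G i

theorem jacDet_sys_sub_one_mem (G : ι → MvPolynomial ι A)
    (hG : ∀ i, G i ∈ I.map (C : A →+* MvPolynomial ι A)) :
    jacDet (sys G) - 1 ∈ I.map (C : A →+* MvPolynomial ι A) := by
  have hker : RingHom.ker (map (Ideal.Quotient.mk I) : MvPolynomial ι A →+* MvPolynomial ι (A ⧸ I))
      = I.map (C : A →+* MvPolynomial ι A) := by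
    rw [MvPolynomial.ker_map, Ideal.mk_ker]
  rw [← hker, RingHom.mem_ker, map_sub, map_one, sub_eq_zero]
  unfold jacDet
  rw [RingHom.map_det]
  have : (map (Ideal.Quotient.mk I) : MvPolynomial ι A →+* MvPolynomial ι (A ⧸ I)).mapMatrix
      (Matrix.of fun i j : ι => (sys G j).pderiv i) = 1 := by
    apply Matrix.ext
    intro i j
    rw [RingHom.mapMatrix_apply, Matrix.map_apply, Matrix.of_apply]
    have hGj : map (Ideal.Quotient.mk I) (G j) = 0 := by
      have := hG j
      rw [← hker, RingHom.mem_ker] at this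
      exact this
    show map (Ideal.Quotient.mk I) (pderiv i (sys G j)) = _
    rw [← pderiv_map]
    unfold sys
    rw [map_sub, hGj, sub_zero, map_X, pderiv_X, Matrix.one_apply]
    by_cases h : i = j
    · subst h; simp
    · rw [if_neg h, Pi.single_apply, if_neg (Ne.symm h)]
  rw [this, Matrix.det_one]

end Jac

section Sol

variable {A : Type u} [CommRing A] (I : Ideal A) {ι : Type} [Fintype ι] [DecidableEq ι]
  (G : ι → MvPolynomial ι A) (hG : ∀ i, G i ∈ I.map (C : A →+* MvPolynomial ι A))

include hG

theorem exists_sol (hGab : Gabber A I) :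
    ∃ α : ι → A, (∀ i, eval α (sys G i) = 0) ∧ ∀ i, α i ∈ I := by
  have hmemI : ∀ (P : MvPolynomial ι A), P ∈ I.map (C : A →+* MvPolynomial ι A) →
      ∀ a : ι → A, eval a P ∈ I := by
    intro P hP a
    have := aeval_mem_of_mem_map_C I P hP a
    rw [Algebra.algebraMap_self, Ideal.map_id, MvPolynomial.aeval_eq_eval] at this
    exact this
  obtain ⟨α, hα1, hα2⟩ := Gabber.exists_solution hGab (sys G) (fun _ => 0) (by
    intro i
    unfold sys
    rw [map_sub, eval_X]
    have := hmemI (G i) (hG i) (fun _ => 0)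
    rw [zero_sub]
    exact I.neg_mem this) (by
    have h1 := hmemI _ (jacDet_sys_sub_one_mem I G hG) (fun _ => 0)
    rw [map_sub, map_one] at h1
    have h2 : Ideal.Quotient.mk I (eval (fun _ => 0) (jacDet (sys G))) = 1 := by
      rw [← map_one (Ideal.Quotient.mk I)]
      exact Ideal.Quotient.eq.mpr h1
    rw [h2]
    exact isUnit_one)
  refine ⟨α, hα1, fun i => ?_⟩
  have := hα2 i
  rwa [sub_zero] at this

theorem isUnit_aeval_jacDet {B : Type u} [CommRing B] [Algebra A B]
    (hjac : I.map (algebraMap A B) ≤ Ideal.jacobson ⊥) (b : ι → B) :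
    IsUnit (aeval b (jacDet (sys G))) := by
  have h1 := aeval_mem_of_mem_map_C I _ (jacDet_sys_sub_one_mem I G hG) b
  have h2 := Ideal.mem_jacobson_bot.mp (hjac h1) 1
  rw [mul_one, map_sub, map_one, sub_add_cancel] at h2
  exact h2

/-- The algebra hom out of the etale algebra attached to a solution. -/
noncomputable def solLoc {B : Type u} [CommRing B] [Algebra A B]
    (hjac : I.map (algebraMap A B) ≤ Ideal.jacobson ⊥) (b : ι → B)
    (hb : ∀ i, aeval b (sys G i) = 0) :
    Localization.Away (jacDetQuot (sys G)) →ₐ[A] B :=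
  IsLocalization.liftAlgHom (M := Submonoid.powers (jacDetQuot (sys G)))
    (f := solHom (sys G) B b hb) (by
      rintro ⟨_, k, rfl⟩
      show IsUnit (solHom (sys G) B b hb (jacDetQuot (sys G) ^ k))
      rw [map_pow]
      apply IsUnit.pow
      unfold jacDetQuot
      rw [solHom_mk]
      exact isUnit_aeval_jacDet I G hG hjac b)

theorem solLoc_X {B : Type u} [CommRing B] [Algebra A B]
    (hjac : I.map (algebraMap A B) ≤ Ideal.jacobson ⊥) (b : ι → B)
    (hb : ∀ i, aeval b (sys G i) = 0) (i : ι) :
    solLoc I G hG hjac b hb (algebraMap (JacQuot (sys G)) _ (Ideal.Quotient.mk _ (X i))) = b i := by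
  unfold solLoc
  rw [IsLocalization.liftAlgHom_apply, IsLocalization.lift_eq]
  show solHom (sys G) B b hb (Ideal.Quotient.mk _ (X i)) = b i
  rw [solHom_mk, aeval_X]

theorem sol_unique {B : Type u} [CommRing B] [Algebra A B]
    (hjac : I.map (algebraMap A B) ≤ Ideal.jacobson ⊥) (b b' : ι → B)
    (hb : ∀ i, aeval b (sys G i) = 0) (hb' : ∀ i, aeval b' (sys G i) = 0)
    (hbI : ∀ i, b i ∈ I.map (algebraMap A B)) (hb'I : ∀ i, b' i ∈ I.map (algebraMap A B)) :
    b = b' := by
  haveI : Algebra.Etale A (Localization.Away (jacDetQuot (sys G))) :=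
    etale_away_jacDet (sys G) _
  have heq : solLoc I G hG hjac b hb = solLoc I G hG hjac b' hb' := by
    apply algHom_eq_of_formallyUnramified (I.map (algebraMap A B)) hjac
    have hcomp : (Ideal.Quotient.mk (I.map (algebraMap A B))).comp
        (solLoc I G hG hjac b hb).toRingHom =
        (Ideal.Quotient.mk (I.map (algebraMap A B))).comp (solLoc I G hG hjac b' hb').toRingHom := by
      apply IsLocalization.ringHom_ext (Submonoid.powers (jacDetQuot (sys G)))
      apply Ideal.Quotient.ringHom_ext
      apply MvPolynomial.ringHom_ext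
      · intro a
        show Ideal.Quotient.mk _ (solLoc I G hG hjac b hb (algebraMap _ _
          (Ideal.Quotient.mk _ (C a)))) = Ideal.Quotient.mk _ (solLoc I G hG hjac b' hb'
          (algebraMap _ _ (Ideal.Quotient.mk _ (C a))))
        have h1 : algebraMap (JacQuot (sys G)) (Localization.Away (jacDetQuot (sys G)))
            (Ideal.Quotient.mk _ (C a)) = algebraMap A _ a := by
          rw [IsScalarTower.algebraMap_apply A (JacQuot (sys G))]
          rfl
        rw [h1, AlgHom.commutes, AlgHom.commutes]
      · intro i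
        show Ideal.Quotient.mk _ (solLoc I G hG hjac b hb (algebraMap _ _
          (Ideal.Quotient.mk _ (X i)))) = Ideal.Quotient.mk _ (solLoc I G hG hjac b' hb'
          (algebraMap _ _ (Ideal.Quotient.mk _ (X i))))
        rw [solLoc_X, solLoc_X, Ideal.Quotient.eq_zero_iff_mem.mpr (hbI i),
          Ideal.Quotient.eq_zero_iff_mem.mpr (hb'I i)]
    intro x
    have := RingHom.congr_fun hcomp x
    exact Ideal.Quotient.eq.mp this
  funext i
  rw [← solLoc_X I G hG hjac b hb i, ← solLoc_X I G hG hjac b' hb' i, heq]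

end Sol

section Main

theorem exists_sub_mem (A : Type u) [CommRing A] (I : Ideal A)
    (R : Type u) [CommRing R] [Algebra A R]
    (B : Type u) [CommRing B] [Algebra R B] [Algebra A B] [IsScalarTower A R B]
    (hB : Hens2.IsPairHenselization R (I.map (algebraMap A R)) B)
    (hsurj : Function.Surjective
      (Ideal.quotientMap (I.map (algebraMap A B)) (algebraMap A B) Ideal.le_comap_map)) (r : R) :
    ∃ a : A, r - algebraMap A R a ∈ I.map (algebraMap A R) := by
  have hIB : (I.map (algebraMap A R)).map (algebraMap R B) = I.map (algebraMap A B) := by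
    rw [Ideal.map_map, ← IsScalarTower.algebraMap_eq]
  obtain ⟨abar, ha⟩ := hsurj (Ideal.Quotient.mk _ (algebraMap R B r))
  obtain ⟨a, rfl⟩ := Ideal.Quotient.mk_surjective abar
  rw [Ideal.quotientMap_mk] at ha
  refine ⟨a, ?_⟩
  have hinj := (quotient_bijective_of_isPairHenselization hB).1
  rw [← Ideal.Quotient.eq_zero_iff_mem]
  apply hinj
  rw [Ideal.quotientMap_mk, map_zero, Ideal.Quotient.eq_zero_iff_mem, hIB, map_sub,
    ← IsScalarTower.algebraMap_apply]
  exact Ideal.Quotient.eq.mp ha.symm

theorem S17597_main (A : Type u) [CommRing A] (I : Ideal A)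
    [HenselianRing A I] (R : Type u) [CommRing R] [Algebra A R] [Algebra.FiniteType A R]
    (B : Type u) [CommRing B] [Algebra R B] [Algebra A B] [IsScalarTower A R B]
    (hB : Hens2.IsPairHenselization R (I.map (algebraMap A R)) B)
    (hsurj : Function.Surjective
      (Ideal.quotientMap (I.map (algebraMap A B)) (algebraMap A B) Ideal.le_comap_map)) :
    Function.Surjective (algebraMap A B) := by
  classical
  have hIB : (I.map (algebraMap A R)).map (algebraMap R B) = I.map (algebraMap A B) := by
    rw [Ideal.map_map, ← IsScalarTower.algebraMap_eq]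
  obtain ⟨n, f, hf⟩ := Algebra.FiniteType.iff_quotient_mvPolynomial''.mp
    (inferInstance : Algebra.FiniteType A R)
  have hch := fun i : Fin n => exists_sub_mem A I R B hB hsurj (f (X i))
  choose a ha using hch
  let π : MvPolynomial (Fin n) A →ₐ[A] R := aeval (fun i => f (X i) - algebraMap A R (a i))
  have hπX : ∀ i, π (X i) = f (X i) - algebraMap A R (a i) := fun i => aeval_X _ i
  have hπsurj : Function.Surjective π := by
    have hcomp : f = π.comp (aeval (fun i => X i + C (a i))) := by
      apply MvPolynomial.algHom_ext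
      intro i
      rw [AlgHom.comp_apply, aeval_X, map_add, hπX]
      show _ = _ + π (algebraMap A _ (a i))
      rw [AlgHom.commutes]
      ring
    have h2 : Function.Surjective (π.comp (aeval (fun i => X i + C (a i)))) := by
      rw [← hcomp]; exact hf
    exact Function.Surjective.of_comp h2
  have hmap : (I.map (C : A →+* MvPolynomial (Fin n) A)).map π.toRingHom =
      I.map (algebraMap A R) := by
    rw [Ideal.map_map]
    congr 1
    ext x
    exact π.commutes x
  have hch2 : ∀ i, ∃ G ∈ I.map (C : A →+* MvPolynomial (Fin n) A), π G = π (X i) := by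
    intro i
    have h1 : π (X i) ∈ (I.map (C : A →+* MvPolynomial (Fin n) A)).map π.toRingHom := by
      rw [hmap, hπX]; exact ha i
    exact (Ideal.mem_map_iff_of_surjective π.toRingHom hπsurj).mp h1
  choose G hG hGπ using hch2
  have hGab : Gabber A I := Gabber.of_henselianRing inferInstance
  obtain ⟨α, hα, hαI⟩ := exists_sol I G hG hGab
  let β : Fin n → B := fun i => algebraMap R B (π (X i))
  let α' : Fin n → B := fun i => algebraMap A B (α i)
  have haevalβ : ∀ p, aeval β p = algebraMap R B (π p) := by
    intro p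
    have : (aeval β : MvPolynomial (Fin n) A →ₐ[A] B) = (IsScalarTower.toAlgHom A R B).comp π := by
      apply MvPolynomial.algHom_ext
      intro i
      rw [aeval_X]; rfl
    rw [this]; rfl
  have haevalα : ∀ p, aeval α' p = algebraMap A B (eval α p) := by
    intro p
    have : (aeval α' : MvPolynomial (Fin n) A →ₐ[A] B) = (Algebra.ofId A B).comp (aeval α) := by
      apply MvPolynomial.algHom_ext
      intro i
      rw [aeval_X, AlgHom.comp_apply, aeval_X]; rfl
    rw [this, AlgHom.comp_apply, MvPolynomial.aeval_eq_eval]; rfl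
  have hβ : ∀ i, aeval β (sys G i) = 0 := by
    intro i
    rw [haevalβ]
    unfold sys
    rw [map_sub, hGπ, sub_self, map_zero]
  have hα' : ∀ i, aeval α' (sys G i) = 0 := by
    intro i
    rw [haevalα, hα, map_zero]
  have hjac : I.map (algebraMap A B) ≤ Ideal.jacobson ⊥ := by
    rw [← hIB]; exact hB.1.jac
  have hβI : ∀ i, β i ∈ I.map (algebraMap A B) := by
    intro i
    rw [← hIB]
    apply Ideal.mem_map_of_mem
    rw [hπX]; exact ha i
  have hα'I : ∀ i, α' i ∈ I.map (algebraMap A B) := fun i => Ideal.mem_map_of_mem _ (hαI i)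
  have hβα : β = α' := sol_unique I G hG hjac β α' hβ hα' hβI hα'I
  -- the image of `A` in `B`
  let J : Ideal A := RingHom.ker (algebraMap A B)
  haveI : Algebra.IsIntegral A (A ⧸ J) :=
    Algebra.isIntegral_of_surjective Ideal.Quotient.mk_surjective
  have hHens' : HenselianRing (A ⧸ J) (I.map (algebraMap A (A ⧸ J))) :=
    (hGab.of_isIntegral).henselianRing
  let ρ₀ : MvPolynomial (Fin n) A →ₐ[A] A ⧸ J := aeval (fun i => Ideal.Quotient.mk J (α i))
  have hρ₀ : ∀ p, ρ₀ p = Ideal.Quotient.mk J (eval α p) := fun p => aeval_mk_comp J α p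
  have hker : RingHom.ker π.toRingHom ≤ RingHom.ker ρ₀.toRingHom := by
    intro p hp
    rw [RingHom.mem_ker] at hp ⊢
    show ρ₀ p = 0
    rw [hρ₀, Ideal.Quotient.eq_zero_iff_mem, RingHom.mem_ker, ← haevalα, ← hβα, haevalβ]
    show algebraMap R B (π.toRingHom p) = 0
    rw [hp, map_zero]
  let ρ : R →ₐ[A] A ⧸ J := AlgHom.liftOfSurjective π hπsurj ρ₀ hker
  let κ : A ⧸ J →+* B := RingHom.kerLift (algebraMap A B)
  have hκρ : κ.comp ρ.toRingHom = algebraMap R B := by
    ext r
    obtain ⟨p, rfl⟩ := hπsurj r
    show κ (ρ (π p)) = _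
    rw [AlgHom.liftOfSurjective_apply, hρ₀]
    show algebraMap A B (eval α p) = _
    rw [← haevalα, ← hβα, haevalβ]
  have hle : (I.map (algebraMap A R)).map ρ.toRingHom ≤ I.map (algebraMap A (A ⧸ J)) := by
    rw [Ideal.map_map]
    apply le_of_eq
    congr 1
    ext x
    exact ρ.commutes x
  obtain ⟨g, hg, -⟩ := hB.2 (A ⧸ J) (I.map (algebraMap A (A ⧸ J))) ρ.toRingHom hHens' hle
  obtain ⟨g', -, hg'uniq⟩ := hB.2 B ((I.map (algebraMap A R)).map (algebraMap R B))
    (algebraMap R B) hB.1 le_rfl
  have h1 : κ.comp g = g' := by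
    apply hg'uniq
    rw [RingHom.comp_assoc, hg, hκρ]
  have h2 : RingHom.id B = g' := by
    apply hg'uniq
    rw [RingHom.id_comp]
  intro b
  obtain ⟨a, ha'⟩ := Ideal.Quotient.mk_surjective (g b)
  refine ⟨a, ?_⟩
  have h3 : κ (g b) = b := by
    have := RingHom.congr_fun (h1.trans h2.symm) b
    exact this
  rw [← h3, ← ha']
  rfl

end Main

end Groth.Agent.Helper7.HfpSurj
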