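import Mathlib
import Groth.Agent.Lib.Helper7.Hens.HfpSurj

set_option autoImplicit false
set_option linter.style.haveILetI false
set_option linter.unusedVariables false
set_option linter.unusedSectionVars false

open MvPolynomial

/-! helper7: hfp maps surjective mod I are surjective with finitely generated kernel; injectivity of maps of nilpotent thickenings from formal smoothness. -/

namespace Groth.Agent.Helper7.HfpSurj

open Groth.Agent.Helper7.Hensel Groth.Agent.Helper7.Hens

universe u

section Main

theorem surjective_and_ker_fg (A : Type u) [CommRing A] (I : Ideal A)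
    [HenselianRing A I] (R : Type u) [CommRing R] [Algebra A R] [Algebra.FinitePresentation A R]
    (B : Type u) [CommRing B] [Algebra R B] [Algebra A B] [IsScalarTower A R B]
    (hB : Hens2.IsPairHenselization R (I.map (algebraMap A R)) B)
    (hsurj : Function.Surjective
      (Ideal.quotientMap (I.map (algebraMap A B)) (algebraMap A B) Ideal.le_comap_map)) :
    Function.Surjective (algebraMap A B) ∧ (RingHom.ker (algebraMap A B)).FG := by
  classical
  have hIB : (I.map (algebraMap A R)).map (algebraMap R B) = I.map (algebraMap A B) := by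
    rw [Ideal.map_map, ← IsScalarTower.algebraMap_eq]
  obtain ⟨n, f, hf⟩ := Algebra.FiniteType.iff_quotient_mvPolynomial''.mp
    (inferInstance : Algebra.FiniteType A R)
  have hch := fun i : Fin n => exists_sub_mem A I R B hB hsurj (f (X i))
  choose a ha using hch
  let π : MvPolynomial (Fin n) A →ₐ[A] R := aeval (fun i => f (X i) - algebraMap A R (a i))
  have hπX : ∀ i, π (X i) = f (X i) - algebraMap A R (a i) := fun i => aeval_X _ i
  have hπsurj : Function.Surjective π := by
    have hcomp : f = π.comp (aeval (fun i => X i + C (a i))) := by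
      apply MvPolynomial.algHom_ext
      intro i
      rw [AlgHom.comp_apply, aeval_X, map_add, hπX]
      show _ = _ + π (algebraMap A _ (a i))
      rw [AlgHom.commutes]
      ring
    have h2 : Function.Surjective (π.comp (aeval (fun i => X i + C (a i)))) := by
      rw [← hcomp]; exact hf
    exact Function.Surjective.of_comp h2
  have hmap : (I.map (C : A →+* MvPolynomial (Fin n) A)).map π.toRingHom =
      I.map (algebraMap A R) := by
    rw [Ideal.map_map]
    congr 1
    ext x
    exact π.commutes x
  have hch2 : ∀ i, ∃ G ∈ I.map (C : A →+* MvPolynomial (Fin n) A), π G = π (X i) := by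
    intro i
    have h1 : π (X i) ∈ (I.map (C : A →+* MvPolynomial (Fin n) A)).map π.toRingHom := by
      rw [hmap, hπX]; exact ha i
    exact (Ideal.mem_map_iff_of_surjective π.toRingHom hπsurj).mp h1
  choose G hG hGπ using hch2
  have hGab : Gabber A I := Gabber.of_henselianRing inferInstance
  obtain ⟨α, hα, hαI⟩ := exists_sol I G hG hGab
  let β : Fin n → B := fun i => algebraMap R B (π (X i))
  let α' : Fin n → B := fun i => algebraMap A B (α i)
  have haevalβ : ∀ p, aeval β p = algebraMap R B (π p) := by
    intro p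
    have : (aeval β : MvPolynomial (Fin n) A →ₐ[A] B) = (IsScalarTower.toAlgHom A R B).comp π := by
      apply MvPolynomial.algHom_ext
      intro i
      rw [aeval_X]; rfl
    rw [this]; rfl
  have haevalα : ∀ p, aeval α' p = algebraMap A B (eval α p) := by
    intro p
    have : (aeval α' : MvPolynomial (Fin n) A →ₐ[A] B) = (Algebra.ofId A B).comp (aeval α) := by
      apply MvPolynomial.algHom_ext
      intro i
      rw [aeval_X, AlgHom.comp_apply, aeval_X]; rfl
    rw [this, AlgHom.comp_apply, MvPolynomial.aeval_eq_eval]; rfl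
  have hβ : ∀ i, aeval β (sys G i) = 0 := by
    intro i
    rw [haevalβ]
    unfold sys
    rw [map_sub, hGπ, sub_self, map_zero]
  have hα' : ∀ i, aeval α' (sys G i) = 0 := by
    intro i
    rw [haevalα, hα, map_zero]
  have hjac : I.map (algebraMap A B) ≤ Ideal.jacobson ⊥ := by
    rw [← hIB]; exact hB.1.jac
  have hβI : ∀ i, β i ∈ I.map (algebraMap A B) := by
    intro i
    rw [← hIB]
    apply Ideal.mem_map_of_mem
    rw [hπX]; exact ha i
  have hα'I : ∀ i, α' i ∈ I.map (algebraMap A B) := fun i => Ideal.mem_map_of_mem _ (hαI i)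
  have hβα : β = α' := sol_unique I G hG hjac β α' hβ hα' hβI hα'I
  -- the finitely generated ideal of values of the relations
  have hkerfg : (RingHom.ker π.toRingHom).FG :=
    Algebra.FinitePresentation.ker_fG_of_surjective π hπsurj
  let ev : MvPolynomial (Fin n) A →+* A := eval α
  let J : Ideal A := (RingHom.ker π.toRingHom).map ev
  have hJfg : J.FG := hkerfg.map ev
  have hJle : J ≤ RingHom.ker (algebraMap A B) := by
    rw [Ideal.map_le_iff_le_comap]
    intro p hp
    rw [Ideal.mem_comap, RingHom.mem_ker]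
    show algebraMap A B (eval α p) = 0
    rw [← haevalα, ← hβα, haevalβ]
    have : π p = 0 := hp
    rw [this, map_zero]
  haveI : Algebra.IsIntegral A (A ⧸ J) :=
    Algebra.isIntegral_of_surjective Ideal.Quotient.mk_surjective
  have hHens' : HenselianRing (A ⧸ J) (I.map (algebraMap A (A ⧸ J))) :=
    (hGab.of_isIntegral).henselianRing
  let ρ₀ : MvPolynomial (Fin n) A →ₐ[A] A ⧸ J := aeval (fun i => Ideal.Quotient.mk J (α i))
  have hρ₀ : ∀ p, ρ₀ p = Ideal.Quotient.mk J (eval α p) := fun p => aeval_mk_comp J α p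
  have hker : RingHom.ker π.toRingHom ≤ RingHom.ker ρ₀.toRingHom := by
    intro p hp
    rw [RingHom.mem_ker]
    show ρ₀ p = 0
    rw [hρ₀, Ideal.Quotient.eq_zero_iff_mem]
    exact Ideal.mem_map_of_mem ev hp
  let ρ : R →ₐ[A] A ⧸ J := AlgHom.liftOfSurjective π hπsurj ρ₀ hker
  let κ : A ⧸ J →+* B := Ideal.Quotient.lift J (algebraMap A B) (fun a ha => hJle ha)
  have hκρ : κ.comp ρ.toRingHom = algebraMap R B := by
    ext r
    obtain ⟨p, rfl⟩ := hπsurj r
    show κ (ρ (π p)) = _
    rw [AlgHom.liftOfSurjective_apply, hρ₀]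
    show algebraMap A B (eval α p) = _
    rw [← haevalα, ← hβα, haevalβ]
  have hle : (I.map (algebraMap A R)).map ρ.toRingHom ≤ I.map (algebraMap A (A ⧸ J)) := by
    rw [Ideal.map_map]
    apply le_of_eq
    congr 1
    ext x
    exact ρ.commutes x
  obtain ⟨g, hg, -⟩ := hB.2 (A ⧸ J) (I.map (algebraMap A (A ⧸ J))) ρ.toRingHom hHens' hle
  obtain ⟨g', -, hg'uniq⟩ := hB.2 B ((I.map (algebraMap A R)).map (algebraMap R B))
    (algebraMap R B) hB.1 le_rfl
  have h1 : κ.comp g = g' := by
    apply hg'uniq
    rw [RingHom.comp_assoc, hg, hκρ]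
  have h2 : RingHom.id B = g' := by
    apply hg'uniq
    rw [RingHom.id_comp]
  have h3 : ∀ b, κ (g b) = b := fun b => RingHom.congr_fun (h1.trans h2.symm) b
  have h4 : ∀ x : A ⧸ J, g (κ x) = x := by
    intro x
    obtain ⟨a, rfl⟩ := Ideal.Quotient.mk_surjective x
    show g (algebraMap A B a) = _
    rw [IsScalarTower.algebraMap_apply A R B]
    have := RingHom.congr_fun hg (algebraMap A R a)
    rw [RingHom.comp_apply] at this
    rw [this]
    exact ρ.commutes a
  refine ⟨?_, ?_⟩
  · intro b
    obtain ⟨a, ha'⟩ := Ideal.Quotient.mk_surjective (g b)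
    refine ⟨a, ?_⟩
    rw [← h3 b, ← ha']
    rfl
  · have : RingHom.ker (algebraMap A B) = J := by
      apply le_antisymm _ hJle
      intro a ha
      rw [RingHom.mem_ker] at ha
      rw [← Ideal.Quotient.eq_zero_iff_mem, ← h4 (Ideal.Quotient.mk J a)]
      show g (algebraMap A B a) = 0
      rw [ha, map_zero]
    rw [this]
    exact hJfg

end Main

section Thick

/-- A map from a formally unramified algebra to a formally smooth algebra which is an isomorphism
modulo nilpotent ideals is injective. -/
theorem injective_of_formallySmooth {k X Y : Type u} [CommRing k] [CommRing X] [CommRing Y]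
    [Algebra k X] [Algebra k Y] [Algebra.FormallySmooth k Y] [Algebra.FormallyUnramified k X]
    (f : X →ₐ[k] Y) (J : Ideal X) (hJ : IsNilpotent J) (J' : Ideal Y)
    (hmap : ∀ x ∈ J, f x ∈ J') (hinj : ∀ x, f x ∈ J' → x ∈ J)
    (hsurj : ∀ y, ∃ x, f x - y ∈ J') : Function.Injective f := by
  let fbar : X ⧸ J →ₐ[k] Y ⧸ J' := Ideal.quotientMapₐ J' f (fun x hx => hmap x hx)
  have hfbar : ∀ x, fbar (Ideal.Quotient.mk J x) = Ideal.Quotient.mk J' (f x) := fun x => rfl
  have hbij : Function.Bijective fbar := by
    constructor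
    · rw [injective_iff_map_eq_zero]
      intro x hx
      obtain ⟨x, rfl⟩ := Ideal.Quotient.mk_surjective x
      rw [hfbar, Ideal.Quotient.eq_zero_iff_mem] at hx
      exact Ideal.Quotient.eq_zero_iff_mem.mpr (hinj x hx)
    · intro y
      obtain ⟨y, rfl⟩ := Ideal.Quotient.mk_surjective y
      obtain ⟨x, hx⟩ := hsurj y
      exact ⟨Ideal.Quotient.mk J x, by rw [hfbar]; exact Ideal.Quotient.eq.mpr hx⟩
  let e := AlgEquiv.ofBijective fbar hbij
  let g : Y →ₐ[k] X ⧸ J := e.symm.toAlgHom.comp (Ideal.Quotient.mkₐ k J')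
  let ψ : Y →ₐ[k] X := Algebra.FormallySmooth.lift J hJ g
  have hψ : ∀ y, Ideal.Quotient.mk J (ψ y) = g y := Algebra.FormallySmooth.mk_lift J hJ g
  have hcomp : ψ.comp f = AlgHom.id k X := by
    apply Algebra.FormallyUnramified.ext J hJ
    intro x
    show Ideal.Quotient.mk J (ψ (f x)) = Ideal.Quotient.mk J x
    rw [hψ]
    show e.symm (Ideal.Quotient.mk J' (f x)) = _
    rw [← hfbar]
    exact e.symm_apply_apply (Ideal.Quotient.mk J x)
  intro x y hxy
  have := congrArg ψ hxy
  have h1 : ∀ z, ψ (f z) = z := fun z => AlgHom.congr_fun hcomp z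
  rwa [h1, h1] at this

end Thick

end Groth.Agent.Helper7.HfpSurj
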