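import Mathlib
import Groth.Agent.Lib.Helper7.Hens.HfpSurj2
import Groth.Agent.Lib.Helper7.Hens.FinPresHom
import Groth.Agent.Lib.Helper7.Hens.QuotPow
import Groth.Agent.Lib.Helper7.Hens.Unique
import Groth.Agent.Lib.Helper7.CAlg.EtaleLift

set_option autoImplicit false
set_option linter.style.haveILetI false
set_option linter.unusedVariables false
set_option linter.unusedSectionVars false

open TensorProduct

/-! helper7: hfp maps with etale truncations are quotients of h-etale algebras by finitely generated ideals inside all powers of I. -/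

namespace Groth.Agent.Helper7.HfpEtale

open Groth.Agent.Helper7.Hensel Groth.Agent.Helper7.Hens Groth.Agent.Helper7.HfpSurj

universe u

/-- Lifting residue maps out of an etale algebra into a henselian pair. -/
theorem exists_lift_etale_of_gabber {A : Type u} [CommRing A] (R : Type u) [CommRing R]
    [Algebra A R] [Algebra.Etale A R] (B : Type u) [CommRing B] [Algebra A B] (J : Ideal B)
    (hG : Gabber B J) (s₀ : R →ₐ[A] B ⧸ J) :
    ∃ τ : R →ₐ[A] B, ∀ r, Ideal.Quotient.mk J (τ r) = s₀ r := by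
  let σ : B ⊗[A] R →ₐ[B] B ⧸ J :=
    Algebra.TensorProduct.lift (Algebra.ofId B (B ⧸ J)) s₀ (fun _ _ => Commute.all _ _)
  obtain ⟨τ', hτ'⟩ := hG.exists_lift_of_etale (B ⊗[A] R) σ
  refine ⟨(τ'.restrictScalars A).comp Algebra.TensorProduct.includeRight, fun r => ?_⟩
  have := AlgHom.congr_fun hτ' (1 ⊗ₜ r)
  simp only [AlgHom.comp_apply, Ideal.Quotient.mkₐ_eq_mk, σ, Algebra.TensorProduct.lift_tmul,
    map_one, one_mul] at this
  exact this

section Main

variable (A : Type u) [CommRing A] (I : Ideal A) [HenselianRing A I]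
  (R₀ : Type u) [CommRing R₀] [Algebra A R₀] [Algebra.FinitePresentation A R₀]
  (B : Type u) [CommRing B] [Algebra R₀ B] [Algebra A B] [IsScalarTower A R₀ B]
  (hB : Hens2.IsPairHenselization R₀ (I.map (algebraMap A R₀)) B)
  (R : Type u) [CommRing R] [Algebra A R] [Algebra.Etale A R]
  (H : Type u) [CommRing H] [Algebra R H] [Algebra A H] [IsScalarTower A R H]
  (hH : Hens2.IsPairHenselization R (I.map (algebraMap A R)) H)
  (θ : (R ⧸ I.map (algebraMap A R)) ≃ₐ[A] (B ⧸ I.map (algebraMap A B)))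

include hB hH θ in
/-- The comparison map from the henselization of an etale lift. -/
theorem exists_comparison :
    ∃ φ : H →ₐ[A] B, (∀ x : H, φ x ∈ I.map (algebraMap A B) → x ∈ I.map (algebraMap A H)) ∧
      ∀ b : B, ∃ x : H, φ x - b ∈ I.map (algebraMap A B) := by
  have hIB : (I.map (algebraMap A R₀)).map (algebraMap R₀ B) = I.map (algebraMap A B) := by
    rw [Ideal.map_map, ← IsScalarTower.algebraMap_eq]
  have hIH : (I.map (algebraMap A R)).map (algebraMap R H) = I.map (algebraMap A H) := by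
    rw [Ideal.map_map, ← IsScalarTower.algebraMap_eq]
  have hHensB : HenselianRing B (I.map (algebraMap A B)) := hIB ▸ hB.1
  have hGB : Gabber B (I.map (algebraMap A B)) := Gabber.of_henselianRing hHensB
  let s₀ : R →ₐ[A] B ⧸ I.map (algebraMap A B) :=
    θ.toAlgHom.comp (Ideal.Quotient.mkₐ A (I.map (algebraMap A R)))
  obtain ⟨τ, hτ⟩ := exists_lift_etale_of_gabber R B _ hGB s₀
  have hle : (I.map (algebraMap A R)).map τ.toRingHom ≤ I.map (algebraMap A B) := by
    rw [Ideal.map_map]
    apply le_of_eq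
    congr 1
    ext a
    exact τ.commutes a
  obtain ⟨g, hg, -⟩ := hH.2 B (I.map (algebraMap A B)) τ.toRingHom hHensB hle
  have hgr : ∀ r : R, g (algebraMap R H r) = τ r := fun r => RingHom.congr_fun hg r
  let φ : H →ₐ[A] B :=
    { g with
      commutes' := by
        intro a
        show g (algebraMap A H a) = algebraMap A B a
        rw [IsScalarTower.algebraMap_apply A R H, hgr, AlgHom.commutes] }
  have hφr : ∀ r : R, φ (algebraMap R H r) = τ r := hgr
  have hφI : ∀ x ∈ I.map (algebraMap A H), φ x ∈ I.map (algebraMap A B) := fun x hx =>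
    algHom_mem_map φ hx
  refine ⟨φ, ?_, ?_⟩
  · intro x hx
    obtain ⟨rbar, hr⟩ := (quotient_bijective_of_isPairHenselization hH).2 (Ideal.Quotient.mk _ x)
    obtain ⟨r, rfl⟩ := Ideal.Quotient.mk_surjective rbar
    rw [Ideal.quotientMap_mk, Ideal.Quotient.eq, hIH] at hr
    have h1 : φ (algebraMap R H r) ∈ I.map (algebraMap A B) := by
      have := hφI _ hr
      rw [map_sub] at this
      have h2 := Ideal.add_mem _ this hx
      rwa [sub_add_cancel] at h2
    rw [hφr] at h1
    have h2 : s₀ r = 0 := by rw [← hτ]; exact Ideal.Quotient.eq_zero_iff_mem.mpr h1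
    have h3 : (Ideal.Quotient.mk (I.map (algebraMap A R)) r) = 0 := by
      apply θ.injective
      rw [map_zero]
      exact h2
    have h4 : algebraMap R H r ∈ I.map (algebraMap A H) := by
      rw [← hIH]
      exact Ideal.mem_map_of_mem _ (Ideal.Quotient.eq_zero_iff_mem.mp h3)
    have h5 := Ideal.sub_mem _ h4 hr
    rwa [sub_sub_cancel] at h5
  · intro b
    obtain ⟨rbar, hr⟩ := θ.surjective (Ideal.Quotient.mk _ b)
    obtain ⟨r, rfl⟩ := Ideal.Quotient.mk_surjective rbar
    refine ⟨algebraMap R H r, ?_⟩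
    rw [hφr, ← Ideal.Quotient.eq, hτ]
    exact hr

include hB hH in
theorem comparison_surjective (φ : H →ₐ[A] B)
    (hsurj : ∀ b : B, ∃ x : H, φ x - b ∈ I.map (algebraMap A B)) :
    Function.Surjective φ ∧ (RingHom.ker φ.toRingHom).FG := by
  have hIH : (I.map (algebraMap A R)).map (algebraMap R H) = I.map (algebraMap A H) := by
    rw [Ideal.map_map, ← IsScalarTower.algebraMap_eq]
  letI algHB : Algebra H B := φ.toRingHom.toAlgebra
  haveI : IsScalarTower A H B := IsScalarTower.of_algebraMap_eq (fun a => (φ.commutes a).symm)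
  haveI : Algebra.FinitePresentation A R := inferInstance
  obtain ⟨T, _, _, _, _, hTfp, hT⟩ := exists_finitePresentation_hom A I R H hH R₀ B hB
  haveI : HenselianRing H (I.map (algebraMap A H)) := hIH ▸ hH.1
  have hIHB : (I.map (algebraMap A H)).map (algebraMap H B) = I.map (algebraMap A B) := by
    rw [Ideal.map_map, ← IsScalarTower.algebraMap_eq]
  have hsurj' : Function.Surjective (Ideal.quotientMap ((I.map (algebraMap A H)).map
      (algebraMap H B)) (algebraMap H B) Ideal.le_comap_map) := by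
    intro y
    obtain ⟨b, rfl⟩ := Ideal.Quotient.mk_surjective y
    obtain ⟨x, hx⟩ := hsurj b
    refine ⟨Ideal.Quotient.mk _ x, ?_⟩
    rw [Ideal.quotientMap_mk, Ideal.Quotient.eq, hIHB]
    exact hx
  exact surjective_and_ker_fg H (I.map (algebraMap A H)) T B hT hsurj'

include hH in
theorem comparison_ker_le (φ : H →ₐ[A] B)
    (hinj : ∀ x : H, φ x ∈ I.map (algebraMap A B) → x ∈ I.map (algebraMap A H))
    (hsurj : ∀ b : B, ∃ x : H, φ x - b ∈ I.map (algebraMap A B))
    (hsm : ∀ r : ℕ, 1 ≤ r →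
      Algebra.FormallySmooth (A ⧸ I ^ r) (B ⧸ (I ^ r).map (algebraMap A B)))
    (n : ℕ) : RingHom.ker φ.toRingHom ≤ (I ^ n).map (algebraMap A H) := by
  rcases Nat.eq_zero_or_pos n with rfl | hn
  · rw [pow_zero, Ideal.one_eq_top, Ideal.map_top]; exact le_top
  have hpowle : I ^ n ≤ I := Ideal.pow_le_self (by omega)
  have hφI : ∀ (K : Ideal A), ∀ x ∈ K.map (algebraMap A H), φ x ∈ K.map (algebraMap A B) :=
    fun K x hx => algHom_mem_map φ hx
  have hle : (I ^ n).map (algebraMap A H) ≤
      ((I ^ n).map (algebraMap A B)).comap φ.toRingHom := fun x hx => hφI _ x hx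
  let f₀ : (H ⧸ (I ^ n).map (algebraMap A H)) →+* (B ⧸ (I ^ n).map (algebraMap A B)) :=
    Ideal.quotientMap _ φ.toRingHom hle
  have hf₀ : ∀ x : H, f₀ (Ideal.Quotient.mk _ x) = Ideal.Quotient.mk _ (φ x) := fun x => rfl
  let f : (H ⧸ (I ^ n).map (algebraMap A H)) →ₐ[A ⧸ I ^ n] (B ⧸ (I ^ n).map (algebraMap A B)) :=
    { f₀ with
      commutes' := by
        intro x
        obtain ⟨a, rfl⟩ := Ideal.Quotient.mk_surjective x
        change f₀ (Ideal.Quotient.mk _ (algebraMap A H a)) =
          Ideal.Quotient.mk _ (algebraMap A B a)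
        rw [hf₀, AlgHom.commutes] }
  have hf : ∀ x : H, f (Ideal.Quotient.mk _ x) = Ideal.Quotient.mk _ (φ x) := fun x => rfl
  haveI := hsm n hn
  haveI : Algebra.Etale (A ⧸ I ^ n) (H ⧸ (I ^ n).map (algebraMap A H)) :=
    etale_quotient_pow A I R H hH n
  let J : Ideal (H ⧸ (I ^ n).map (algebraMap A H)) :=
    (I.map (algebraMap A H)).map (Ideal.Quotient.mk _)
  let J' : Ideal (B ⧸ (I ^ n).map (algebraMap A B)) :=
    (I.map (algebraMap A B)).map (Ideal.Quotient.mk _)
  have hJnil : IsNilpotent J := by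
    refine ⟨n, ?_⟩
    show J ^ n = ⊥
    rw [← Ideal.map_pow, ← Ideal.map_pow, Ideal.map_quotient_self]
  have hmemJ : ∀ x : H, Ideal.Quotient.mk ((I ^ n).map (algebraMap A H)) x ∈ J ↔
      x ∈ I.map (algebraMap A H) := by
    intro x
    constructor
    · intro hx
      obtain ⟨h, hh, hhx⟩ :=
        (Ideal.mem_map_iff_of_surjective _ Ideal.Quotient.mk_surjective).mp hx
      have h1 : h - x ∈ (I ^ n).map (algebraMap A H) := Ideal.Quotient.eq.mp hhx
      have h2 : h - x ∈ I.map (algebraMap A H) := Ideal.map_mono hpowle h1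
      have h3 := Ideal.sub_mem _ hh h2
      rwa [sub_sub_cancel] at h3
    · intro hx
      exact Ideal.mem_map_of_mem _ hx
  have hmemJ' : ∀ x : B, Ideal.Quotient.mk ((I ^ n).map (algebraMap A B)) x ∈ J' ↔
      x ∈ I.map (algebraMap A B) := by
    intro x
    constructor
    · intro hx
      obtain ⟨h, hh, hhx⟩ :=
        (Ideal.mem_map_iff_of_surjective _ Ideal.Quotient.mk_surjective).mp hx
      have h1 : h - x ∈ (I ^ n).map (algebraMap A B) := Ideal.Quotient.eq.mp hhx
      have h2 : h - x ∈ I.map (algebraMap A B) := Ideal.map_mono hpowle h1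
      have h3 := Ideal.sub_mem _ hh h2
      rwa [sub_sub_cancel] at h3
    · intro hx
      exact Ideal.mem_map_of_mem _ hx
  have hfinj : Function.Injective f := by
    apply injective_of_formallySmooth f J hJnil J'
    · intro x hx
      obtain ⟨x, rfl⟩ := Ideal.Quotient.mk_surjective x
      rw [hf, hmemJ']
      exact hφI I x ((hmemJ x).mp hx)
    · intro x hx
      obtain ⟨x, rfl⟩ := Ideal.Quotient.mk_surjective x
      rw [hf, hmemJ'] at hx
      exact (hmemJ x).mpr (hinj x hx)
    · intro y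
      obtain ⟨b, rfl⟩ := Ideal.Quotient.mk_surjective y
      obtain ⟨x, hx⟩ := hsurj b
      refine ⟨Ideal.Quotient.mk _ x, ?_⟩
      rw [hf, ← map_sub, hmemJ']
      exact hx
  intro x hx
  have hx0 : φ x = 0 := hx
  have h1 : f (Ideal.Quotient.mk _ x) = 0 := by rw [hf, hx0, map_zero]
  have h2 := (injective_iff_map_eq_zero f).mp hfinj _ h1
  exact Ideal.Quotient.eq_zero_iff_mem.mp h2

end Main

theorem S17598_main (A : Type u) [CommRing A] (I : Ideal A)
    [HenselianRing A I] (R₀ : Type u) [CommRing R₀] [Algebra A R₀] [Algebra.FinitePresentation A R₀]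
    (B : Type u) [CommRing B] [Algebra R₀ B] [Algebra A B] [IsScalarTower A R₀ B]
    (hB : Hens2.IsPairHenselization R₀ (I.map (algebraMap A R₀)) B)
    (het : ∀ r : ℕ, 1 ≤ r → Algebra.Etale (A ⧸ I ^ r) (B ⧸ (I ^ r).map (algebraMap A B))) :
    ∃ (R : Type u) (_ : CommRing R) (_ : Algebra A R) (H : Type u) (_ : CommRing H) (_ : Algebra R H)
      (_ : Algebra A H) (_ : IsScalarTower A R H),
      Algebra.Etale A R ∧ Hens2.IsPairHenselization R (I.map (algebraMap A R)) H ∧
      ∃ φ : H →ₐ[A] B, Function.Surjective φ ∧ (RingHom.ker φ).FG ∧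
        ∀ n : ℕ, RingHom.ker φ ≤ (I ^ n).map (algebraMap A H) := by
  haveI := het 1 le_rfl
  obtain ⟨R, _, _, hRet, ⟨θ₀⟩⟩ := Groth.Agent.Helper7.EtaleLift.exists_etale_lift A (I ^ 1)
    (B ⧸ (I ^ 1).map (algebraMap A B))
  haveI := hRet
  let θ₁ := Algebra.TensorProduct.quotIdealMapEquivQuotTensor (A := A) R (I ^ 1)
  let θ₂ : (R ⧸ (I ^ 1).map (algebraMap A R)) ≃ₐ[A] (B ⧸ (I ^ 1).map (algebraMap A B)) :=
    (θ₁.trans θ₀).restrictScalars A
  have h₁ : I.map (algebraMap A R) = (I ^ 1).map (algebraMap A R) := by rw [pow_one]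
  have h₂ : (I ^ 1).map (algebraMap A B) = I.map (algebraMap A B) := by rw [pow_one]
  let θ : (R ⧸ I.map (algebraMap A R)) ≃ₐ[A] (B ⧸ I.map (algebraMap A B)) :=
    ((Ideal.quotientEquivAlgOfEq A h₁).trans θ₂).trans (Ideal.quotientEquivAlgOfEq A h₂)
  let H := Hens.H R (I.map (algebraMap A R))
  letI algAH : Algebra A H := ((algebraMap R H).comp (algebraMap A R)).toAlgebra
  haveI : IsScalarTower A R H := IsScalarTower.of_algebraMap_eq (fun _ => rfl)
  have hH : Hens2.IsPairHenselization R (I.map (algebraMap A R)) H := isPairHenselization_H R _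
  obtain ⟨φ, hinj, hsurj⟩ := exists_comparison A I R₀ B hB R H hH θ
  obtain ⟨hφsurj, hφfg⟩ := comparison_surjective A I R₀ B hB R H hH φ hsurj
  refine ⟨R, inferInstance, inferInstance, H, inferInstance, inferInstance, algAH, inferInstance,
    hRet, hH, φ, hφsurj, hφfg, fun n => ?_⟩
  exact comparison_ker_le A I B R H hH φ hinj hsurj (fun r hr => by
    haveI := het r hr
    infer_instance) n

end Groth.Agent.Helper7.HfpEtale
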