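import Mathlib
import Groth.Agent.Lib.Helper7.Hens.HfpFinite

set_option linter.style.haveILetI false
set_option linter.unusedVariables false
set_option linter.unusedSectionVars false

/-! helper7: an idempotent of B/IB cutting out a finite factor is lifted by an element of the integral closure at which the integral closure and B have the same localization (Zariski main theorem). -/

namespace Groth.Agent.Helper7.IntClosIdem

open Groth.Agent.Helper7.HfpFinite

universe u

variable {A B : Type u} [CommRing A] [CommRing B] [Algebra A B]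

/-- Quasi-finiteness at the primes containing an ideal `K ⊇ IB` for which `B/K` is finite and
which is cut out modulo `IB` by an idempotent. -/
theorem quasiFiniteAt_of_idempotent [Algebra.FiniteType A B] (I : Ideal A) (ε : B)
    (hε : ε * (1 - ε) ∈ I.map (algebraMap A B)) (K : Ideal B)
    (hK : K = I.map (algebraMap A B) ⊔ Ideal.span {1 - ε}) [Module.Finite A (B ⧸ K)]
    (q : Ideal B) [q.IsPrime] (hq : K ≤ q) : Algebra.QuasiFiniteAt A q := by
  have hIq : I.map (algebraMap A B) ≤ q := le_trans (hK ▸ le_sup_left) hq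
  have h1εq : 1 - ε ∈ q := hq (hK ▸ (le_sup_right : Ideal.span {1 - ε} ≤ _)
    (Ideal.subset_span rfl))
  have hεq : ε ∉ q := by
    intro h
    have : (1 : B) ∈ q := by
      have := q.add_mem h h1εq
      rwa [add_sub_cancel] at this
    exact (Ideal.IsPrime.ne_top ‹_›) ((Ideal.eq_top_iff_one _).mpr this)
  let Bq := Localization.AtPrime q
  let P : Ideal Bq := (q.under A).map (algebraMap A Bq)
  let T := Bq ⧸ P
  let φ : B →ₐ[A] T := (Ideal.Quotient.mkₐ A P).comp (IsScalarTower.toAlgHom A B Bq)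
  have hφI : ∀ x ∈ I.map (algebraMap A B), φ x = 0 := by
    intro x hx
    have hle : I.map (algebraMap A B) ≤ RingHom.ker φ.toRingHom := by
      rw [Ideal.map_le_iff_le_comap]
      intro a ha
      rw [Ideal.mem_comap, RingHom.mem_ker]
      change φ (algebraMap A B a) = 0
      rw [φ.commutes]
      change Ideal.Quotient.mk P (algebraMap A Bq a) = 0
      rw [Ideal.Quotient.eq_zero_iff_mem]
      apply Ideal.mem_map_of_mem
      exact hIq (Ideal.mem_map_of_mem _ ha)
    exact hle hx
  have hφε : IsUnit (φ ε) := by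
    have : IsUnit (algebraMap B Bq ε) :=
      IsLocalization.map_units Bq (⟨ε, hεq⟩ : q.primeCompl)
    exact this.map (Ideal.Quotient.mk P)
  have hφ1ε : φ (1 - ε) = 0 := by
    have h := hφI _ hε
    rw [map_mul] at h
    exact (hφε.mul_right_eq_zero).mp h
  have hφK : ∀ k ∈ K, φ k = 0 := by
    intro k hk
    rw [hK] at hk
    obtain ⟨x, hx, y, hy, rfl⟩ := Submodule.mem_sup.mp hk
    obtain ⟨c, rfl⟩ := Ideal.mem_span_singleton'.mp hy
    rw [map_add, hφI x hx, map_mul, hφ1ε, mul_zero, add_zero]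
  let f : B ⧸ K →ₐ[A] T := Ideal.Quotient.liftₐ K φ hφK
  have hfmk : ∀ b : B, f (Ideal.Quotient.mk K b) = φ b := fun b => rfl
  haveI : Algebra.QuasiFinite A T := by
    refine Algebra.QuasiFinite.of_forall_exists_mul_mem_range f (fun x => ?_)
    obtain ⟨x, rfl⟩ := Ideal.Quotient.mk_surjective x
    obtain ⟨b, s, rfl⟩ := IsLocalization.exists_mk'_eq q.primeCompl x
    refine ⟨Ideal.Quotient.mk K s, ?_, Ideal.Quotient.mk K b, ?_⟩
    · rw [hfmk]
      exact (IsLocalization.map_units Bq s).map (Ideal.Quotient.mk P)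
    · change f (Ideal.Quotient.mk K b) = _ * f (Ideal.Quotient.mk K s)
      rw [hfmk, hfmk]
      change Ideal.Quotient.mk P (algebraMap B Bq b) =
        Ideal.Quotient.mk P (IsLocalization.mk' Bq b s) * Ideal.Quotient.mk P (algebraMap B Bq s)
      rw [← map_mul, IsLocalization.mk'_spec]
  haveI : Algebra.WeaklyQuasiFiniteAt A q := (Algebra.weaklyQuasiFiniteAt_iff (R := A) q).mpr this
  exact Algebra.QuasiFiniteAt.of_weaklyQuasiFiniteAt q

/-- Localizing the integral closure at a good element gives the localization of the algebra. -/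
theorem bijective_away_of_good (g : integralClosure A B) (hg : (g : B) ∈ good A B) :
    Function.Bijective (algebraMap (Localization.Away g)
      (Localization (Algebra.algebraMapSubmonoid B (Submonoid.powers g)))) := by
  constructor
  · exact localizationAlgebra_injective (M := Submonoid.powers g) (S := B) (Localization.Away g)
      (Localization (Algebra.algebraMapSubmonoid B (Submonoid.powers g))) Subtype.val_injective
  · intro y
    obtain ⟨b, ⟨s, hs⟩, rfl⟩ := IsLocalization.exists_mk'_eq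
      (Algebra.algebraMapSubmonoid B (Submonoid.powers g)) y
    obtain ⟨_, ⟨n, rfl⟩, rfl⟩ := hs
    obtain ⟨m, hm⟩ := hg.2 b
    let b' : integralClosure A B := ⟨(g : B) ^ m * b, hm⟩
    refine ⟨IsLocalization.mk' (Localization.Away g) b'
      (⟨g ^ (m + n), ⟨m + n, rfl⟩⟩ : Submonoid.powers g), ?_⟩
    rw [localizationAlgebraMap_def, IsLocalization.map_mk']
    apply IsLocalization.mk'_eq_of_eq
    change algebraMap (integralClosure A B) B (g ^ (m + n)) * b =
      algebraMap (integralClosure A B) B (g ^ n) * ((g : B) ^ m * b)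
    rw [map_pow, map_pow]
    change (g : B) ^ (m + n) * b = (g : B) ^ n * ((g : B) ^ m * b)
    rw [pow_add]
    ring

theorem pow_mem_good {r : B} (hr : r ∈ good A B) {M : ℕ} (hM : 0 < M) : r ^ M ∈ good A B := by
  obtain ⟨k, rfl⟩ := Nat.exists_eq_succ_of_ne_zero hM.ne'
  rw [pow_succ]
  exact mul_mem_good hr (hr.1.pow k)

/-- Multiplying elements of `IB` into `I B'` by powers of a good element. -/
theorem exists_pow_mul_mem (I : Ideal A) {r : B} (hr : r ∈ good A B)
    (z : B) (hz : z ∈ I.map (algebraMap A B)) :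
    ∃ N : ℕ, ∃ w ∈ I.map (algebraMap A (integralClosure A B)), (w : B) = r ^ N * z := by
  let r' : integralClosure A B := ⟨r, hr.1⟩
  induction hz using Submodule.span_induction with
  | mem z hz =>
    obtain ⟨a, ha, rfl⟩ := hz
    exact ⟨0, algebraMap A _ a, Ideal.mem_map_of_mem _ ha, by rw [pow_zero, one_mul]; rfl⟩
  | zero => exact ⟨0, 0, Ideal.zero_mem _, by simp⟩
  | add x y _ _ hx hy =>
    obtain ⟨N₁, w₁, hw₁, h₁⟩ := hx
    obtain ⟨N₂, w₂, hw₂, h₂⟩ := hy
    refine ⟨N₁ + N₂, r' ^ N₂ * w₁ + r' ^ N₁ * w₂,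
      Ideal.add_mem _ (Ideal.mul_mem_left _ _ hw₁) (Ideal.mul_mem_left _ _ hw₂), ?_⟩
    push_cast
    rw [h₁, h₂, pow_add]
    change r ^ N₂ * (r ^ N₁ * x) + r ^ N₁ * (r ^ N₂ * y) = _
    ring
  | smul c x _ hx =>
    obtain ⟨N, w, hw, h⟩ := hx
    obtain ⟨N', hc⟩ := hr.2 c
    refine ⟨N' + N, ⟨_, hc⟩ * w, Ideal.mul_mem_left _ _ hw, ?_⟩
    push_cast
    rw [h, pow_add, smul_eq_mul]
    ring

/-- The statement S9313. -/
theorem S9313_main (A B : Type u) [CommRing A] [CommRing B]
    [Algebra A B] [Algebra.FiniteType A B] (I : Ideal A) (e : B ⧸ Ideal.map (algebraMap A B) I)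
    (he : IsIdempotentElem e)
    (hfin : Module.Finite (A ⧸ I) ((B ⧸ Ideal.map (algebraMap A B) I) ⧸ Ideal.span {1 - e})) :
    ∃ g : integralClosure A B,
      IsIdempotentElem (Ideal.Quotient.mk (Ideal.map (algebraMap A (integralClosure A B)) I) g) ∧
      Ideal.Quotient.mk (Ideal.map (algebraMap A B) I) (g : B) = e ∧
      Function.Bijective (algebraMap (Localization.Away g)
        (Localization (Algebra.algebraMapSubmonoid B (Submonoid.powers g)))) := by
  classical
  obtain ⟨ε, rfl⟩ := Ideal.Quotient.mk_surjective e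
  set IB : Ideal B := Ideal.map (algebraMap A B) I with hIB
  have hε : ε * (1 - ε) ∈ IB := by
    rw [← Ideal.Quotient.eq_zero_iff_mem, map_mul, map_sub, map_one, mul_sub, mul_one, he.eq,
      sub_self]
  let K : Ideal B := IB ⊔ Ideal.span {1 - ε}
  have hle : IB ≤ K := le_sup_left
  -- finiteness of `B ⧸ K`
  haveI hfinK : Module.Finite A (B ⧸ K) := by
    haveI : Module.Finite A ((B ⧸ IB) ⧸ Ideal.span {1 - Ideal.Quotient.mk IB ε}) :=
      Module.Finite.trans (A ⧸ I) _
    let ψ : (B ⧸ IB) ⧸ Ideal.span {1 - Ideal.Quotient.mk IB ε} →ₐ[A] B ⧸ K :=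
      Ideal.Quotient.liftₐ _ (Ideal.Quotient.factorₐ A hle) (by
        intro x hx
        obtain ⟨c, rfl⟩ := Ideal.mem_span_singleton'.mp hx
        obtain ⟨c, rfl⟩ := Ideal.Quotient.mk_surjective c
        rw [← map_one (Ideal.Quotient.mk IB), ← map_sub, ← map_mul]
        change Ideal.Quotient.mk K (c * (1 - ε)) = 0
        rw [Ideal.Quotient.eq_zero_iff_mem]
        exact Ideal.mul_mem_left _ _ ((le_sup_right : Ideal.span {1 - ε} ≤ K)
          (Ideal.subset_span rfl)))
    refine Module.Finite.of_surjective ψ.toLinearMap ?_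
    intro y
    obtain ⟨b, rfl⟩ := Ideal.Quotient.mk_surjective y
    exact ⟨Ideal.Quotient.mk _ (Ideal.Quotient.mk IB b), rfl⟩
  obtain ⟨Δ, hΔ, hΔK⟩ := exists_elem (A := A) (E := B) K
    (fun q _ hq => quasiFiniteAt_of_idempotent I ε hε K rfl q hq)
  -- `Δ` acts as the identity on `e`
  have hΔe : Ideal.Quotient.mk IB Δ * Ideal.Quotient.mk IB ε = Ideal.Quotient.mk IB ε := by
    obtain ⟨x, hx, y, hy, hxy⟩ := Submodule.mem_sup.mp hΔK
    obtain ⟨c, rfl⟩ := Ideal.mem_span_singleton'.mp hy
    have h1 : Δ = 1 + x + c * (1 - ε) := by rw [add_assoc, hxy]; ring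
    rw [h1, map_add, map_add, map_one, Ideal.Quotient.eq_zero_iff_mem.mpr hx, add_zero, add_mul,
      one_mul, map_mul, mul_assoc, ← map_mul, mul_comm (1 - ε) ε,
      Ideal.Quotient.eq_zero_iff_mem.mpr hε, mul_zero, add_zero]
  have hΔke : ∀ k : ℕ, Ideal.Quotient.mk IB Δ ^ k * Ideal.Quotient.mk IB ε =
      Ideal.Quotient.mk IB ε := by
    intro k
    induction k with
    | zero => rw [pow_zero, one_mul]
    | succ k ih => rw [pow_succ, mul_assoc, hΔe, ih]
  obtain ⟨m, hm⟩ := hΔ.2 ε
  set g₀ : B := Δ ^ (m + 1) * ε with hg₀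
  have hg₀good : g₀ ∈ good A B := pow_mul_mem_good hΔ hm (Nat.lt_succ_self m)
  have hg₀e : Ideal.Quotient.mk IB g₀ = Ideal.Quotient.mk IB ε := by
    rw [hg₀, map_mul, map_pow, hΔke]
  have hz : g₀ * g₀ - g₀ ∈ IB := by
    rw [← Ideal.Quotient.eq_zero_iff_mem, map_sub, map_mul, hg₀e, he.eq, sub_self]
  obtain ⟨N, w, hw, hweq⟩ := exists_pow_mul_mem I hg₀good _ hz
  let g₀' : integralClosure A B := ⟨g₀, hg₀good.1⟩
  set IB' : Ideal (integralClosure A B) := Ideal.map (algebraMap A (integralClosure A B)) I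
    with hIB'
  let γ : (integralClosure A B) ⧸ IB' := Ideal.Quotient.mk IB' g₀'
  have hrel : g₀' ^ N * (g₀' * g₀' - g₀') ∈ IB' := by
    have : g₀' ^ N * (g₀' * g₀' - g₀') = w := by
      apply Subtype.ext
      rw [hweq]
      rfl
    rw [this]
    exact hw
  have hγ : γ ^ (N + 1 + 1) = γ ^ (N + 1) := by
    have h1 : γ ^ N * (γ * γ - γ) = 0 := by
      have := Ideal.Quotient.eq_zero_iff_mem.mpr hrel
      rwa [map_mul, map_pow, map_sub, map_mul] at this
    rw [pow_succ, pow_succ]
    linear_combination h1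
  have hγk : ∀ k : ℕ, γ ^ (N + 1 + k) = γ ^ (N + 1) := by
    intro k
    induction k with
    | zero => rfl
    | succ k ih => rw [← add_assoc, pow_succ, ih, ← pow_succ, hγ]
  refine ⟨g₀' ^ (N + 1), ?_, ?_, ?_⟩
  · change Ideal.Quotient.mk IB' (g₀' ^ (N + 1)) * Ideal.Quotient.mk IB' (g₀' ^ (N + 1)) =
      Ideal.Quotient.mk IB' (g₀' ^ (N + 1))
    rw [map_pow, ← pow_add]
    exact hγk (N + 1)
  · change Ideal.Quotient.mk IB (g₀ ^ (N + 1)) = _
    rw [map_pow, hg₀e]
    exact he.pow_succ_eq N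
  · exact bijective_away_of_good (g₀' ^ (N + 1)) (pow_mem_good hg₀good (Nat.succ_pos N))

end Groth.Agent.Helper7.IntClosIdem
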