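import Mathlib
import Groth.Prelude.Def_Hens2
import Groth.Agent.Lib.Helper7.Hensel.SmallerIdeal
import Groth.Agent.Lib.Helper7.Hensel.IdemLift
import Groth.Agent.Lib.Helper7.Hensel.Iff

/-! helper7: products of henselian pairs; idempotents of a product of henselizations at comaximal ideals. -/

set_option autoImplicit false
set_option linter.style.haveILetI false
set_option linter.unusedVariables false
set_option linter.unusedSectionVars false

open Polynomial

namespace Groth.Agent.Helper7.PairCRT

open Groth.Agent.Helper7.Hensel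

universe u

/-- A product of henselian pairs is a henselian pair. -/
theorem henselianRing_pi {ι : Type*} (R : ι → Type u) [∀ i, CommRing (R i)]
    (J : ∀ i, Ideal (R i)) (h : ∀ i, HenselianRing (R i) (J i)) :
    HenselianRing (∀ i, R i) (Ideal.pi J) := by
  constructor
  · intro x hx
    rw [Ideal.mem_jacobson_bot]
    intro y
    rw [Pi.isUnit_iff]
    intro i
    have h1 := (h i).jac (hx i)
    rw [Ideal.mem_jacobson_bot] at h1
    exact h1 (y i)
  · intro f hf a₀ h₁ h₂
    have hev : ∀ (g : (∀ i, R i)[X]) (a : ∀ i, R i) (i : ι),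
        (g.map (Pi.evalRingHom R i)).eval (a i) = (g.eval a) i := fun g a i =>
      Polynomial.eval_map_apply (Pi.evalRingHom R i) a
    have hroot : ∀ i, ∃ a : R i, (f.map (Pi.evalRingHom R i)).IsRoot a ∧ a - a₀ i ∈ J i := by
      intro i
      apply (h i).is_henselian _ (hf.map _) (a₀ i)
      · rw [hev]
        exact h₁ i
      · obtain ⟨u, hu⟩ := h₂.exists_right_inv
        obtain ⟨v, rfl⟩ := Ideal.Quotient.mk_surjective u
        rw [← map_mul, ← map_one (Ideal.Quotient.mk (Ideal.pi J)), Ideal.Quotient.eq] at hu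
        have hu' := hu i
        rw [Polynomial.derivative_map, hev]
        apply IsUnit.of_mul_eq_one (Ideal.Quotient.mk (J i) (v i))
        rw [← map_mul, ← map_one (Ideal.Quotient.mk (J i)), Ideal.Quotient.eq]
        exact hu'
    choose a ha1 ha2 using hroot
    refine ⟨a, ?_, fun i => ha2 i⟩
    show f.eval a = 0
    funext i
    rw [← hev]
    exact ha1 i

variable {A : Type u} [CommRing A] {ι : Type} [Fintype ι] [DecidableEq ι] (I : ι → Ideal A)
  (Bi : ι → Type u) [∀ i, CommRing (Bi i)] [∀ i, Algebra A (Bi i)]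

theorem map_iInf_le_pi :
    (⨅ i, I i).map (algebraMap A (∀ i, Bi i)) ≤
      Ideal.pi (fun i => (I i).map (algebraMap A (Bi i))) := by
  rw [Ideal.map_le_iff_le_comap]
  intro k hk i
  exact Ideal.mem_map_of_mem _ ((Ideal.mem_iInf.mp hk) i)

theorem henselianRing_pi_map (hBi : ∀ i, HenselianRing (Bi i) ((I i).map (algebraMap A (Bi i)))) :
    HenselianRing (∀ i, Bi i) ((⨅ i, I i).map (algebraMap A (∀ i, Bi i))) :=
  ((Gabber.of_henselianRing (henselianRing_pi Bi _ hBi)).of_le (map_iInf_le_pi I Bi)).henselianRing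

/-- If `I i` and `I j` are comaximal and `I j B` lies in the Jacobson radical of `B` then the
idempotent of the `j`-th factor lies in `I i P`. -/
theorem single_mem_map (hjac : ∀ i, (I i).map (algebraMap A (Bi i)) ≤ Ideal.jacobson ⊥)
    {i j : ι} (hij : I i ⊔ I j = ⊤) :
    (Pi.single j (1 : Bi j) : ∀ i, Bi i) ∈ (I i).map (algebraMap A (∀ i, Bi i)) := by
  have h1 : (1 : A) ∈ I i ⊔ I j := by rw [hij]; trivial
  obtain ⟨a, ha, a', ha', haa⟩ := Submodule.mem_sup.mp h1
  have h2 : algebraMap A (Bi j) a' ∈ Ideal.jacobson (⊥ : Ideal (Bi j)) :=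
    hjac j (Ideal.mem_map_of_mem _ ha')
  rw [Ideal.mem_jacobson_bot] at h2
  have h3 := h2 (-1)
  have h4 : algebraMap A (Bi j) a' * -1 + 1 = algebraMap A (Bi j) a := by
    have h6 : a = 1 - a' := by rw [← haa]; ring
    rw [h6, map_sub, map_one]; ring
  rw [h4] at h3
  obtain ⟨u, hu⟩ := h3.exists_right_inv
  have h5 : (Pi.single j (1 : Bi j) : ∀ i, Bi i) =
      algebraMap A (∀ i, Bi i) a * Pi.single j u := by
    funext k
    by_cases hk : k = j
    · subst hk
      simp [hu]
    · simp [Pi.single_eq_of_ne hk]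
  rw [h5]
  exact Ideal.mul_mem_right _ _ (Ideal.mem_map_of_mem _ ha)

end Groth.Agent.Helper7.PairCRT
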