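import Mathlib
import Groth.Prelude.Def_Hens2
import Groth.Agent.Lib.Helper7.Hens.PairCRTA
import Groth.Agent.Lib.Helper7.Hensel.Basic

/-! helper7: lifting the CRT idempotents of pairwise comaximal ideals to a henselian pair. -/

set_option autoImplicit false
set_option linter.style.haveILetI false
set_option linter.unusedVariables false
set_option linter.unusedSectionVars false

open Polynomial

namespace Groth.Agent.Helper7.PairCRT

open Groth.Agent.Helper7.Hensel

universe u

variable {A : Type u} [CommRing A] {ι : Type} [Fintype ι] [DecidableEq ι] (I : ι → Ideal A)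

/-- CRT elements for pairwise comaximal ideals. -/
theorem exists_crt_elements (hI : Pairwise fun i j => I i ⊔ I j = ⊤) :
    ∃ a : ι → A, (∀ i, a i - 1 ∈ I i) ∧ (∀ i j, i ≠ j → a i ∈ I j) := by
  have hcop : Pairwise (Function.onFun IsCoprime I) := fun i j hij =>
    Ideal.isCoprime_iff_sup_eq.mpr (hI hij)
  have h := fun i => Ideal.exists_forall_sub_mem_ideal hcop (fun j => if j = i then (1 : A) else 0)
  choose a ha using h
  refine ⟨a, fun i => ?_, fun i j hij => ?_⟩
  · have := ha i i
    simpa using this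
  · have := ha i j
    rw [if_neg (Ne.symm hij), sub_zero] at this
    exact this

variable {I}

/-- Lifting the CRT idempotents to a henselian pair. -/
theorem exists_idempotents {C : Type u} [CommRing C] (f : A →+* C)
    (hG : Gabber C ((⨅ i, I i).map f)) (a : ι → A) (ha1 : ∀ i, a i - 1 ∈ I i)
    (ha2 : ∀ i j, i ≠ j → a i ∈ I j) :
    ∃ e : ι → C, CompleteOrthogonalIdempotents e ∧ ∀ i, e i - f (a i) ∈ (⨅ i, I i).map f := by
  have hK1 : ∀ i, a i * a i - a i ∈ ⨅ i, I i := by
    intro i
    rw [Ideal.mem_iInf]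
    intro k
    by_cases hk : i = k
    · subst hk
      have : a i * a i - a i = a i * (a i - 1) := by ring
      rw [this]
      exact Ideal.mul_mem_left _ _ (ha1 i)
    · exact Ideal.sub_mem _ (Ideal.mul_mem_left _ _ (ha2 i k hk)) (ha2 i k hk)
  have hlift : ∀ i, ∃ e : C, IsIdempotentElem e ∧ e - f (a i) ∈ (⨅ i, I i).map f := by
    intro i
    have hid : IsIdempotentElem (Ideal.Quotient.mk
        (((⨅ i, I i).map f).map (algebraMap C C)) (f (a i))) := by
      show _ * _ = _
      rw [← map_mul, Ideal.Quotient.eq, Algebra.algebraMap_self, Ideal.map_id, ← map_mul,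
        ← map_sub]
      exact Ideal.mem_map_of_mem _ (hK1 i)
    obtain ⟨e, he, hee⟩ := hG.exists_idempotent_lift (B := C) _ hid
    refine ⟨e, he, ?_⟩
    rw [Ideal.Quotient.eq, Algebra.algebraMap_self, Ideal.map_id] at hee
    exact hee
  choose e he hea using hlift
  have hjac : (⨅ i, I i).map f ≤ Ideal.jacobson ⊥ := hG.1
  have hortho : Pairwise (fun i j => e i * e j = 0) := by
    intro i j hij
    apply eq_zero_of_isIdempotentElem_of_mem_jacobson ((he i).mul (he j))
    apply hjac
    have h1 : a i * a j ∈ ⨅ i, I i := by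
      rw [Ideal.mem_iInf]
      intro k
      by_cases hk : i = k
      · subst hk
        exact Ideal.mul_mem_left _ _ (ha2 j i (Ne.symm hij))
      · exact Ideal.mul_mem_right _ _ (ha2 i k hk)
    have h2 : e i * e j = (e i - f (a i)) * e j + f (a i) * (e j - f (a j)) + f (a i * a j) := by
      rw [map_mul]; ring
    rw [h2]
    exact Ideal.add_mem _ (Ideal.add_mem _ (Ideal.mul_mem_right _ _ (hea i))
      (Ideal.mul_mem_left _ _ (hea j))) (Ideal.mem_map_of_mem _ h1)
  have hoi : OrthogonalIdempotents e := ⟨he, hortho⟩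
  have hcomplete : ∑ i, e i = 1 := by
    have hid : IsIdempotentElem (1 - ∑ i, e i) :=
      (hoi.isIdempotentElem_sum (s := Finset.univ)).one_sub
    have h1 : (1 : A) - ∑ i, a i ∈ ⨅ i, I i := by
      rw [Ideal.mem_iInf]
      intro k
      have h3 : (1 : A) - ∑ i, a i = -(a k - 1) - ∑ i ∈ Finset.univ.erase k, a i := by
        rw [← Finset.add_sum_erase _ _ (Finset.mem_univ k)]; ring
      rw [h3]
      apply Ideal.sub_mem _ (Ideal.neg_mem_iff _ |>.mpr (ha1 k))
      apply Ideal.sum_mem
      intro i hi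
      exact ha2 i k (Finset.ne_of_mem_erase hi)
    have h2 : (1 : C) - ∑ i, e i = f (1 - ∑ i, a i) - ∑ i, (e i - f (a i)) := by
      rw [map_sub, map_one, map_sum, Finset.sum_sub_distrib]; ring
    have h4 : (1 : C) - ∑ i, e i ∈ (⨅ i, I i).map f := by
      rw [h2]
      exact Ideal.sub_mem _ (Ideal.mem_map_of_mem _ h1) (Ideal.sum_mem _ (fun i _ => hea i))
    have h5 := eq_zero_of_isIdempotentElem_of_mem_jacobson hid (hjac h4)
    exact (sub_eq_zero.mp h5).symm
  exact ⟨e, ⟨hoi, hcomplete⟩, hea⟩

end Groth.Agent.Helper7.PairCRT
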