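import Mathlib
import Groth.Prelude.Def_Hens2
import Groth.Agent.Lib.Helper7.Hens.PairCRTB
import Groth.Agent.Lib.Helper7.Hens.Unique
import Groth.Agent.Lib.Helper7.Hensel.Integral

/-! helper7: the product of the henselizations at pairwise comaximal ideals is the henselization at their intersection. -/

set_option autoImplicit false
set_option linter.style.haveILetI false
set_option linter.unusedVariables false
set_option linter.unusedSectionVars false

open Polynomial

namespace Groth.Agent.Helper7.PairCRT

open Groth.Agent.Helper7.Hensel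

universe u

variable {A : Type u} [CommRing A] {ι : Type} [Fintype ι] [DecidableEq ι] {I : ι → Ideal A}
  {Bi : ι → Type u} [∀ i, CommRing (Bi i)] [∀ i, Algebra A (Bi i)]

theorem universal (hI : Pairwise fun i j => I i ⊔ I j = ⊤)
    (hBi : ∀ i, Hens2.IsPairHenselization A (I i) (Bi i))
    (C : Type u) [CommRing C] (J : Ideal C) (f : A →+* C) (hC : HenselianRing C J)
    (hf : (⨅ i, I i).map f ≤ J) :
    ∃! g : (∀ i, Bi i) →+* C, g.comp (algebraMap A (∀ i, Bi i)) = f := by
  have hGJ : Gabber C J := Gabber.of_henselianRing hC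
  have hG : Gabber C ((⨅ i, I i).map f) := hGJ.of_le hf
  have hjac : (⨅ i, I i).map f ≤ Ideal.jacobson ⊥ := hG.1
  obtain ⟨a, ha1, ha2⟩ := exists_crt_elements I hI
  obtain ⟨e, he, hea⟩ := exists_idempotents f hG a ha1 ha2
  have hKL : ∀ i, (⨅ i, I i).map f ≤ (I i).map f := fun i => Ideal.map_mono (iInf_le _ i)
  -- basic memberships
  have he1 : ∀ i, e i - 1 ∈ (I i).map f := by
    intro i
    have h1 : e i - 1 = (e i - f (a i)) + f (a i - 1) := by rw [map_sub, map_one]; ring
    rw [h1]
    exact Ideal.add_mem _ (hKL i (hea i)) (Ideal.mem_map_of_mem _ (ha1 i))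
  have he2 : ∀ i j, i ≠ j → e i ∈ (I j).map f := by
    intro i j hij
    have h1 : e i = (e i - f (a i)) + f (a i) := by ring
    rw [h1]
    exact Ideal.add_mem _ (hKL j (hea i)) (Ideal.mem_map_of_mem _ (ha2 i j hij))
  -- multiplying `L i` by `e i` lands in `K C`
  have hmul : ∀ i, ∀ x ∈ (I i).map f, x * e i ∈ (⨅ i, I i).map f := by
    intro i x hx
    have h1 : x * e i = x * (e i - f (a i)) + x * f (a i) := by ring
    rw [h1]
    refine Ideal.add_mem _ (Ideal.mul_mem_left _ _ (hea i)) ?_
    have h2 : x * f (a i) ∈ (I i).map f * (Ideal.span {a i}).map f :=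
      Ideal.mul_mem_mul hx (Ideal.mem_map_of_mem _ (Ideal.subset_span rfl))
    rw [← Ideal.map_mul] at h2
    refine Ideal.map_mono ?_ h2
    rw [Ideal.mul_le]
    intro r hr s hs
    rw [Ideal.mem_iInf]
    intro k
    by_cases hk : i = k
    · subst hk
      exact Ideal.mul_mem_right _ _ hr
    · obtain ⟨t, rfl⟩ := Ideal.mem_span_singleton'.mp hs
      exact Ideal.mul_mem_left _ _ (Ideal.mul_mem_left _ _ (ha2 i k hk))
  have hinf : ∀ x : C, (∀ k, x ∈ (I k).map f) → x ∈ (⨅ i, I i).map f := by
    intro x hx
    have h1 : x = ∑ k, x * e k := by rw [← Finset.mul_sum, he.complete, mul_one]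
    rw [h1]
    exact Ideal.sum_mem _ (fun k _ => hmul k x (hx k))
  -- the factors of `C`
  let Ci : ι → Type u := fun i => C ⧸ Ideal.span {1 - e i}
  let π : ∀ i, C →+* Ci i := fun i => Ideal.Quotient.mk (Ideal.span {1 - e i})
  have hπsurj : ∀ i, Function.Surjective (π i) := fun i => Ideal.Quotient.mk_surjective
  have hπe : ∀ i, π i (e i) = 1 := by
    intro i
    rw [← map_one (π i)]
    apply Ideal.Quotient.eq.mpr
    have : e i - 1 = -(1 - e i) := by ring
    rw [this]
    exact Ideal.neg_mem_iff _ |>.mpr (Ideal.subset_span rfl)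
  have hCi : ∀ i, HenselianRing (Ci i) (J.map (π i)) := by
    intro i
    haveI : Algebra.IsIntegral C (Ci i) := Algebra.isIntegral_of_surjective (hπsurj i)
    exact (hGJ.of_isIntegral (B := Ci i)).henselianRing
  have hfi : ∀ i, (I i).map ((π i).comp f) ≤ J.map (π i) := by
    intro i
    rw [← Ideal.map_map, Ideal.map_le_iff_le_comap]
    intro x hx
    rw [Ideal.mem_comap]
    have h1 : π i x = π i (x * e i) := by rw [map_mul, hπe, mul_one]
    rw [h1]
    exact Ideal.mem_map_of_mem _ (hf (hmul i x hx))
  have hgi := fun i => (hBi i).2 (Ci i) (J.map (π i)) ((π i).comp f) (hCi i) (hfi i)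
  choose gi hgi1 hgi2 using hgi
  have hρ : Function.Bijective (RingHom.pi π) := he.bijective_pi
  let ρ : C ≃+* (∀ i, Ci i) := RingEquiv.ofBijective (RingHom.pi π) hρ
  let G : (∀ i, Bi i) →+* (∀ i, Ci i) :=
    RingHom.pi (fun i => (gi i).comp (Pi.evalRingHom Bi i))
  refine ⟨ρ.symm.toRingHom.comp G, ?_, ?_⟩
  · ext x
    show ρ.symm (G (algebraMap A (∀ i, Bi i) x)) = f x
    rw [RingEquiv.symm_apply_eq]
    funext i
    exact RingHom.congr_fun (hgi1 i) x
  · intro g' hg'
    have hjacB : ∀ i, (I i).map (algebraMap A (Bi i)) ≤ Ideal.jacobson ⊥ := fun i =>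
      (hBi i).1.jac
    have hg'map : ∀ k, ∀ y ∈ (I k).map (algebraMap A (∀ i, Bi i)), g' y ∈ (I k).map f := by
      intro k y hy
      have h1 := Ideal.mem_map_of_mem g' hy
      rw [Ideal.map_map, hg'] at h1
      exact h1
    let ε : ι → (∀ i, Bi i) := fun i => Pi.single i 1
    have hsum : ∑ i, ε i = 1 := Finset.univ_sum_single (1 : ∀ i, Bi i)
    have hεid : ∀ i, IsIdempotentElem (ε i) := by
      intro i
      show Pi.single i (1 : Bi i) * Pi.single i 1 = Pi.single i 1
      rw [← Pi.single_mul, mul_one]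
    have hE2 : ∀ i k, k ≠ i → g' (ε i) ∈ (I k).map f := fun i k hki =>
      hg'map k _ (single_mem_map I Bi hjacB (hI hki))
    have hE1 : ∀ i, g' (ε i) - 1 ∈ (I i).map f := by
      intro i
      have h0 := Finset.add_sum_erase Finset.univ (fun j => g' (ε j)) (Finset.mem_univ i)
      have h1 : (1 : C) = g' (ε i) + ∑ j ∈ Finset.univ.erase i, g' (ε j) := by
        rw [h0, ← map_sum, hsum, map_one]
      have h2 : g' (ε i) - 1 = - ∑ j ∈ Finset.univ.erase i, g' (ε j) := by
        linear_combination (-1 : C) * h1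
      rw [h2]
      refine Ideal.neg_mem_iff _ |>.mpr (Ideal.sum_mem _ (fun j hj => ?_))
      exact hE2 j i (Finset.ne_of_mem_erase hj).symm
    have hEe : ∀ i, g' (ε i) = e i := by
      intro i
      apply idempotent_eq_of_sub_mem_jacobson ((hεid i).map g') (he.idem i)
      apply hjac
      apply hinf
      intro k
      by_cases hk : k = i
      · subst hk
        have : g' (ε k) - e k = (g' (ε k) - 1) - (e k - 1) := by ring
        rw [this]
        exact Ideal.sub_mem _ (hE1 k) (he1 k)
      · exact Ideal.sub_mem _ (hE2 i k hk) (he2 i k (Ne.symm hk))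
    -- the induced maps on factors
    let hi : ∀ i, Bi i →+* Ci i := fun i =>
      { toFun := fun b => π i (g' (Pi.single i b))
        map_one' := by
          show π i (g' (ε i)) = 1
          rw [hEe, hπe]
        map_mul' := fun b b' => by
          show π i (g' (Pi.single i (b * b'))) = _
          rw [Pi.single_mul, map_mul, map_mul]
        map_zero' := by
          show π i (g' (Pi.single i 0)) = 0
          rw [Pi.single_zero, map_zero, map_zero]
        map_add' := fun b b' => by
          show π i (g' (Pi.single i (b + b'))) = _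
          rw [Pi.single_add, map_add, map_add] }
    have hhi : ∀ i, hi i = gi i := by
      intro i
      apply hgi2 i
      ext x
      show π i (g' (Pi.single i (algebraMap A (Bi i) x))) = π i (f x)
      have h1 : (Pi.single i (algebraMap A (Bi i) x) : ∀ i, Bi i) =
          algebraMap A (∀ i, Bi i) x * ε i := by
        funext k
        by_cases hk : k = i
        · subst hk
          simp [ε]
        · simp [ε, Pi.single_eq_of_ne hk]
      rw [h1, map_mul, map_mul, hEe, hπe, mul_one]
      exact congrArg (π i) (RingHom.congr_fun hg' x)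
    refine RingHom.ext (fun x => ?_)
    show g' x = ρ.symm (G x)
    rw [RingEquiv.eq_symm_apply]
    funext i
    show π i (g' x) = gi i (x i)
    rw [← hhi i]
    show π i (g' x) = π i (g' (Pi.single i (x i)))
    have h1 : (Pi.single i (x i) : ∀ i, Bi i) = x * ε i := by
      funext k
      by_cases hk : k = i
      · subst hk
        simp [ε]
      · simp [ε, Pi.single_eq_of_ne hk]
    rw [h1, map_mul, map_mul, hEe, hπe, mul_one]

theorem isPairHenselization_pi (hI : Pairwise fun i j => I i ⊔ I j = ⊤)
    (hBi : ∀ i, Hens2.IsPairHenselization A (I i) (Bi i)) :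
    Hens2.IsPairHenselization A (⨅ i, I i) (∀ i, Bi i) :=
  ⟨henselianRing_pi_map I Bi (fun i => (hBi i).1),
    fun C _ J f hC hf => universal hI hBi C J f hC hf⟩

theorem main {n : ℕ} (I : Fin n → Ideal A)
    (hI : Pairwise fun i j => I i ⊔ I j = ⊤) (B : Type u) [CommRing B] [Algebra A B]
    (hB : Hens2.IsPairHenselization A (⨅ i, I i) B) (Bi : Fin n → Type u)
    [∀ i, CommRing (Bi i)] [∀ i, Algebra A (Bi i)]
    (hBi : ∀ i, Hens2.IsPairHenselization A (I i) (Bi i)) :
    Nonempty (B ≃ₐ[A] ∀ i, Bi i) :=
  Groth.Agent.Helper7.Hens.nonempty_algEquiv_of_isPairHenselization hB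
    (isPairHenselization_pi hI hBi)

end Groth.Agent.Helper7.PairCRT
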